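import Groth.Agent.CubeLib.Cube
import Groth.Agent.PicLib.PicGroup
import Mathlib.AlgebraicGeometry.Geometrically.Irreducible
import Mathlib.FieldTheory.IsAlgClosed.AlgebraicClosure

/-!
# The theorem of the cube over any field
-/

set_option autoImplicit false
set_option backward.isDefEq.respectTransparency.types false

universe u

open CategoryTheory CategoryTheory.Limits MonoidalCategory CartesianMonoidalCategory AlgebraicGeometry Opposite
  TopologicalSpace
open Groth.Agent.PicLib Groth.Agent.AmpleLib Groth.Agent.Coherent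

namespace Groth.Agent.CubeLib

variable {k : Type u} [Field k] {K : Type u} [Field K] (g : Spec (CommRingCat.of K) ⟶ Spec (CommRingCat.of k))

/-- The base change of `A`. -/
noncomputable def bc (A : Over (Spec (CommRingCat.of k))) : Over (Spec (CommRingCat.of K)) :=
  Over.mk (pullback.snd A.hom g)

/-- The projection of the base change. -/
noncomputable def bcFst (A : Over (Spec (CommRingCat.of k))) : (bc g A).left ⟶ A.left := pullback.fst A.hom g

theorem isPullback_bc (A : Over (Spec (CommRingCat.of k))) : IsPullback (bcFst g A) (bc g A).hom A.hom g :=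
  IsPullback.of_hasPullback A.hom g

variable {g} {A B : Over (Spec (CommRingCat.of k))} {A' B' : Over (Spec (CommRingCat.of K))}
  {a : A'.left ⟶ A.left} {b : B'.left ⟶ B.left}

/-- The projection of a product of base changes. -/
noncomputable def bcProd (ha : IsPullback a A'.hom A.hom g) (hb : IsPullback b B'.hom B.hom g) :
    (A' ⊗ B').left ⟶ (A ⊗ B).left :=
  (IsPullback.of_hasPullback A.hom B.hom : IsPullback (fst A B).left (snd A B).left A.hom B.hom).lift
    ((fst A' B').left ≫ a) ((snd A' B').left ≫ b) (by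
      rw [Category.assoc, Category.assoc, ha.w, hb.w, ← Category.assoc, ← Category.assoc, Over.w (fst A' B'),
        Over.w (snd A' B')])

theorem bcProd_fst (ha : IsPullback a A'.hom A.hom g) (hb : IsPullback b B'.hom B.hom g) :
    bcProd ha hb ≫ (fst A B).left = (fst A' B').left ≫ a := IsPullback.lift_fst _ _ _ _

theorem bcProd_snd (ha : IsPullback a A'.hom A.hom g) (hb : IsPullback b B'.hom B.hom g) :
    bcProd ha hb ≫ (snd A B).left = (snd A' B').left ≫ b := IsPullback.lift_snd _ _ _ _

theorem isPullback_bcProd (ha : IsPullback a A'.hom A.hom g) (hb : IsPullback b B'.hom B.hom g) :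
    IsPullback (bcProd ha hb) (A' ⊗ B').hom (A ⊗ B).hom g := by
  have H : IsPullback (fst A B).left (snd A B).left A.hom B.hom := IsPullback.of_hasPullback A.hom B.hom
  have H' : IsPullback (fst A' B').left (snd A' B').left A'.hom B'.hom := IsPullback.of_hasPullback A'.hom B'.hom
  have h1 : IsPullback ((fst A' B').left ≫ a) (snd A' B').left A.hom (b ≫ B.hom) := by
    rw [hb.w]
    exact H'.paste_horiz ha
  rw [← bcProd_fst ha hb] at h1
  have h2 := (IsPullback.of_right h1 (bcProd_snd ha hb) H).paste_vert hb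
  rwa [Over.w (snd A' B'), Over.w (snd A B)] at h2

/-- Morphisms into a product are determined by their projections. -/
theorem hom_ext_prod {P : Scheme.{u}} {φ ψ : P ⟶ (A ⊗ B).left} (h₁ : φ ≫ (fst A B).left = ψ ≫ (fst A B).left)
    (h₂ : φ ≫ (snd A B).left = ψ ≫ (snd A B).left) : φ = ψ :=
  (IsPullback.of_hasPullback A.hom B.hom : IsPullback (fst A B).left (snd A B).left A.hom B.hom).hom_ext h₁ h₂

/-- The base change of a rational point. -/
theorem exists_point (x : 𝟙_ (Over (Spec (CommRingCat.of k))) ⟶ A) (ha : IsPullback a A'.hom A.hom g) :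
    ∃ x' : 𝟙_ (Over (Spec (CommRingCat.of K))) ⟶ A', x'.left ≫ a = g ≫ x.left := by
  refine ⟨Over.homMk (ha.lift (g ≫ x.left) (𝟙 _) ?_) (ha.lift_snd _ _ _), ha.lift_fst _ _ _⟩
  rw [Category.assoc, Over.w x]
  rfl

variable {X Y Z : Over (Spec (CommRingCat.of k))}

theorem toUnit_comp_left {C : Over (Spec (CommRingCat.of k))} {C' : Over (Spec (CommRingCat.of K))} {c : C'.left ⟶ C.left}
    (hc : IsPullback c C'.hom C.hom g) (x : 𝟙_ (Over (Spec (CommRingCat.of k))) ⟶ A)
    (x' : 𝟙_ (Over (Spec (CommRingCat.of K))) ⟶ A') (hx : x'.left ≫ a = g ≫ x.left) :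
    (toUnit C' ≫ x').left ≫ a = c ≫ (toUnit C ≫ x).left := by
  have e : (toUnit C').left = C'.hom := (Category.comp_id _).symm.trans (Over.w (toUnit C'))
  have e' : (toUnit C).left = C.hom := (Category.comp_id _).symm.trans (Over.w (toUnit C))
  rw [Over.comp_left, Over.comp_left, Category.assoc, hx]
  show (toUnit C').left ≫ g ≫ x.left = c ≫ (toUnit C).left ≫ x.left
  rw [e, e']
  exact (Category.assoc _ _ _).symm.trans ((congrArg (· ≫ x.left) hc.w.symm).trans (Category.assoc _ _ _))

variable [IsProper X.hom] [GeometricallyIntegral X.hom] [IsProper Y.hom] [GeometricallyIntegral Y.hom]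
  [LocallyOfFiniteType Z.hom] [GeometricallyIrreducible Z.hom]

/-- The theorem of the cube over a field. -/
theorem eq_one_of_slices_field
    (x₀ : 𝟙_ (Over (Spec (CommRingCat.of k))) ⟶ X) (y₀ : 𝟙_ (Over (Spec (CommRingCat.of k))) ⟶ Y)
    (z₀ : 𝟙_ (Over (Spec (CommRingCat.of k))) ⟶ Z)
    (a : PicM (X ⊗ (Y ⊗ Z)).left)
    (hx : PicM.pull (lift (toUnit (Y ⊗ Z) ≫ x₀) (𝟙 (Y ⊗ Z))).left a = 1)
    (hy : PicM.pull (lift (fst X Z) (lift (toUnit (X ⊗ Z) ≫ y₀) (snd X Z))).left a = 1)
    (hz : PicM.pull (lift (fst X Y) (lift (snd X Y) (toUnit (X ⊗ Y) ≫ z₀))).left a = 1) :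
    a = 1 := by
  let g : Spec (CommRingCat.of (AlgebraicClosure k)) ⟶ Spec (CommRingCat.of k) :=
    Spec.map (CommRingCat.ofHom (algebraMap k (AlgebraicClosure k)))
  let hX := isPullback_bc g X
  let hY := isPullback_bc g Y
  let hZ := isPullback_bc g Z
  let hYZ := isPullback_bcProd hY hZ
  let hP := isPullback_bcProd hX hYZ
  let hXY := isPullback_bcProd hX hY
  let hXZ := isPullback_bcProd hX hZ
  have : IsProper (bc g X).hom := MorphismProperty.of_isPullback hX inferInstance
  have : IsProper (bc g Y).hom := MorphismProperty.of_isPullback hY inferInstance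
  have : GeometricallyIntegral (bc g X).hom := MorphismProperty.of_isPullback hX inferInstance
  have : GeometricallyIntegral (bc g Y).hom := MorphismProperty.of_isPullback hY inferInstance
  have : LocallyOfFiniteType (bc g Z).hom := MorphismProperty.of_isPullback hZ inferInstance
  have : IrreducibleSpace (bc g Z).left := GeometricallyIrreducible.geometrically_irreducibleSpace (f := Z.hom) g _ _ hZ
  obtain ⟨x', hx'⟩ := exists_point x₀ hX
  obtain ⟨y', hy'⟩ := exists_point y₀ hY
  obtain ⟨z', hz'⟩ := exists_point z₀ hZ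
  have key : PicM.pull (bcProd hX hYZ) a = 1 := by
    refine eq_one_of_slices x' y' z' _ ?_ ?_ ?_
    · have e : (lift (toUnit (bc g Y ⊗ bc g Z) ≫ x') (𝟙 _)).left ≫ bcProd hX hYZ =
          bcProd hY hZ ≫ (lift (toUnit (Y ⊗ Z) ≫ x₀) (𝟙 (Y ⊗ Z))).left := by
        refine hom_ext_prod ?_ ?_
        · rw [Category.assoc, Category.assoc, bcProd_fst, ← Category.assoc, ← Over.comp_left, lift_fst,
            ← Over.comp_left, lift_fst]
          exact toUnit_comp_left hYZ x₀ x' hx'
        · rw [Category.assoc, Category.assoc, bcProd_snd, ← Category.assoc, ← Over.comp_left, lift_snd,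
            ← Over.comp_left, lift_snd, Over.id_left, Over.id_left, Category.id_comp, Category.comp_id]
      rw [PicM.pull_pull, e, ← PicM.pull_pull, hx, map_one]
    · have e : (lift (fst (bc g X) (bc g Z)) (lift (toUnit (bc g X ⊗ bc g Z) ≫ y') (snd _ _))).left ≫ bcProd hX hYZ =
          bcProd hX hZ ≫ (lift (fst X Z) (lift (toUnit (X ⊗ Z) ≫ y₀) (snd X Z))).left := by
        refine hom_ext_prod ?_ ?_
        · rw [Category.assoc, Category.assoc, bcProd_fst, ← Category.assoc, ← Over.comp_left, lift_fst,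
            ← Over.comp_left, lift_fst, bcProd_fst]
        · rw [Category.assoc, Category.assoc, bcProd_snd, ← Category.assoc, ← Over.comp_left, lift_snd,
            ← Over.comp_left, lift_snd]
          refine hom_ext_prod ?_ ?_
          · rw [Category.assoc, Category.assoc, bcProd_fst, ← Category.assoc, ← Over.comp_left, lift_fst,
              ← Over.comp_left, lift_fst]
            exact toUnit_comp_left hXZ y₀ y' hy'
          · rw [Category.assoc, Category.assoc, bcProd_snd, ← Category.assoc, ← Over.comp_left, lift_snd,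
              ← Over.comp_left, lift_snd, bcProd_snd]
      rw [PicM.pull_pull, e, ← PicM.pull_pull, hy, map_one]
    · have e : (lift (fst (bc g X) (bc g Y)) (lift (snd (bc g X) (bc g Y)) (toUnit (bc g X ⊗ bc g Y) ≫ z'))).left ≫
          bcProd hX hYZ = bcProd hX hY ≫ (lift (fst X Y) (lift (snd X Y) (toUnit (X ⊗ Y) ≫ z₀))).left := by
        refine hom_ext_prod ?_ ?_
        · rw [Category.assoc, Category.assoc, bcProd_fst, ← Category.assoc, ← Over.comp_left, lift_fst,
            ← Over.comp_left, lift_fst, bcProd_fst]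
        · rw [Category.assoc, Category.assoc, bcProd_snd, ← Category.assoc, ← Over.comp_left, lift_snd,
            ← Over.comp_left, lift_snd]
          refine hom_ext_prod ?_ ?_
          · rw [Category.assoc, Category.assoc, bcProd_fst, ← Category.assoc, ← Over.comp_left, lift_fst,
              ← Over.comp_left, lift_fst, bcProd_snd]
          · rw [Category.assoc, Category.assoc, bcProd_snd, ← Category.assoc, ← Over.comp_left, lift_snd,
              ← Over.comp_left, lift_snd]
            exact toUnit_comp_left hXY z₀ z' hz'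
      rw [PicM.pull_pull, e, ← PicM.pull_pull, hz, map_one]
  -- descend along the cover of the parameter space
  obtain ⟨L, hL, rfl⟩ := PicM.exists_eq_of a
  have : CompactSpace X.left := QuasiCompact.compactSpace_of_compactSpace X.hom
  have : CompactSpace Y.left := QuasiCompact.compactSpace_of_compactSpace Y.hom
  have : QuasiSeparatedSpace X.left := quasiSeparatedSpace_of_quasiSeparated X.hom
  have : QuasiSeparatedSpace Y.left := quasiSeparatedSpace_of_quasiSeparated Y.hom
  have : GeometricallyConnected X.hom := geometricallyConnected_hom X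
  have : GeometricallyConnected Y.hom := geometricallyConnected_hom Y
  let f := (proj₃ X Y Z).left
  have hflat : Flat g := flat_of_field g
  have hgs : Surjective g := ⟨fun y => ⟨IsLocalRing.closedPoint (AlgebraicClosure k),
    Subsingleton.elim (α := PrimeSpectrum k) _ _⟩⟩
  let c := bcFst g Z
  have : Flat c := MorphismProperty.of_isPullback hZ.flip hflat
  have : Surjective c := MorphismProperty.of_isPullback hZ.flip hgs
  have : QuasiCompact c := MorphismProperty.of_isPullback hZ.flip (inferInstanceAs (QuasiCompact g))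
  have hquot := Flat.isQuotientMap_of_surjective c
  have H : IsPullback (bcProd hX hYZ) (proj₃ (bc g X) (bc g Y) (bc g Z)).left f c := by
    refine IsPullback.of_bot (v₂₁ := (bc g Z).hom) (v₂₂ := Z.hom) (h₃₁ := g) ?_ ?_ hZ
    · rw [Over.w, Over.w]
      exact hP
    · show bcProd hX hYZ ≫ ((snd X (Y ⊗ Z)).left ≫ (snd Y Z).left) = _
      rw [← Category.assoc, bcProd_snd, Category.assoc, bcProd_snd, ← Category.assoc]
      rfl
  obtain ⟨hN, hiso⟩ := exists_descend_of_flat_cover f
    (bijective_proj₃_app (AbSchLib.bijective_appTop_of_field k X.hom) (AbSchLib.bijective_appTop_of_field k Y.hom)) hL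
    (fun _ : PUnit.{1} => (bc g Z).left) (fun _ => c) (fun y => ⟨PUnit.unit, Surjective.surj (f := c) y⟩)
    (fun Z' hZ' => hquot.isOpen_preimage.1 (hZ' PUnit.unit))
    (fun _ => 1) (fun _ => by
      rw [map_one]
      refine (congrArg (fun σ => PicM.pull σ (PicM.of hL)) H.isoPullback_inv_fst.symm).trans ?_
      exact (PicM.pull_pull _ _ _).symm.trans ((congrArg (PicM.pull _) key).trans (map_one _)))
  have e : PicM.of hL = PicM.pull f (PicM.of hN) := by
    rw [PicM.pull_of, PicM.of_eq_iff]
    exact ⟨(asIso ((Scheme.Modules.pullbackPushforwardAdjunction f).counit.app L)).symm⟩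
  let σ₀ : Z ⟶ X ⊗ (Y ⊗ Z) := lift (toUnit Z ≫ x₀) (lift (toUnit Z ≫ y₀) (𝟙 Z))
  have hσ₀ : σ₀.left ≫ f = 𝟙 Z.left := by
    show σ₀.left ≫ (proj₃ X Y Z).left = _
    rw [← Over.comp_left, show σ₀ ≫ proj₃ X Y Z = 𝟙 Z by simp [σ₀]]
    rfl
  have hN1 : (PicM.of hN : PicM Z.left) = 1 := by
    have h2 : PicM.pull σ₀.left (PicM.of hL) = 1 := by
      rw [show σ₀ = lift (toUnit Z ≫ y₀) (𝟙 Z) ≫ lift (toUnit (Y ⊗ Z) ≫ x₀) (𝟙 (Y ⊗ Z)) by
        ext1 <;> simp [σ₀], Over.comp_left, ← PicM.pull_pull, hx, map_one]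
    rwa [e, PicM.pull_pull, hσ₀, PicM.pull_id] at h2
  rw [e, hN1, map_one]

/-- Classes agreeing on the three slices are equal. -/
theorem eq_of_slices
    (x₀ : 𝟙_ (Over (Spec (CommRingCat.of k))) ⟶ X) (y₀ : 𝟙_ (Over (Spec (CommRingCat.of k))) ⟶ Y)
    (z₀ : 𝟙_ (Over (Spec (CommRingCat.of k))) ⟶ Z)
    {a b : PicM (X ⊗ (Y ⊗ Z)).left}
    (hx : PicM.pull (lift (toUnit (Y ⊗ Z) ≫ x₀) (𝟙 (Y ⊗ Z))).left a =
      PicM.pull (lift (toUnit (Y ⊗ Z) ≫ x₀) (𝟙 (Y ⊗ Z))).left b)
    (hy : PicM.pull (lift (fst X Z) (lift (toUnit (X ⊗ Z) ≫ y₀) (snd X Z))).left a =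
      PicM.pull (lift (fst X Z) (lift (toUnit (X ⊗ Z) ≫ y₀) (snd X Z))).left b)
    (hz : PicM.pull (lift (fst X Y) (lift (snd X Y) (toUnit (X ⊗ Y) ≫ z₀))).left a =
      PicM.pull (lift (fst X Y) (lift (snd X Y) (toUnit (X ⊗ Y) ≫ z₀))).left b) :
    a = b := by
  obtain ⟨c, hc⟩ := PicM.exists_mul_eq_one b
  refine PicM.eq_of_mul_inv hc (eq_one_of_slices_field x₀ y₀ z₀ _ ?_ ?_ ?_)
  · rw [map_mul, hx, ← map_mul, hc, map_one]
  · rw [map_mul, hy, ← map_mul, hc, map_one]
  · rw [map_mul, hz, ← map_mul, hc, map_one]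

end Groth.Agent.CubeLib
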