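import Groth.Agent.CubeLib.DeformAxes
import Groth.Agent.PicLib.PicMonoid

/-!
# Square zero deformations of a trivial invertible module on a product

`X`, `Y` over a field, `Y₀ ⊆ Y` defined by a square zero ideal. An invertible module on `X × Y` trivial on `X × Y₀`
and on the two axes is trivial: the obstruction is a Čech class in `H¹(X × Y)` vanishing on both axes.
-/

set_option autoImplicit false
set_option backward.isDefEq.respectTransparency.types false

universe u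

open CategoryTheory CategoryTheory.Limits MonoidalCategory CartesianMonoidalCategory AlgebraicGeometry Opposite
  TopologicalSpace TensorProduct
open Groth.Agent.Coherent Groth.Agent.PicLib Groth.Agent.AmpleLib

namespace Groth.Agent.CubeLib

variable {k : Type u} [Field k] {X Y Y₀ T T₀ : Over (Spec (CommRingCat.of k))}

/-- A generator of a module isomorphic to the structure module. -/
theorem exists_isGen_top {S : Scheme.{u}} {L : S.Modules} {hL : PicF.IsInvertible L} (h : PicM.of hL = 1) :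
    ∃ t : Γ(L, ⊤), IsGen L ⊤ t := by
  obtain ⟨e⟩ := (PicM.of_eq_one_iff hL).1 h
  refine ⟨e.inv.app ⊤ (oneSec (⊤ : S.Opens)), fun V hV => ?_⟩
  convert (ConcreteCategory.bijective_of_isIso (e.inv.app V)).comp (isGen_oneSec (⊤ : S.Opens) V hV) using 1
  funext r
  show r • resM _ hV (e.inv.app ⊤ _) = e.inv.app V (r • resM _ hV _)
  rw [Scheme.Modules.Hom.app_smul, app_resM]

/-- A module with a global generator is trivial. -/
theorem eq_one_of_isGen_top {S : Scheme.{u}} {L : S.Modules} (hL : PicF.IsInvertible L) {t : Γ(L, ⊤)}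
    (ht : IsGen L ⊤ t) : PicM.of hL = 1 := by
  have : IsIso (unitDesc L t) := isIso_of_isGen _ (by rw [unitVal_unitDesc, resM_self]; exact ht)
  exact (PicM.of_eq_one_iff hL).2 ⟨(asIso (unitDesc L t)).symm⟩

namespace Lifts

variable {ιX ιY : Type u} {U : ιX → X.left.Opens} {W : ιY → Y.left.Opens} {j : Y₀ ⟶ Y}
  {L : (X ⊗ Y).left.Modules} (Λ : Lifts U W j L)

/-- If the cocycle is a coboundary, the lifts glue to a generator. -/
theorem exists_isGen_of_coboundary [IsSeparated X.hom] [IsSeparated Y.hom] [Finite ιX] [Finite ιY]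
    (hsq : ∀ (W : Y.left.Opens) (a b : Γ(Y.left, W)), a ∈ Ker j W → b ∈ Ker j W → a * b = 0)
    (hU : ⊤ ≤ iSup U) (hW : ⊤ ≤ iSup W)
    (p : cech1 U ⊗[k] kerCech0 W j) (q : cech0 U ⊗[k] kerCech1 W j)
    (hp : ∀ aa b, TensorProduct.map (LinearMap.proj aa) (LinearMap.proj b) p = Λ.p₁ aa b)
    (hq : ∀ a bb, TensorProduct.map (LinearMap.proj a) (LinearMap.proj bb) q = Λ.q₁ a bb)
    (w : cech0 U ⊗[k] kerCech0 W j) (hwp : (cechD U).rTensor _ w = p) (hwq : (kerCechD W j).lTensor _ w = q) :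
    ∃ t : Γ(L, ⊤), IsGen L ⊤ t := by
  let wc : ∀ ab : ιX × ιY, Γ(X.left, U ab.1) ⊗[k] Ker j (W ab.2) := fun ab =>
    TensorProduct.map (LinearMap.proj ab.1) (LinearMap.proj ab.2) w
  let V : ιX × ιY → (X ⊗ Y).left.Opens := fun ab => box (U ab.1) (W ab.2)
  let e' : ∀ ab : ιX × ιY, Γ(L, V ab) := fun ab => (1 + kerBox j (U ab.1) (W ab.2) (wc ab)) • Λ.e ab
  have he' : ∀ ab, IsGen L (V ab) (e' ab) := fun ab => by
    have h := kerBox_mul j hsq (wc ab) (wc ab)
    exact (Λ.gen ab).smul_unit ⟨1 + kerBox j _ _ (wc ab), 1 - kerBox j _ _ (wc ab), by linear_combination -h,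
      by linear_combination -h⟩
  -- the components of `w` differ by the transition functions
  have hγ : ∀ a a' b b', Λ.γ (a, b) (a', b') (isAffineOpen_inf_sec X (Λ.affX a) (Λ.affX a'))
      (isAffineOpen_inf_sec Y (Λ.affY b) (Λ.affY b')) inf_le_left inf_le_left inf_le_right inf_le_right =
      TensorProduct.map (resₐ inf_le_right).toLinearMap (kerRes j inf_le_right) (wc (a', b')) -
        TensorProduct.map (resₐ inf_le_left).toLinearMap (kerRes j inf_le_left) (wc (a, b)) := by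
    intro a a' b b'
    have hU₂ := isAffineOpen_inf_sec X (Λ.affX a) (Λ.affX a')
    have hW₂ := isAffineOpen_inf_sec Y (Λ.affY b) (Λ.affY b')
    have e1 : TensorProduct.map (resₐ le_rfl).toLinearMap (kerRes j inf_le_left) (Λ.p₁ (a, a') b) =
        Λ.γ (a, b) (a', b) hU₂ hW₂ inf_le_left inf_le_left inf_le_right inf_le_left :=
      Λ.γ_res (a, b) (a', b) _ _ hU₂ hW₂ le_rfl (inf_le_left : W b ⊓ W b' ≤ W b) _ _ _ _
    have e2 : TensorProduct.map (resₐ inf_le_right).toLinearMap (kerRes j le_rfl) (Λ.q₁ a' (b, b')) =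
        Λ.γ (a', b) (a', b') hU₂ hW₂ inf_le_right inf_le_left inf_le_right inf_le_right :=
      Λ.γ_res (a', b) (a', b') _ _ hU₂ hW₂ (inf_le_right : U a ⊓ U a' ≤ U a') le_rfl _ _ _ _
    rw [Λ.γ_add (a, b) (a', b) (a', b') hU₂ hW₂ hsq inf_le_left inf_le_left inf_le_right inf_le_left inf_le_right
      inf_le_right, ← e1, ← e2, ← hp (a, a') b, ← hq a' (b, b'), ← hwp, ← hwq]
    simp only [wc]
    generalize w = w'
    induction w' using TensorProduct.induction_on with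
    | zero => simp
    | add c d hc hd =>
      simp only [map_add] at hc hd ⊢
      rw [add_add_add_comm, hc, hd]
      abel
    | tmul c d =>
      simp only [LinearMap.rTensor_tmul, LinearMap.lTensor_tmul, TensorProduct.map_tmul, LinearMap.coe_proj,
        Function.eval, cechD_apply, kerCechD_apply, map_sub, AlgHom.toLinearMap_apply, resₐ_resₐ, kerRes_kerRes,
        TensorProduct.sub_tmul, TensorProduct.tmul_sub]
      abel
  have hcov : ⊤ ≤ iSup V := fun z _ => by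
    obtain ⟨a, ha⟩ := Opens.mem_iSup.1 (hU (Set.mem_univ ((fst X Y).left.base z)))
    obtain ⟨b, hb⟩ := Opens.mem_iSup.1 (hW (Set.mem_univ ((snd X Y).left.base z)))
    exact Opens.mem_iSup.2 ⟨(a, b), ha, hb⟩
  have hcompat : ∀ ab ab', resM L (inf_le_left : V ab ⊓ V ab' ≤ V ab) (e' ab) =
      resM L (inf_le_right : V ab ⊓ V ab' ≤ V ab') (e' ab') := by
    rintro ⟨a, b⟩ ⟨a', b'⟩
    have hle : V (a, b) ⊓ V (a', b') ≤ box (U a ⊓ U a') (W b ⊓ W b') := (box_inf _ _ _ _).ge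
    suffices h : resM L (box_mono (inf_le_left : U a ⊓ U a' ≤ U a) (inf_le_left : W b ⊓ W b' ≤ W b)) (e' (a, b)) =
        resM L (box_mono (inf_le_right : U a ⊓ U a' ≤ U a') (inf_le_right : W b ⊓ W b' ≤ W b')) (e' (a', b')) by
      have h' := congrArg (resM L hle) h
      rwa [resM_resM, resM_resM] at h'
    simp only [e']
    rw [resM_smul, resM_smul, ← resₐ_apply, ← resₐ_apply, map_add, map_add, map_one, map_one,
      kerBox_res j (inf_le_left : U a ⊓ U a' ≤ U a) (inf_le_left : W b ⊓ W b' ≤ W b),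
      kerBox_res j (inf_le_right : U a ⊓ U a' ≤ U a') (inf_le_right : W b ⊓ W b' ≤ W b'), Λ.γ_spec (a, b) (a', b') (isAffineOpen_inf_sec X (Λ.affX a) (Λ.affX a'))
        (isAffineOpen_inf_sec Y (Λ.affY b) (Λ.affY b')) inf_le_left inf_le_left inf_le_right inf_le_right,
      smul_smul, hγ, map_sub]
    congr 1
    linear_combination kerBox_mul j hsq
      (TensorProduct.map (resₐ (inf_le_left : U a ⊓ U a' ≤ U a)).toLinearMap
        (kerRes j (inf_le_left : W b ⊓ W b' ≤ W b)) (wc (a, b)))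
      (TensorProduct.map (resₐ (inf_le_right : U a ⊓ U a' ≤ U a')).toLinearMap
        (kerRes j (inf_le_right : W b ⊓ W b' ≤ W b')) (wc (a', b'))) - kerBox_mul j hsq
      (TensorProduct.map (resₐ (inf_le_left : U a ⊓ U a' ≤ U a)).toLinearMap
        (kerRes j (inf_le_left : W b ⊓ W b' ≤ W b)) (wc (a, b)))
      (TensorProduct.map (resₐ (inf_le_left : U a ⊓ U a' ≤ U a)).toLinearMap
        (kerRes j (inf_le_left : W b ⊓ W b' ≤ W b)) (wc (a, b)))
  obtain ⟨t, ht, -⟩ := TopCat.Sheaf.existsUnique_gluing' (⟨L.presheaf, L.isSheaf⟩ : TopCat.Sheaf Ab (X ⊗ Y).left)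
    V ⊤ (fun _ => homOfLE le_top) hcov e' hcompat
  exact ⟨t, isGen_of_cover V (fun _ => le_top) hcov fun ab => (congrArg (IsGen L (V ab)) (ht ab)).mpr (he' ab)⟩

end Lifts

/-- The deformation lemma. -/
theorem eq_one_of_axes [IsSeparated X.hom] [IsSeparated Y.hom] [CompactSpace X.left] [CompactSpace Y.left]
    [IsAffine T.left] [Unique T.left] (j : Y₀ ⟶ Y) [IsClosedImmersion j.left] [IsClosedImmersion (X ◁ j).left]
    [Surjective (X ◁ j).left] (i : T₀ ⟶ T) [IsClosedImmersion i.left]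
    (y : T ⟶ Y) (y₀ : T₀ ⟶ Y₀) (hy₀ : y₀ ≫ j = i ≫ y)
    (π : Y ⟶ T) (π₀ : Y₀ ⟶ T₀) (hπ₀ : π₀ ≫ i = j ≫ π) (hyπ : y ≫ π = 𝟙 T)
    (hX : Function.Bijective (algebraMap k Γ(X.left, ⊤))) (hπ : Function.Bijective π.left.appTop)
    (hliftY : Function.Surjective j.left.appTop) (hliftT : Function.Surjective (X ◁ i).left.appTop)
    (hsq : ∀ (W : Y.left.Opens) (a b : Γ(Y.left, W)), a ∈ Ker j W → b ∈ Ker j W → a * b = 0)
    (hsqT : ∀ (W : T.left.Opens) (a b : Γ(T.left, W)), a ∈ Ker i W → b ∈ Ker i W → a * b = 0)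
    (x₀ : 𝟙_ (Over (Spec (CommRingCat.of k))) ⟶ X)
    {L : (X ⊗ Y).left.Modules} (hL : PicF.IsInvertible L)
    (h0 : PicM.pull (X ◁ j).left (PicM.of hL) = 1)
    (hx : PicM.pull (lift (toUnit Y ≫ x₀) (𝟙 Y)).left (PicM.of hL) = 1)
    (hy : PicM.pull (X ◁ y).left (PicM.of hL) = 1) :
    PicM.of hL = 1 := by
  classical
  obtain ⟨ιX, _, U, hU, hUc⟩ := exists_finite_affine_cover X.left
  obtain ⟨ιY, _, W, hW, hWc⟩ := exists_finite_affine_cover Y.left
  have hUsup : ⊤ ≤ iSup U := fun s _ => Opens.mem_iSup.2 (hUc s)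
  have hWsup : ⊤ ≤ iSup W := fun s _ => Opens.mem_iSup.2 (hWc s)
  obtain ⟨a₀, ha₀⟩ := hUc (x₀.left.base (IsLocalRing.closedPoint k))
  obtain ⟨b₀, hb₀⟩ := hWc (y.left.base default)
  have hx₀ : ⊤ ≤ x₀.left ⁻¹ᵁ U a₀ := fun s _ => by
    obtain rfl : s = IsLocalRing.closedPoint k := Subsingleton.elim (α := PrimeSpectrum k) _ _
    exact ha₀
  have hy₀' : ⊤ ≤ y.left ⁻¹ᵁ W b₀ := fun s _ => by
    obtain rfl : s = default := Subsingleton.elim _ _
    exact hb₀
  obtain ⟨t, ht⟩ := exists_isGen_top (hL := PicLoc.isInvertible_pullback (X ◁ j).left hL) h0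
  obtain ⟨Λ⟩ := exists_lifts U W j hL hU hW ht
  obtain ⟨p, q, hp, hq, hdp, hpq⟩ := Λ.exists_cocycle hsq
  -- evaluation at the points
  let F : k ≃ₗ[k] Γ((𝟙_ (Over (Spec (CommRingCat.of k)))).left, ⊤) :=
    LinearEquiv.ofBijective (Algebra.linearMap k _) (by
      show Function.Bijective (algebraMap k Γ((𝟙_ (Over (Spec (CommRingCat.of k)))).left, ⊤))
      have h : CommRingCat.ofHom (algebraMap k Γ((𝟙_ (Over (Spec (CommRingCat.of k)))).left, ⊤)) =
          (Scheme.ΓSpecIso (CommRingCat.of k)).inv := by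
        rw [algebraMap_sec]
        erw [Scheme.Hom.appLE_eq_app]
        simp
      have hb := ConcreteCategory.bijective_of_isIso (Scheme.ΓSpecIso (CommRingCat.of k)).inv
      rw [← h] at hb
      exact hb)
  let ev : Γ(X.left, U a₀) →ₗ[k] k := F.symm.toLinearMap ∘ₗ (appLEₐ x₀ (U a₀) ⊤ hx₀).toLinearMap
  have hev : ∀ r, appLEₐ x₀ (U a₀) ⊤ hx₀ r = algebraMap k _ (ev r) := fun r => (F.apply_symm_apply _).symm
  have hevx : (ev ∘ₗ LinearMap.proj a₀) ∘ₗ (LinearMap.pi fun a => Algebra.linearMap k Γ(X.left, U a)) = LinearMap.id := by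
    refine LinearMap.ext fun r => F.injective ?_
    show F (F.symm (appLEₐ x₀ (U a₀) ⊤ hx₀ (algebraMap k _ r))) = F r
    rw [LinearEquiv.apply_symm_apply, AlgHom.commutes]
    rfl
  have hevy : (kerMap y y₀ hy₀ hy₀' ∘ₗ LinearMap.proj b₀) ∘ₗ
      (LinearMap.pi fun b => kerMap (W := (⊤ : T.left.Opens)) (W' := W b) π π₀ hπ₀ le_top) = LinearMap.id := by
    refine LinearMap.ext fun r => Subtype.ext ?_
    show appLEₐ y (W b₀) ⊤ hy₀' (appLEₐ π ⊤ (W b₀) le_top (r : Γ(T.left, ⊤))) = r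
    rw [appLEₐ_comp _ _ _ _ _ _ _ (by exact le_top)]
    refine Eq.trans ?_ (resₐ_self (X := T) (le_refl ⊤) (r : Γ(T.left, ⊤)))
    congr 2
  obtain ⟨g, hg⟩ := exists_isGen_top (hL := PicLoc.isInvertible_pullback (lift (toUnit Y ≫ x₀) (𝟙 Y)).left hL) hx
  obtain ⟨g', hg'⟩ := exists_isGen_top (hL := PicLoc.isInvertible_pullback (X ◁ y).left hL) hy
  obtain ⟨w, hwp, hwq⟩ := exists_coboundary_of_axes (cechD U) (cechD' U) (cechD'_comp_cechD U) _
    (exact_cechD U hUsup hX) (ev ∘ₗ LinearMap.proj a₀) hevx (kerCechD W j) _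
    (exact_kerCechD W j y y₀ hy₀ π π₀ hπ₀ hyπ hWsup hπ) (kerMap y y₀ hy₀ hy₀' ∘ₗ LinearMap.proj b₀) hevy p q hdp hpq
    (Λ.exists_axis_left hsq hWsup hliftY hL x₀ a₀ hx₀ ev hev hg q hq)
    (Λ.exists_axis_right hsqT hUsup hliftT hL y y₀ hy₀ b₀ hy₀' hg' p hp)
  obtain ⟨s, hs⟩ := Λ.exists_isGen_of_coboundary hsq hUsup hWsup p q hp hq w hwp hwq
  exact eq_one_of_isGen_top hL hs

end Groth.Agent.CubeLib
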