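import Groth.Agent.CubeLib.Content
import Groth.Agent.CubeLib.Deform
import Groth.Agent.PicLib.FlatTriv
import Groth.Agent.PicLib.FlatSections

/-!
# Triviality descends along extensions of the ground field

For an integral scheme `W` over an algebraically closed field `k` and fields `k ⊆ F ⊆ F'`, an invertible module on
`W_F` which is trivial on `W_{F'}` is trivial.
-/

set_option autoImplicit false
set_option backward.isDefEq.respectTransparency.types false

universe u

open CategoryTheory CategoryTheory.Limits AlgebraicGeometry Opposite TopologicalSpace TensorProduct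
open Groth.Agent.PicLib Groth.Agent.Coherent Groth.Agent.AmpleLib

namespace Groth.Agent.CubeLib

theorem exists_ringEquiv_of_isPushout {R A B C : Type u} [CommRing R] [CommRing A] [CommRing B] [CommRing C]
    [Algebra R A] [Algebra R B] {c : CommRingCat.of A ⟶ CommRingCat.of C} {d : CommRingCat.of B ⟶ CommRingCat.of C}
    (h : IsPushout (CommRingCat.ofHom (algebraMap R A)) (CommRingCat.ofHom (algebraMap R B)) c d) :
    ∃ Φ : A ⊗[R] B ≃+* C, ∀ x y, Φ (x ⊗ₜ y) = c x * d y := by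
  let e := (CommRingCat.isPushout_tensorProduct R A B).isoIsPushout _ _ h
  refine ⟨e.commRingCatIsoToRingEquiv, fun x y => ?_⟩
  have h1 := IsPushout.inl_isoIsPushout_hom _ _ (CommRingCat.isPushout_tensorProduct R A B) h
  have h2 := IsPushout.inr_isoIsPushout_hom _ _ (CommRingCat.isPushout_tensorProduct R A B) h
  rw [show x ⊗ₜ[R] y = (x ⊗ₜ[R] (1 : B)) * ((1 : A) ⊗ₜ[R] y) by
    rw [Algebra.TensorProduct.tmul_mul_tmul, mul_one, one_mul], map_mul]
  exact congrArg₂ (· * ·) congr($h1 x) congr($h2 y)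

variable {k F F' : Type u} [Field k] [IsAlgClosed k] [Field F] [Field F'] [Algebra k F] [Algebra k F']
  [Algebra F F'] [IsScalarTower k F F'] {W X P : Scheme.{u}} (πW : W ⟶ Spec (CommRingCat.of k))
  (πX : X ⟶ Spec (CommRingCat.of F)) (πP : P ⟶ Spec (CommRingCat.of F')) (q : X ⟶ W) (g : P ⟶ X)

/-- Triviality descends from `W_{F'}` to `W_F`. -/
theorem eq_one_of_pull_field [IsIntegral W] [IsIntegral X] [IsIntegral P] [CompactSpace X] [QuasiSeparatedSpace X]
    (HX : IsPullback q πX πW (Spec.map (CommRingCat.ofHom (algebraMap k F))))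
    (HP : IsPullback g πP πX (Spec.map (CommRingCat.ofHom (algebraMap F F'))))
    (a : PicM X) (h : PicM.pull g a = 1) : a = 1 := by
  classical
  obtain ⟨L, hL, rfl⟩ := PicM.exists_eq_of a
  rw [PicM.pull_of] at h
  obtain ⟨s, hs⟩ := exists_isGen_top h
  have : Coh.IsQCoh L := isQCoh_of_isInvertible hL
  let _ : W.Over (Spec (CommRingCat.of k)) := ⟨πW⟩
  let _ : X.Over (Spec (CommRingCat.of F)) := ⟨πX⟩
  let _ : P.Over (Spec (CommRingCat.of F')) := ⟨πP⟩
  have HW : IsPullback (g ≫ q) πP πW (Spec.map (CommRingCat.ofHom (algebraMap k F'))) := by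
    rw [IsScalarTower.algebraMap_eq k F F', CommRingCat.ofHom_comp, Spec.map_comp]
    exact HP.paste_horiz HX
  have HP' : IsPullback g (P ↘ Spec (CommRingCat.of F')) (X ↘ Spec (CommRingCat.of F))
      (Spec.map (CommRingCat.ofHom (algebraMap F F'))) := HP
  have HX' : IsPullback q (X ↘ Spec (CommRingCat.of F)) (W ↘ Spec (CommRingCat.of k))
      (Spec.map (CommRingCat.ofHom (algebraMap k F))) := HX
  have HW' : IsPullback (g ≫ q) (P ↘ Spec (CommRingCat.of F')) (W ↘ Spec (CommRingCat.of k))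
      (Spec.map (CommRingCat.ofHom (algebraMap k F'))) := HW
  have : IsAffineHom g := MorphismProperty.IsStableUnderBaseChange.of_isPullback
    (P := @IsAffineHom) HP.flip inferInstance
  have : IsAffineHom q := MorphismProperty.IsStableUnderBaseChange.of_isPullback
    (P := @IsAffineHom) HX.flip inferInstance
  have : Surjective (Spec.map (CommRingCat.ofHom (algebraMap F F'))) :=
    ⟨fun y => ⟨IsLocalRing.closedPoint F', Subsingleton.elim (α := PrimeSpectrum F) _ _⟩⟩
  have hgsurj : Surjective g := MorphismProperty.of_isPullback HP.flip this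
  let φ : F →+* Γ(X, ⊤) := Coh.toGlobal (X := X) (A := F) πX
  let β : F' →+* Γ(P, ⊤) := Coh.toGlobal (X := P) (A := F') πP
  obtain ⟨E, hE⟩ := exists_baseChange_sections g φ β L (appTop_toGlobal g HP')
    (fun U hU => isBCPushout_of_isPullback g HP' hU)
  let b := Module.Free.chooseBasis F F'
  let C := TensorProduct.equivFinsuppOfBasisLeft (N := HA φ L (⊤ : X.Opens) 0) b
  let n := C (E.symm s)
  let x : _ → Γ(L, ⊤) := fun i => secTop φ L (n i)
  have hsum : s = ∑ i ∈ n.support, β (b i) • (show Γ((Scheme.Modules.pullback g).obj L, ⊤) from pullSec g (x i)) := by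
    conv_lhs => rw [← E.apply_symm_apply s, ← C.symm_apply_apply (E.symm s),
      TensorProduct.equivFinsuppOfBasisLeft_symm_apply]
    rw [Finsupp.sum, map_sum]
    exact Finset.sum_congr rfl fun i _ => hE _ _
  let G : _ → Γ(P, ⊤) := fun i => hs.coef le_rfl (show Γ((Scheme.Modules.pullback g).obj L, ⊤) from pullSec g (x i))
  have hG : ∀ i, G i • s = (show Γ((Scheme.Modules.pullback g).obj L, ⊤) from pullSec g (x i)) := fun i => by
    have := hs.coef_spec le_rfl (show Γ((Scheme.Modules.pullback g).obj L, ⊤) from pullSec g (x i))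
    rwa [resM_self] at this
  -- an affine open of `W` and a trivialisation inside
  obtain ⟨_, ⟨U, hU, rfl⟩, hUη, -⟩ :=
    W.isBasis_affineOpens.exists_subset_of_mem_open (Set.mem_univ (genericPoint W)) isOpen_univ
  have : Nonempty U := ⟨⟨_, hUη⟩⟩
  have hXU : IsAffineOpen (q ⁻¹ᵁ U) := hU.preimage q
  have hsW : Surjective (Spec.map (CommRingCat.ofHom (algebraMap k F))) :=
    ⟨fun y => ⟨IsLocalRing.closedPoint F, Subsingleton.elim (α := PrimeSpectrum k) _ _⟩⟩
  have hqsurj : Surjective q := MorphismProperty.of_isPullback HX.flip hsW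
  obtain ⟨x₀, hx₀⟩ := q.surjective (genericPoint W)
  have hx₀U : x₀ ∈ q ⁻¹ᵁ U := show q x₀ ∈ U from hx₀ ▸ hUη
  obtain ⟨V, hV, e, he⟩ := exists_isGen hL x₀
  obtain ⟨c₀, hcV, hxc⟩ := hXU.exists_basicOpen_le ⟨x₀, hV⟩ hx₀U
  let D := X.basicOpen c₀
  have hDU : D ≤ q ⁻¹ᵁ U := X.basicOpen_le c₀
  have he' := he.restrict hcV
  have hge := isGen_pullSec g he' hL
  let f := hge.coef le_rfl (resM ((Scheme.Modules.pullback g).obj L) le_top s)
  have hf : IsUnit f := hge.isUnit_coef (hs.restrict le_top)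
  let cc : _ → Γ(X, D) := fun i => he'.coef le_rfl (resM L le_top (x i))
  have hfspec : f • pullSec g (resM L hcV e) = resM ((Scheme.Modules.pullback g).obj L) le_top s := by
    have := hge.coef_spec le_rfl (resM ((Scheme.Modules.pullback g).obj L) le_top s)
    rwa [resM_self] at this
  have hGf : ∀ i, P.presheaf.map (homOfLE (le_top (a := g ⁻¹ᵁ D))).op (G i) * f = g.app D (cc i) := fun i => by
    refine (hge (g ⁻¹ᵁ D) le_rfl).1 ?_
    show _ • resM _ _ _ = _ • resM _ _ _
    rw [resM_self, mul_smul, hfspec, ← resM_smul, hG i]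
    refine ((resM_pullSec g (le_top : D ≤ ⊤) (x i)).trans ?_)
    have := he'.coef_spec le_rfl (resM L le_top (x i))
    rw [resM_self] at this
    rw [← this, pullSec_smul]
  have hfsum : f = ∑ i ∈ n.support,
      P.presheaf.map (homOfLE (le_top (a := g ⁻¹ᵁ D))).op (β (b i)) * g.app D (cc i) := by
    refine (hge (g ⁻¹ᵁ D) le_rfl).1 ?_
    show f • resM _ _ _ = _ • resM _ _ _
    rw [resM_self, hfspec, Finset.sum_smul]
    conv_lhs => rw [hsum, map_sum]
    refine Finset.sum_congr rfl fun i _ => ?_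
    rw [mul_smul, resM_smul]
    refine congrArg (_ • ·) ((resM_pullSec g (le_top : D ≤ ⊤) (x i)).trans ?_)
    have := he'.coef_spec le_rfl (resM L le_top (x i))
    rw [resM_self] at this
    rw [← this, pullSec_smul]
  -- clear denominators
  letI : Algebra Γ(X, q ⁻¹ᵁ U) Γ(X, D) := (X.presheaf.map (homOfLE hDU).op).hom.toAlgebra
  have : IsLocalization.Away c₀ Γ(X, D) := hXU.isLocalization_basicOpen c₀
  obtain ⟨⟨m, hm⟩, hint⟩ := IsLocalization.exist_integer_multiples (Submonoid.powers c₀) n.support cc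
  choose! c' hc' using hint
  replace hc' : ∀ i ∈ n.support, X.presheaf.map (homOfLE hDU).op (c' i) =
      X.presheaf.map (homOfLE hDU).op m * cc i := fun i hi => hc' i hi
  let r : Γ(P, g ⁻¹ᵁ (q ⁻¹ᵁ U)) →+* Γ(P, g ⁻¹ᵁ D) :=
    (P.presheaf.map (homOfLE ((Opens.map g.base).map (homOfLE hDU)).le).op).hom
  let t : Γ(P, ⊤) →+* Γ(P, g ⁻¹ᵁ (q ⁻¹ᵁ U)) :=
    (P.presheaf.map (homOfLE (le_top (a := g ⁻¹ᵁ (q ⁻¹ᵁ U)))).op).hom
  let gU : Γ(X, q ⁻¹ᵁ U) →+* Γ(P, g ⁻¹ᵁ (q ⁻¹ᵁ U)) := (g.app (q ⁻¹ᵁ U)).hom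
  have hrt : ∀ z, r (t z) = P.presheaf.map (homOfLE (le_top (a := g ⁻¹ᵁ D))).op z := fun z =>
    show (P.presheaf.map _ ≫ P.presheaf.map _) z = _ by rw [← Functor.map_comp]; rfl
  have hrg : ∀ z, r (gU z) = g.app D (X.presheaf.map (homOfLE hDU).op z) := fun z =>
    congr($((g.naturality (homOfLE hDU).op).symm) z)
  let f' : Γ(P, g ⁻¹ᵁ (q ⁻¹ᵁ U)) := ∑ i ∈ n.support, t (β (b i)) * gU (c' i)
  have hf' : r f' = g.app D (X.presheaf.map (homOfLE hDU).op m) * f := by
    rw [hfsum, Finset.mul_sum, map_sum]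
    refine Finset.sum_congr rfl fun i hi => ?_
    rw [map_mul, hrt, hrg, hc' i hi, map_mul]
    ring
  obtain ⟨y₀, hy₀⟩ := g.surjective x₀
  have : Nonempty (Subtype (· ∈ g ⁻¹ᵁ D)) := ⟨⟨y₀, show g y₀ ∈ D from hy₀ ▸ hxc⟩⟩
  have : Nonempty ↥(g ⁻¹ᵁ (q ⁻¹ᵁ U)) := ⟨⟨y₀, show g y₀ ∈ q ⁻¹ᵁ U from hy₀ ▸ hx₀U⟩⟩
  have hr : Function.Injective r :=
    @AlgebraicGeometry.map_injective_of_isIntegral P _ _ _ (homOfLE ((Opens.map g.base).map (homOfLE hDU)).le)
      ⟨⟨y₀, show g y₀ ∈ D from hy₀ ▸ hxc⟩⟩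
  have hmu : IsUnit (X.presheaf.map (homOfLE hDU).op m) :=
    IsLocalization.map_units Γ(X, D) (⟨m, hm⟩ : Submonoid.powers c₀)
  have hf0 : f' ≠ 0 := fun h0 => ((hmu.map (g.app D).hom).mul hf).ne_zero
    ((hf'.symm.trans (congrArg r h0)).trans (map_zero r))
  have hG' : ∀ i ∈ n.support, t (G i) * f' = gU (c' i) := fun i hi => hr (by
    rw [map_mul, hrt, hf', hrg, hc' i hi, map_mul, ← hGf i]
    ring)
  -- translate into tensor products over `k`
  let A := Γ(W, U)
  let ρ : k →+* A := (W.presheaf.map (homOfLE (le_top (a := U))).op).hom.comp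
    (Coh.toGlobal (X := W) (A := k) πW)
  letI : Algebra k A := ρ.toAlgebra
  have : IsDomain A := IsIntegral.component_integral U
  obtain ⟨Ψ, hΨ⟩ := exists_ringEquiv_of_isPushout (isBCPushout_of_isPullback q HX' hU)
  have : IsAffineHom (g ≫ q) := inferInstance
  obtain ⟨Φ, hΦ⟩ : ∃ Φ : A ⊗[k] F' ≃+* Γ(P, g ⁻¹ᵁ (q ⁻¹ᵁ U)), ∀ x y, Φ (x ⊗ₜ y) = gU (q.app U x) * t (β y) := by
    obtain ⟨Φ₀, hΦ₀⟩ := exists_ringEquiv_of_isPushout (isBCPushout_of_isPullback (g ≫ q) HW' hU)
    exact ⟨Φ₀, fun x y => (hΦ₀ x y).trans rfl⟩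
  let ι : A ⊗[k] F →ₐ[k] A ⊗[k] F' :=
    Algebra.TensorProduct.map (AlgHom.id k A) (IsScalarTower.toAlgHom k F F')
  have hβ : ∀ y, Φ (1 ⊗ₜ y) = t (β y) := fun y => by
    rw [hΦ, map_one, map_one, one_mul]
  have hgU : ∀ z, gU (Ψ z) = Φ (ι z) := by
    intro z
    induction z with
    | zero => simp
    | add u v hu hv => simp only [map_add, hu, hv]
    | tmul u v =>
      rw [Algebra.TensorProduct.map_tmul, hΦ, hΨ, map_mul]
      refine congrArg₂ (· * ·) rfl ?_
      have e := congrArg t (appTop_toGlobal g HP' v)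
      refine Eq.trans ?_ e
      exact congr($((g.naturality (homOfLE (le_top (a := q ⁻¹ᵁ U))).op)) (φ v))
  let F₀ : A ⊗[k] F' := Φ.symm f'
  have hF₀sum : F₀ = ∑ i ∈ n.support, ((1 : A) ⊗ₜ[k] b i) * ι (Ψ.symm (c' i)) := Φ.injective (by
    rw [Φ.apply_symm_apply, map_sum]
    refine Finset.sum_congr rfl fun i _ => ?_
    rw [map_mul, hβ, ← hgU, Ψ.apply_symm_apply])
  have hconst : ∀ i ∈ n.support, ∃ c : F', G i = β c := by
    intro i hi
    let Pm : F' →ₗ[k] F' :=
      ((Algebra.linearMap F F').restrictScalars k).comp ((b.coord i).restrictScalars k)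
    have hPm : ∀ (ω : F') (z : A ⊗[k] F), coefOp Pm A (((1 : A) ⊗ₜ ω) * ι z) = ((1 : A) ⊗ₜ Pm ω) * ι z := by
      intro ω z
      induction z with
      | zero => simp
      | add u v hu hv => simp only [map_add, mul_add, hu, hv]
      | tmul u v =>
        simp only [ι, Algebra.TensorProduct.map_tmul, Algebra.TensorProduct.tmul_mul_tmul, AlgHom.coe_id, id_eq,
          coefOp, LinearMap.lTensor_tmul]
        congr 1
        show algebraMap F F' (b.coord i (ω * algebraMap F F' v)) = algebraMap F F' (b.coord i ω) * algebraMap F F' v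
        rw [← map_mul, mul_comm ω, ← Algebra.smul_def, map_smul, smul_eq_mul, mul_comm]
    have hP : coefOp Pm A F₀ = ι (Ψ.symm (c' i)) := by
      rw [hF₀sum, map_sum, Finset.sum_eq_single i]
      · rw [hPm]
        show ((1 : A) ⊗ₜ[k] algebraMap F F' (b.coord i (b i))) * _ = _
        rw [Module.Basis.coord_apply, Module.Basis.repr_self, Finsupp.single_eq_same, map_one,
          ← Algebra.TensorProduct.one_def, one_mul]
      · intro j _ hj
        rw [hPm]
        show ((1 : A) ⊗ₜ[k] algebraMap F F' (b.coord i (b j))) * _ = _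
        rw [Module.Basis.coord_apply, Module.Basis.repr_self, Finsupp.single_eq_of_ne (Ne.symm hj), map_zero,
          TensorProduct.tmul_zero, zero_mul]
      · exact fun h => absurd hi h
    obtain ⟨c, hc⟩ := exists_eq_one_tmul Pm (f := F₀) (g := Φ.symm (t (G i)))
      (fun h0 => hf0 (by rw [← Φ.apply_symm_apply f', show Φ.symm f' = 0 from h0, map_zero]))
      (Φ.injective (by rw [map_mul, Φ.apply_symm_apply, Φ.apply_symm_apply, hP, ← hgU, Ψ.apply_symm_apply, hG' i hi]))
    refine ⟨c, @AlgebraicGeometry.map_injective_of_isIntegral P _ _ _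
      (homOfLE (le_top (a := g ⁻¹ᵁ (q ⁻¹ᵁ U)))) ⟨⟨y₀, show g y₀ ∈ q ⁻¹ᵁ U from hy₀ ▸ hx₀U⟩⟩ _ _ ?_⟩
    show t (G i) = t (β c)
    rw [← hβ, ← hc, Φ.apply_symm_apply]
  choose! c hc using hconst
  obtain ⟨i, hi, hci⟩ : ∃ i ∈ n.support, c i ≠ 0 := by
    by_contra hall
    push Not at hall
    have hs0 : s = 0 := by
      rw [hsum]
      refine Finset.sum_eq_zero fun i hi => ?_
      rw [← hG i, hc i hi, hall i hi, map_zero, zero_smul, smul_zero]
    have : Nonempty ↥(⊤ : P.Opens) := ⟨⟨y₀, trivial⟩⟩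
    exact one_ne_zero (α := Γ(P, ⊤)) ((hs ⊤ le_rfl).1 (by simp only [hs0, map_zero, smul_zero]))
  have hu : IsUnit (G i) := (hc i hi) ▸ (isUnit_iff_ne_zero.2 hci).map β
  have hgen : IsGen ((Scheme.Modules.pullback g).obj L) (g ⁻¹ᵁ ⊤) (pullSec g (x i)) := by
    have := hs.smul_unit hu.unit
    rw [IsUnit.unit_spec, hG i] at this
    exact this
  exact eq_one_of_isGen_top hL (isGen_of_pullSec g hL hgen)

end Groth.Agent.CubeLib
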