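import Groth.Agent.CubeLib.JoinGeneric
import Groth.Agent.CubeLib.FieldTriv
import Groth.Agent.CubeLib.FieldChange

/-!
# The slice relation for arbitrary pairs of points of varieties

For integral `U`, `V` and a smooth connected `W` over an algebraically closed field, every invertible class `a` on
`U × V × W` satisfies `a(u₀,v₀,-) a(u₁,v₁,-) = a(u₀,v₁,-) a(u₁,v₀,-)`.
-/

set_option autoImplicit false
set_option backward.isDefEq.respectTransparency.types false

universe u

open CategoryTheory CategoryTheory.Limits MonoidalCategory CartesianMonoidalCategory AlgebraicGeometry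
open Groth.Agent.PicLib Groth.Agent.AbCubeLib

namespace Groth.Agent.CubeLib

variable {k : Type u} [Field k] {U V W : Over (Spec (CommRingCat.of k))} {a : PicM (U ⊗ (V ⊗ W)).left}

theorem SliceRel.symm_left {u₀ u₁ : 𝟙_ (Over (Spec (CommRingCat.of k))) ⟶ U}
    {v₀ v₁ : 𝟙_ (Over (Spec (CommRingCat.of k))) ⟶ V} (h : SliceRel a u₀ u₁ v₀ v₁) : SliceRel a u₁ u₀ v₀ v₁ :=
  ((_root_.mul_comm _ _).trans h.symm).trans (_root_.mul_comm _ _)

theorem SliceRel.symm_right {u₀ u₁ : 𝟙_ (Over (Spec (CommRingCat.of k))) ⟶ U}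
    {v₀ v₁ : 𝟙_ (Over (Spec (CommRingCat.of k))) ⟶ V} (h : SliceRel a u₀ u₁ v₀ v₁) : SliceRel a u₀ u₁ v₁ v₀ :=
  h.symm

theorem SliceRel.trans_left {u₀ u₁ u₂ : 𝟙_ (Over (Spec (CommRingCat.of k))) ⟶ U}
    {v₀ v₁ : 𝟙_ (Over (Spec (CommRingCat.of k))) ⟶ V} (h : SliceRel a u₀ u₁ v₀ v₁) (h' : SliceRel a u₁ u₂ v₀ v₁) :
    SliceRel a u₀ u₂ v₀ v₁ := by
  refine ((PicM.isUnit (pb (slicePt W u₁ v₀) a)).mul (PicM.isUnit (pb (slicePt W u₁ v₁) a))).mul_left_cancel ?_
  calc (pb (slicePt W u₁ v₀) a * pb (slicePt W u₁ v₁) a) * (pb (slicePt W u₀ v₀) a * pb (slicePt W u₂ v₁) a)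
      = (pb (slicePt W u₀ v₀) a * pb (slicePt W u₁ v₁) a) * (pb (slicePt W u₁ v₀) a * pb (slicePt W u₂ v₁) a) := by
        simp only [_root_.mul_comm, _root_.mul_left_comm]
    _ = (pb (slicePt W u₀ v₁) a * pb (slicePt W u₁ v₀) a) * (pb (slicePt W u₁ v₁) a * pb (slicePt W u₂ v₀) a) := by
        rw [h, h']
    _ = _ := by simp only [_root_.mul_comm, _root_.mul_left_comm]

theorem SliceRel.trans_right {u₀ u₁ : 𝟙_ (Over (Spec (CommRingCat.of k))) ⟶ U}
    {v₀ v₁ v₂ : 𝟙_ (Over (Spec (CommRingCat.of k))) ⟶ V} (h : SliceRel a u₀ u₁ v₀ v₁) (h' : SliceRel a u₀ u₁ v₁ v₂) :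
    SliceRel a u₀ u₁ v₀ v₂ := by
  refine ((PicM.isUnit (pb (slicePt W u₀ v₁) a)).mul (PicM.isUnit (pb (slicePt W u₁ v₁) a))).mul_left_cancel ?_
  calc (pb (slicePt W u₀ v₁) a * pb (slicePt W u₁ v₁) a) * (pb (slicePt W u₀ v₀) a * pb (slicePt W u₁ v₂) a)
      = (pb (slicePt W u₀ v₀) a * pb (slicePt W u₁ v₁) a) * (pb (slicePt W u₀ v₁) a * pb (slicePt W u₁ v₂) a) := by
        simp only [_root_.mul_comm, _root_.mul_left_comm]
    _ = (pb (slicePt W u₀ v₁) a * pb (slicePt W u₁ v₀) a) * (pb (slicePt W u₀ v₂) a * pb (slicePt W u₁ v₁) a) := by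
        rw [h, h']
    _ = _ := by simp only [_root_.mul_comm, _root_.mul_left_comm]

variable {Ω : Type u} [Field Ω] {g : Spec (CommRingCat.of Ω) ⟶ Spec (CommRingCat.of k)}

theorem joined_bcPt {u₀ u₁ : 𝟙_ (Over (Spec (CommRingCat.of k))) ⟶ U} (h : Joined u₀ u₁) :
    Joined (bcPt g u₀) (bcPt g u₁) := by
  obtain ⟨X, C, j, f, hXp, hXs, hXg, hj, c, d, rfl, rfl⟩ := h
  let m : ∀ {A B : Over (Spec (CommRingCat.of k))}, (A ⟶ B) → (bc g A ⟶ bc g B) := fun {A B} φ =>
    Over.homMk (pullback.map A.hom g B.hom g φ.left (𝟙 _) (𝟙 _) (by simp) (by simp))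
      ((pullback.lift_snd _ _ _).trans (Category.comp_id _))
  have hm : ∀ {A B : Over (Spec (CommRingCat.of k))} (φ : A ⟶ B) (x : 𝟙_ (Over (Spec (CommRingCat.of k))) ⟶ A),
      bcPt g x ≫ m φ = bcPt g (x ≫ φ) := by
    intro A B φ x
    refine Over.OverMorphism.ext (pullback.hom_ext ?_ ?_)
    · show (pullback.lift _ _ _ ≫ pullback.map A.hom g B.hom g φ.left (𝟙 _) (𝟙 _) (by simp) (by simp)) ≫
        pullback.fst _ _ = pullback.lift _ _ _ ≫ pullback.fst _ _
      rw [Category.assoc, pullback.lift_fst, pullback.lift_fst_assoc, pullback.lift_fst, Category.assoc, Over.comp_left]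
    · show (pullback.lift _ _ _ ≫ pullback.map A.hom g B.hom g φ.left (𝟙 _) (𝟙 _) (by simp) (by simp)) ≫
        pullback.snd _ _ = pullback.lift _ _ _ ≫ pullback.snd _ _
      rw [Category.assoc, pullback.lift_snd, pullback.lift_snd_assoc, Category.id_comp, pullback.lift_snd]
      rfl
  refine ⟨bc g X, bc g C, m j, m f, inferInstanceAs (IsProper (pullback.snd X.hom g)),
    inferInstanceAs (Smooth (pullback.snd X.hom g)), inferInstanceAs (GeometricallyIntegral (pullback.snd X.hom g)),
    inferInstanceAs (IsOpenImmersion (pullback.map C.hom g X.hom g j.left (𝟙 _) (𝟙 _) (by simp) (by simp))),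
    bcPt g c, bcPt g d, hm f c, hm f d⟩

/-- Pullback of classes along an extension of an algebraically closed ground field is injective. -/
theorem pull_bcFst_injective [IsAlgClosed k] (g : Spec (CommRingCat.of Ω) ⟶ Spec (CommRingCat.of k))
    (W : Over (Spec (CommRingCat.of k))) [LocallyOfFiniteType W.hom] [QuasiCompact W.hom]
    [GeometricallyIntegral W.hom] : Function.Injective (PicM.pull (bcFst g W)) := by
  intro x y h
  obtain ⟨y', hy'⟩ := PicM.exists_mul_eq_one y
  refine PicM.eq_of_mul_inv hy' ?_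
  letI : Algebra k Ω := (Spec.preimage g).hom.toAlgebra
  have hg : Spec.map (CommRingCat.ofHom (algebraMap k Ω)) = g := Spec.map_preimage g
  have : IsIntegral W.left := GeometricallyIntegral.isIntegral_of_subsingleton W.hom
  have : IsIntegral (bc g W).left := GeometricallyIntegral.geometrically_isIntegral (f := W.hom) g _ _ (isPullback_bc g W)
  have : IsLocallyNoetherian W.left := LocallyOfFiniteType.isLocallyNoetherian W.hom
  have : CompactSpace W.left := QuasiCompact.compactSpace_of_compactSpace W.hom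
  refine eq_one_of_pull_field (F := k) (F' := Ω) W.hom W.hom (bc g W).hom (𝟙 W.left) (bcFst g W)
    (by
      rw [Algebra.algebraMap_self, CommRingCat.ofHom_id, Spec.map_id]
      exact IsPullback.of_id_fst) (hg ▸ isPullback_bc g W) _ ?_
  rw [map_mul, h, ← map_mul, hy', map_one]

theorem slicePt_bcProd (u : 𝟙_ (Over (Spec (CommRingCat.of k))) ⟶ U) (v : 𝟙_ (Over (Spec (CommRingCat.of k))) ⟶ V) :
    (slicePt (bc g W) (bcPt g u) (bcPt g v)).left ≫
        bcProd (isPullback_bc g U) (isPullback_bcProd (isPullback_bc g V) (isPullback_bc g W)) =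
      bcFst g W ≫ (slicePt W u v).left := by
  have hx : ∀ {A : Over (Spec (CommRingCat.of k))} (x : 𝟙_ (Over (Spec (CommRingCat.of k))) ⟶ A),
      (bcPt g x).left ≫ bcFst g A = g ≫ x.left := fun x => pullback.lift_fst _ _ _
  refine hom_ext_prod ?_ ?_
  · rw [Category.assoc, Category.assoc, bcProd_fst, ← Category.assoc, ← Over.comp_left, lift_fst,
      ← Over.comp_left, lift_fst]
    exact toUnit_comp_left (isPullback_bc g W) u (bcPt g u) (hx u)
  · rw [Category.assoc, Category.assoc, bcProd_snd, ← Category.assoc, ← Over.comp_left, lift_snd,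
      ← Over.comp_left, lift_snd]
    refine hom_ext_prod ?_ ?_
    · rw [Category.assoc, Category.assoc, bcProd_fst, ← Category.assoc, ← Over.comp_left, lift_fst,
        ← Over.comp_left, lift_fst]
      exact toUnit_comp_left (isPullback_bc g W) v (bcPt g v) (hx v)
    · rw [Category.assoc, Category.assoc, bcProd_snd, ← Category.assoc, ← Over.comp_left, lift_snd,
        ← Over.comp_left, lift_snd, Over.id_left, Over.id_left, Category.id_comp, Category.comp_id]

variable (g) in
/-- The class on the base change. -/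
noncomputable def bcClass (a : PicM (U ⊗ (V ⊗ W)).left) : PicM (bc g U ⊗ (bc g V ⊗ bc g W)).left :=
  PicM.pull (bcProd (isPullback_bc g U) (isPullback_bcProd (isPullback_bc g V) (isPullback_bc g W))) a

theorem sliceRel_of_bc [IsAlgClosed k] [LocallyOfFiniteType W.hom] [QuasiCompact W.hom] [GeometricallyIntegral W.hom]
    {u₀ u₁ : 𝟙_ (Over (Spec (CommRingCat.of k))) ⟶ U} {v₀ v₁ : 𝟙_ (Over (Spec (CommRingCat.of k))) ⟶ V}
    (h : SliceRel (bcClass g a) (bcPt g u₀) (bcPt g u₁) (bcPt g v₀) (bcPt g v₁)) : SliceRel a u₀ u₁ v₀ v₁ := by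
  refine pull_bcFst_injective g W ?_
  have e : ∀ u v, pb (slicePt (bc g W) (bcPt g u) (bcPt g v)) (bcClass g a) =
      PicM.pull (bcFst g W) (pb (slicePt W u v) a) := fun u v =>
    (PicM.pull_pull _ _ _).trans ((congrArg (fun φ => PicM.pull φ a) (slicePt_bcProd u v)).trans
      (PicM.pull_pull _ _ _).symm)
  simp only [SliceRel, e] at h
  rw [map_mul, map_mul]
  exact h

/-- The tautological point of an integral scheme over an algebraic closure of its function field. -/
theorem exists_generic_closure (U : Over (Spec (CommRingCat.of k))) [IsIntegral U.left] :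
    ∃ (Ω : Type u) (_ : Field Ω) (_ : IsAlgClosed Ω) (g : Spec (CommRingCat.of Ω) ⟶ Spec (CommRingCat.of k))
      (η : Spec (CommRingCat.of Ω) ⟶ U.left), η ≫ U.hom = g ∧ η (IsLocalRing.closedPoint Ω) = genericPoint U.left := by
  let Ω := AlgebraicClosure U.left.functionField
  let η : Spec (CommRingCat.of Ω) ⟶ U.left :=
    Spec.map (CommRingCat.ofHom (algebraMap U.left.functionField Ω)) ≫ U.left.fromSpecStalk (genericPoint U.left)
  refine ⟨Ω, inferInstance, inferInstance, η ≫ U.hom, η, rfl, ?_⟩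
  have hsub : Spec.map (CommRingCat.ofHom (algebraMap U.left.functionField Ω))
      (IsLocalRing.closedPoint Ω : Spec (CommRingCat.of Ω)) =
      (IsLocalRing.closedPoint U.left.functionField : Spec (CommRingCat.of U.left.functionField)) :=
    Subsingleton.elim (α := PrimeSpectrum U.left.functionField) _ _
  exact (congrArg (fun p => U.left.fromSpecStalk (genericPoint U.left) p) hsub).trans
    Scheme.fromSpecStalk_closedPoint

theorem bcPt_geom [IsAlgClosed k] [IsIntegral U.left] [LocallyOfFiniteType U.hom] :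
    IsIntegral (bc g U).left ∧ LocallyOfFiniteType (bc g U).hom :=
  haveI := AbVarLib.geometricallyIntegral_of_isAlgClosed U.hom
  ⟨GeometricallyIntegral.geometrically_isIntegral (f := U.hom) g _ _ (isPullback_bc g U),
    inferInstanceAs (LocallyOfFiniteType (pullback.snd U.hom g))⟩

/-- The relation when one pair is joined. -/
theorem sliceRel_of_joined_right [IsAlgClosed k] [IsIntegral U.left] [LocallyOfFiniteType U.hom] [Smooth W.hom]
    [QuasiCompact W.hom] [GeometricallyIntegral W.hom]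
    (w₀ : 𝟙_ (Over (Spec (CommRingCat.of k))) ⟶ W) (a : PicM (U ⊗ (V ⊗ W)).left)
    (u₀ u₁ : 𝟙_ (Over (Spec (CommRingCat.of k))) ⟶ U) {v₀ v₁ : 𝟙_ (Over (Spec (CommRingCat.of k))) ⟶ V}
    (hv : Joined v₀ v₁) : SliceRel a u₀ u₁ v₀ v₁ := by
  obtain ⟨Ω, _, _, g, η, hη, hgen⟩ := exists_generic_closure U
  have : Smooth (bc g W).hom := inferInstanceAs (Smooth (pullback.snd W.hom g))
  have : GeometricallyIntegral (bc g W).hom := inferInstanceAs (GeometricallyIntegral (pullback.snd W.hom g))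
  refine sliceRel_of_bc (g := g) ?_
  have h := fun u => slice_relation_of_joined (bcPt g w₀) (bcClass g a) (exists_joined_generic g u η hη hgen)
    (joined_bcPt hv)
  exact (h u₀).trans_left (h u₁).symm_left

/-- The relation for all pairs of points. -/
theorem sliceRel_all [IsAlgClosed k] [IsIntegral U.left] [LocallyOfFiniteType U.hom] [IsIntegral V.left]
    [LocallyOfFiniteType V.hom] [Smooth W.hom] [QuasiCompact W.hom] [GeometricallyIntegral W.hom]
    (w₀ : 𝟙_ (Over (Spec (CommRingCat.of k))) ⟶ W) (a : PicM (U ⊗ (V ⊗ W)).left)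
    (u₀ u₁ : 𝟙_ (Over (Spec (CommRingCat.of k))) ⟶ U) (v₀ v₁ : 𝟙_ (Over (Spec (CommRingCat.of k))) ⟶ V) :
    SliceRel a u₀ u₁ v₀ v₁ := by
  obtain ⟨Ω, _, _, g, η, hη, hgen⟩ := exists_generic_closure V
  have : Smooth (bc g W).hom := inferInstanceAs (Smooth (pullback.snd W.hom g))
  have : QuasiCompact (bc g W).hom := inferInstanceAs (QuasiCompact (pullback.snd W.hom g))
  have : GeometricallyIntegral (bc g W).hom := inferInstanceAs (GeometricallyIntegral (pullback.snd W.hom g))
  obtain ⟨_, _⟩ := bcPt_geom (U := U) (g := g)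
  refine sliceRel_of_bc (g := g) ?_
  have h := fun v => sliceRel_of_joined_right (bcPt g w₀) (bcClass g a) (bcPt g u₀) (bcPt g u₁)
    (exists_joined_generic g v η hη hgen)
  exact (h v₀).trans_right (h v₁).symm_right

end Groth.Agent.CubeLib
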