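import Groth.Agent.CubeLib.SeeSawGeneric
import Groth.Agent.CubeLib.SliceRelAll
import Groth.Agent.Coherent.CohBC.Relative
import Groth.Agent.Coherent.CohBC.HomSheaf
import Groth.Agent.CurveRR24.Sky
import Groth.Agent.PicLib.FormalGen
import Groth.Agent.Coherent.HigherQcoh
import Groth.Agent.PicLib.FiniteSetTriv
import Mathlib.AlgebraicGeometry.Morphisms.Proper

/-!
# See-saw with a proper fibre

`T`, `W` varieties over an algebraically closed field, `W` proper.  By semicontinuity a class on `T × W` which is
trivial on the fibres over the rational points of `T` is trivial on the generic fibres; with the see-saw along a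
section it is therefore trivial as soon as it is trivial on a section.
-/

set_option autoImplicit false
set_option backward.isDefEq.respectTransparency.types false

universe u

open CategoryTheory CategoryTheory.Limits MonoidalCategory CartesianMonoidalCategory AlgebraicGeometry Opposite
  TopologicalSpace
open Groth.Agent.PicLib Groth.Agent.AmpleLib Groth.Agent.Coherent

namespace Groth.Agent.CubeLib

/-- On an integral scheme a nonzero section of an invertible module generates at the generic point. -/
theorem genericPoint_mem_glocus {X : Scheme.{u}} [IsIntegral X] {L : X.Modules} (hL : PicF.IsInvertible L)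
    {s : Γ(L, ⊤)} (hs : s ≠ 0) : genericPoint X ∈ glocus L s := by
  by_contra h
  refine hs (TopCat.Presheaf.section_ext (⟨L.presheaf, L.isSheaf⟩ : TopCat.Sheaf Ab X) ⊤ s 0
    fun z _ => ?_)
  obtain ⟨W, hzW, g, hg⟩ := exists_isGen hL z
  let f := hg.coef le_rfl (resM L le_top s)
  have hf : f • g = resM L (le_top : W ≤ ⊤) s := by
    have := hg.coef_spec le_rfl (resM L le_top s); rwa [resM_self] at this
  have hf0 : f = 0 := by
    refine (basicOpen_eq_bot_iff f).1 ?_
    by_contra hne
    obtain ⟨y, hy⟩ := (X.basicOpen f).ne_bot_iff_nonempty.1 hne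
    have hη : genericPoint X ∈ X.basicOpen f :=
      (genericPoint_spec X).mem_open_set_iff (X.basicOpen f).2 |>.2 ⟨y, trivial, hy⟩
    exact h ((glocus_inf s hg).ge hη).1
  have h0 : resM L (le_top : W ≤ ⊤) s = resM L (le_top : W ≤ ⊤) 0 := by
    rw [← hf, hf0, zero_smul, map_zero]
  let F : TopCat.Sheaf Ab X := ⟨L.presheaf, L.isSheaf⟩
  exact (TopCat.Presheaf.germ_res_apply F.presheaf (homOfLE (le_top (a := W))) z hzW s).symm.trans
    ((congrArg (F.presheaf.germ W z hzW) h0).trans
      (TopCat.Presheaf.germ_res_apply F.presheaf (homOfLE (le_top (a := W))) z hzW 0))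

/-- On a complete integral scheme over a field, two mutually inverse invertible modules which both have sections are
trivial. -/
theorem eq_one_of_sections {K : Type u} [Field K] {X : Scheme.{u}} [IsIntegral X] (π : X ⟶ Spec (CommRingCat.of K))
    [UniversallyClosed π] {L M : X.Modules} (hL : PicF.IsInvertible L) (hM : PicF.IsInvertible M)
    (h : PicM.of hL * PicM.of hM = 1) {s : Γ(L, ⊤)} (hs : s ≠ 0) {t : Γ(M, ⊤)} (ht : t ≠ 0) : PicM.of hL = 1 := by
  rw [PicM.of_mul, PicM.of_eq_one_iff] at h
  obtain ⟨e⟩ := h
  let f : Γ(X, ⊤) := e.hom.app ⊤ (tmul s t)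
  have hg : glocus (Coh.structureModule X) f = glocus L s ⊓ glocus M t :=
    (glocus_map_iso e (tmul s t)).trans (glocus_tmul hL hM s t)
  have hb : X.basicOpen f = glocus L s ⊓ glocus M t := by
    rw [← hg]
    have := glocus_inf (L := Coh.structureModule X) f (isGen_oneSec (⊤ : X.Opens))
    rw [inf_top_eq] at this
    rw [this]
    refine congrArg (X.basicOpen (U := ⊤)) ((isGen_oneSec (⊤ : X.Opens)).coef_eq le_rfl ?_).symm
    rw [resM_self, resM_self]
    exact _root_.mul_one f
  have hne : f ≠ 0 := fun h0 => by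
    have hmem : genericPoint X ∈ X.basicOpen f :=
      hb ▸ ⟨genericPoint_mem_glocus hL hs, genericPoint_mem_glocus hM ht⟩
    rw [h0, Scheme.basicOpen_zero] at hmem
    exact hmem
  obtain ⟨g, hfg⟩ := (isField_of_universallyClosed K π).mul_inv_cancel hne
  have htop : X.basicOpen f = ⊤ := Scheme.basicOpen_of_isUnit _ (IsUnit.of_mul_eq_one _ hfg)
  have : glocus L s = ⊤ := top_le_iff.1 (htop ▸ hb.le.trans inf_le_left)
  exact eq_one_of_isGen_top hL (t := s) (by
    have := (le_glocus_iff s ⊤).1 this.ge
    rwa [resM_self] at this)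

/-- The trivial module on a nonempty scheme has a nonzero section. -/
theorem exists_ne_zero_of_eq_one {X : Scheme.{u}} [Nonempty X] {L : X.Modules} {hL : PicF.IsInvertible L}
    (h : PicM.of hL = 1) : ∃ s : Γ(L, ⊤), s ≠ 0 := by
  obtain ⟨t, ht⟩ := exists_isGen_top h
  refine ⟨t, fun h0 => ?_⟩
  have : Nonempty ↥(⊤ : X.Opens) := ⟨⟨Classical.arbitrary X, trivial⟩⟩
  exact one_ne_zero (α := Γ(X, ⊤)) ((ht ⊤ le_rfl).1 (show (1 : Γ(X, ⊤)) • resM L le_rfl t = 0 • resM L le_rfl t by
    rw [h0, map_zero, smul_zero, smul_zero]))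

variable {k : Type u} [Field k] {T W : Over (Spec (CommRingCat.of k))}

/-- Nonzero sections on the fibres, read off the fibre rank. -/
theorem fiberRank_ne_zero_iff [IsProper W.hom] (L : (T ⊗ W).left.Modules) (hL : PicF.IsInvertible L)
    [LocallyOfFiniteType T.hom] (y : T.left) :
    CohIII.fiberRank (fst T W).left L 0 y ≠ 0 ↔
      ∃ s : Γ(CohIII.fiberMod (fst T W).left L y, ⊤), s ≠ 0 := by
  have : IsProper (fst T W).left := inferInstanceAs (IsProper (pullback.fst T.hom W.hom))
  have : IsLocallyNoetherian T.left := LocallyOfFiniteType.isLocallyNoetherian T.hom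
  have : IsLocallyNoetherian (T ⊗ W).left := LocallyOfFiniteType.isLocallyNoetherian (fst T W).left
  rw [Ne, ← CohBC.subsingleton_fiberH_iff_fiberRank _ L (isCoh_of_isInvertible hL) y 0,
    not_subsingleton_iff_nontrivial]
  let e := CurveRR24.hhZero (X := (fst T W).left.fiber y) (T.left.residueField y) (CohIII.fiberMod (fst T W).left L y)
  refine ⟨fun h => ?_, fun ⟨s, hs⟩ => ?_⟩
  · have := e.toEquiv.nontrivial_congr.1 h
    exact exists_ne (0 : GA (baseHom (T.left.residueField y) ((fst T W).left.fiber y))
      (CohIII.fiberMod (fst T W).left L y))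
  · have : Nontrivial (GA (baseHom (T.left.residueField y) ((fst T W).left.fiber y))
        (CohIII.fiberMod (fst T W).left L y)) := ⟨⟨s, 0, hs⟩⟩
    exact e.toEquiv.nontrivial

/-- By semicontinuity, trivial on all closed fibres gives trivial on the generic fibre. -/
theorem fibre_generic_of_closed [IsAlgClosed k] [IsProper W.hom] [GeometricallyIntegral W.hom]
    [LocallyOfFiniteType T.hom] [IsIntegral T.left] (a : PicM (T ⊗ W).left)
    (h : ∀ t : 𝟙_ (Over (Spec (CommRingCat.of k))) ⟶ T, PicM.pull (lift (toUnit W ≫ t) (𝟙 W)).left a = 1) :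
    PicM.pull ((fst T W).left.fiberι (genericPoint T.left)) a = 1 := by
  classical
  have : IsProper (fst T W).left := inferInstanceAs (IsProper (pullback.fst T.hom W.hom))
  have : GeometricallyIntegral (fst T W).left := inferInstanceAs (GeometricallyIntegral (pullback.fst T.hom W.hom))
  have : Flat W.hom := flat_of_field _
  have : Flat (fst T W).left := inferInstanceAs (Flat (pullback.fst T.hom W.hom))
  have : IsLocallyNoetherian T.left := LocallyOfFiniteType.isLocallyNoetherian T.hom
  have : IsLocallyNoetherian (T ⊗ W).left := LocallyOfFiniteType.isLocallyNoetherian (fst T W).left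
  have := hasInjectiveResolutions_modules (T ⊗ W).left
  have hWi : IsIntegral W.left := GeometricallyIntegral.isIntegral_of_subsingleton W.hom
  have hgen : ∀ (L : (T ⊗ W).left.Modules) (hL : PicF.IsInvertible L),
      (∀ t : 𝟙_ (Over (Spec (CommRingCat.of k))) ⟶ T, PicM.pull (lift (toUnit W ≫ t) (𝟙 W)).left (PicM.of hL) = 1) →
      ∃ s : Γ(CohIII.fiberMod (fst T W).left L (genericPoint T.left), ⊤), s ≠ 0 := by
    intro L hL hLt
    rw [← fiberRank_ne_zero_iff L hL]
    have hcl : IsClosed {y : T.left | CohIII.fiberRank (fst T W).left L 0 y ≠ 0} := by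
      rw [← isOpen_compl_iff]
      simpa only [Set.compl_ne_eq_singleton, Set.compl_ofPred, not_not] using
        CohBC.isOpen_fiberRank_eq_zero (fst T W).left L (isCoh_of_isInvertible hL)
          (CohBC.isFlatOver_of_isFinLocFree _ fun x =>
            let ⟨U, hx, e⟩ := isFinLocFreeOfRank_one hL x; ⟨U, 1, hx, e⟩) 0
    refine hcl.closure_subset_iff.2 (fun y (hy : IsClosed ({y} : Set T.left)) => ?_)
      (show genericPoint T.left ∈ closure (closedPoints T.left) by
        have : JacobsonSpace T.left := LocallyOfFiniteType.jacobsonSpace T.hom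
        rw [closure_closedPoints]
        trivial)
    show CohIII.fiberRank (fst T W).left L 0 y ≠ 0
    rw [fiberRank_ne_zero_iff L hL]
    let t : 𝟙_ (Over (Spec (CommRingCat.of k))) ⟶ T :=
      Over.homMk (pointOfClosedPoint T.hom y hy) (pointOfClosedPoint_comp T.hom y hy)
    let ψ : (fst T W).left.fiber y ⟶ W.left := (fst T W).left.fiberι y ≫ (snd T W).left
    have hfac : (fst T W).left.fiberι y = ψ ≫ (lift (toUnit W ≫ t) (𝟙 W)).left := by
      refine hom_ext_prod ?_ ?_
      · rw [Category.assoc, ← Over.comp_left, lift_fst, Over.comp_left,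
          show (toUnit W).left = W.hom from (Category.comp_id _).symm.trans (Over.w (toUnit W))]
        show _ = ((fst T W).left.fiberι y ≫ (snd T W).left) ≫ W.hom ≫
          Spec.map (residueFieldIsoBase T.hom y hy).hom ≫ T.left.fromSpecResidueField y
        rw [Category.assoc, ← Category.assoc (snd T W).left, show (snd T W).left ≫ W.hom = (fst T W).left ≫ T.hom from
          (Over.w (snd T W)).trans (Over.w (fst T W)).symm, Category.assoc, ← Category.assoc,
          Scheme.Hom.fiber_fac, Category.assoc, ← Category.assoc _ T.hom, ← SpecMap_residueFieldIsoBase_inv T.hom y hy,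
          ← Category.assoc (Spec.map _) (Spec.map _), ← Spec.map_comp, Iso.hom_inv_id, Spec.map_id, Category.id_comp]
      · rw [Category.assoc, ← Over.comp_left, lift_snd, Over.id_left, Category.comp_id]
    have hne : Nonempty ((fst T W).left.fiber y) := by
      obtain ⟨w⟩ : Nonempty W.left := inferInstance
      obtain ⟨z, hz, -⟩ := Scheme.Pullback.exists_preimage_pullback (f := T.hom) (g := W.hom) y w (Subsingleton.elim (α := PrimeSpectrum k) _ _)
      exact ⟨((fst T W).left.fiberHomeo y).symm ⟨z, hz⟩⟩
    refine exists_ne_zero_of_eq_one (hL := PicLoc.isInvertible_pullback ((fst T W).left.fiberι y) hL) ?_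
    rw [← PicM.pull_of _ hL, hfac, ← PicM.pull_pull, hLt, map_one]
  obtain ⟨L, hL, rfl⟩ := PicM.exists_eq_of a
  obtain ⟨b, hb⟩ := PicM.exists_mul_eq_one (PicM.of hL)
  obtain ⟨M, hM, rfl⟩ := PicM.exists_eq_of b
  obtain ⟨s, hs⟩ := hgen L hL h
  obtain ⟨t, ht⟩ := hgen M hM fun p => by
    have := congrArg (PicM.pull (lift (toUnit W ≫ p) (𝟙 W)).left) hb
    rwa [map_mul, map_one, h p, _root_.one_mul] at this
  have : IsIntegral ((fst T W).left.fiber (genericPoint T.left)) :=
    GeometricallyIntegral.geometrically_isIntegral (f := (fst T W).left) _ _ _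
      (IsPullback.of_hasPullback (fst T W).left (T.left.fromSpecResidueField (genericPoint T.left)))
  have : UniversallyClosed ((fst T W).left.fiberToSpecResidueField (genericPoint T.left)) :=
    MorphismProperty.pullback_snd (P := @UniversallyClosed) _ _ inferInstance
  rw [PicM.pull_of]
  refine eq_one_of_sections (K := T.left.residueField (genericPoint T.left))
    ((fst T W).left.fiberToSpecResidueField (genericPoint T.left)) _ (PicLoc.isInvertible_pullback _ hM) ?_ hs ht
  rw [← PicM.pull_of _ hL, ← PicM.pull_of _ hM, ← map_mul, hb, map_one]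

/-- Trivial on all closed fibres gives trivial on the geometric generic fibre. -/
theorem geometric_generic_of_closed [IsAlgClosed k] [IsProper W.hom] [GeometricallyIntegral W.hom]
    [LocallyOfFiniteType T.hom] [IsIntegral T.left] (a : PicM (T ⊗ W).left)
    (h : ∀ t : 𝟙_ (Over (Spec (CommRingCat.of k))) ⟶ T, PicM.pull (lift (toUnit W ≫ t) (𝟙 W)).left a = 1)
    {Ω : Type u} [Field Ω] {g : Spec (CommRingCat.of Ω) ⟶ Spec (CommRingCat.of k)}
    (η : Spec (CommRingCat.of Ω) ⟶ T.left) (hη : η ≫ T.hom = g)
    (hgen : η (IsLocalRing.closedPoint Ω) = genericPoint T.left) :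
    PicM.pull (genericFibreMap (W := W) η hη) a = 1 := by
  have hgf : PicM.pull ((fst T W).left.fiberι (η (IsLocalRing.closedPoint Ω))) a = 1 := by
    rw [hgen]
    exact fibre_generic_of_closed a h
  have e : genericFibreMap (W := W) η hη = pullback.lift (genericFibreMap (W := W) η hη)
      ((bc g W).hom ≫ Spec.map (T.left.descResidueField (Scheme.stalkClosedPointTo η)))
      (by rw [Category.assoc, Scheme.descResidueField_stalkClosedPointTo_fromSpecResidueField, genericFibreMap_fst]) ≫
      (fst T W).left.fiberι (η (IsLocalRing.closedPoint Ω)) := (pullback.lift_fst _ _ _).symm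
  rw [e, ← PicM.pull_pull]
  exact (congrArg _ hgf).trans (map_one _)

/-- The see-saw theorem for a proper fibre over a smooth base. -/
theorem eq_one_of_closed_fibres [IsAlgClosed k] [Smooth T.hom] [IsIntegral T.left] [IsProper W.hom]
    [GeometricallyIntegral W.hom] (w₀ : 𝟙_ (Over (Spec (CommRingCat.of k))) ⟶ W) (a : PicM (T ⊗ W).left)
    (hsec : PicM.pull (lift (𝟙 T) (toUnit T ≫ w₀)).left a = 1)
    (h : ∀ t : 𝟙_ (Over (Spec (CommRingCat.of k))) ⟶ T, PicM.pull (lift (toUnit W ≫ t) (𝟙 W)).left a = 1) : a = 1 := by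
  obtain ⟨Ω, _, _, g, η, hη, hgen⟩ := exists_generic_closure T
  exact eq_one_of_geometric_generic w₀ a hsec η hη hgen (geometric_generic_of_closed a h η hη hgen)

end Groth.Agent.CubeLib
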