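import Groth.Agent.CubeLib.SectionExtend
import Groth.Agent.CubeLib.SeeSawProper
import Groth.Agent.Coherent.CohBC.PushStructureIso
import Groth.Agent.AbSchLib.GlobalSections

/-!
# Invertible modules trivial on the fibres, over a reduced base

`f` proper flat over a reduced locally Noetherian base whose fibres have only scalar functions: an invertible module
which is trivial on every fibre is generated by one section over the inverse image of a neighbourhood of each point,
so `f_* L` is invertible and `f^* f_* L = L`.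
-/

set_option autoImplicit false
set_option backward.isDefEq.respectTransparency false

universe u

open CategoryTheory CategoryTheory.Limits AlgebraicGeometry Opposite TopologicalSpace
open Groth.Agent.Coherent Groth.Agent.PicLib Groth.Agent.AmpleLib Groth.Agent.Coherent.CohBC

namespace Groth.Agent.CubeLib

variable {X Y : Scheme.{u}} (f : X ⟶ Y)

theorem bijective_algebraMap_fibre_of_finrank {y : Y}
    (h : Module.finrank (Y.residueField y) Γ(f.fiber y, ⊤) = 1) :
    Function.Bijective (algebraMap (Y.residueField y) Γ(f.fiber y, ⊤)) := by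
  have : Nontrivial Γ(f.fiber y, ⊤) := Module.nontrivial_of_finrank_eq_succ h
  refine ⟨(algebraMap (Y.residueField y) Γ(f.fiber y, ⊤)).injective, fun z => ?_⟩
  have hz : z ∈ (⊥ : Subalgebra (Y.residueField y) Γ(f.fiber y, ⊤)) := by
    rw [Subalgebra.bot_eq_top_of_finrank_eq_one h]
    trivial
  exact Algebra.mem_bot.1 hz

theorem bijective_algebraMap_fibre [IsProper f] [GeometricallyConnected f] [GeometricallyReduced f] (y : Y) :
    Function.Bijective (algebraMap (Y.residueField y) Γ(f.fiber y, ⊤)) := by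
  have : IsProper (f.fiberToSpecResidueField y) :=
    MorphismProperty.pullback_snd (P := @IsProper) _ _ inferInstance
  have : GeometricallyConnected (f.fiberToSpecResidueField y) :=
    MorphismProperty.pullback_snd (P := @GeometricallyConnected) _ _ inferInstance
  have : GeometricallyReduced (f.fiberToSpecResidueField y) :=
    MorphismProperty.pullback_snd (P := @GeometricallyReduced) _ _ inferInstance
  show Function.Bijective ((f.fiberToSpecResidueField y).appTop.hom.comp (Scheme.ΓSpecIso (Y.residueField y)).inv.hom)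
  rw [RingHom.coe_comp]
  exact (AbSchLib.bijective_appTop_of_field (Y.residueField y) (f.fiberToSpecResidueField y)).comp
    (ConcreteCategory.bijective_of_isIso (Scheme.ΓSpecIso (Y.residueField y)).inv)

variable {f}

/-- Modules coming from the base are trivial on the fibres. -/
theorem fibre_eq_one_of_pull (b : PicM Y) (y : Y) : PicM.pull (f.fiberι y) (PicM.pull f b) = 1 := by
  rw [PicM.pull_pull, f.fiber_fac, ← PicM.pull_pull]
  exact (congrArg _ (PicM.eq_one_of_field (Y.residueField y) _)).trans (map_one _)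

/-- The rank of a trivial fibre. -/
theorem fiberRank_eq_one {L : X.Modules} {hL : PicF.IsInvertible L} {y : Y}
    (hy : Function.Bijective (algebraMap (Y.residueField y) Γ(f.fiber y, ⊤)))
    (h : PicM.pull (f.fiberι y) (PicM.of hL) = 1) : CohIII.fiberRank f L 0 y = 1 := by
  rw [PicM.pull_of, PicM.of_eq_one_iff] at h
  obtain ⟨e⟩ := h
  refine (finrank_HH_congr (Y.residueField y) (e ≪≫ (PicLoc.pullbackStructureIso (f.fiberι y)).symm) 0).trans ?_
  exact fiberRank_structureModule_eq_one f y hy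

/-- A module trivial on the fibres has a generator over the inverse image of a neighbourhood of each point. -/
theorem exists_gen_preimage [IsProper f] [Flat f] [IsLocallyNoetherian Y] [IsReduced Y]
    (h0 : ∀ y : Y, Function.Bijective (algebraMap (Y.residueField y) Γ(f.fiber y, ⊤)))
    {L : X.Modules} (hL : PicF.IsInvertible L) (htriv : ∀ y, PicM.pull (f.fiberι y) (PicM.of hL) = 1) (y : Y) :
    ∃ V : Y.Opens, y ∈ V ∧ ∃ s : Γ(L, f ⁻¹ᵁ V), IsGen L _ s := by
  classical
  have : IsLocallyNoetherian X := LocallyOfFiniteType.isLocallyNoetherian f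
  have := hasInjectiveResolutions_modules X
  obtain ⟨σ, hσ⟩ := exists_isGen_top ((PicM.pull_of (f.fiberι y) hL).symm.trans (htriv y))
  obtain ⟨U, hyU, t, ht⟩ := exists_section_extending_of_constant f L (isCoh_of_isInvertible hL)
    (isFlatOver_of_isFinLocFree _ fun x =>
      let ⟨U, hx, e⟩ := isFinLocFreeOfRank_one hL x; ⟨U, 1, hx, e⟩) y (fun z => fiberRank_eq_one (h0 z) (htriv z)) σ
  -- the points where `t` generates
  let O : X.Opens := sSup {W | ∃ h : W ≤ f ⁻¹ᵁ U, IsGen L W (resM L h t)}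
  have hOU : O ≤ f ⁻¹ᵁ U := sSup_le fun W hW => hW.1
  have hfib : ∀ x, f x = y → x ∈ O := by
    intro x hx
    obtain ⟨z, rfl⟩ : x ∈ Set.range (f.fiberι y) := (f.range_fiberι y).ge hx
    obtain ⟨W₀, hzW₀, g₀, hg₀⟩ := exists_isGen hL (f.fiberι y z)
    let W := W₀ ⊓ f ⁻¹ᵁ U
    have hxU : f (f.fiberι y z) ∈ U := by rw [hx]; exact hyU
    have hzW : f.fiberι y z ∈ W := ⟨hzW₀, hxU⟩
    have hWU : W ≤ f ⁻¹ᵁ U := inf_le_right
    have hg := hg₀.restrict (inf_le_left : W ≤ W₀)
    let c := hg.coef le_rfl (resM L hWU t)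
    have hc : c • resM L (inf_le_left : W ≤ W₀) g₀ = resM L hWU t := by
      have := hg.coef_spec le_rfl (resM L hWU t)
      rwa [resM_self] at this
    have hgp := isGen_pullSec (f.fiberι y) hg hL
    have hσW : IsGen ((Scheme.Modules.pullback (f.fiberι y)).obj L) (f.fiberι y ⁻¹ᵁ W)
        (pullSec (f.fiberι y) (resM L hWU t)) := by
      rw [← resM_pullSec (f.fiberι y) hWU t, ht, resM_resM]
      exact hσ.restrict _
    have hu : IsUnit ((f.fiberι y).app W c) := by
      rw [← hgp.coef_eq le_rfl (r := (f.fiberι y).app W c) (x := pullSec (f.fiberι y) (resM L hWU t))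
        (by rw [resM_self, ← pullSec_smul, hc])]
      exact hgp.isUnit_coef hσW
    have hzc : f.fiberι y z ∈ X.basicOpen c := by
      show z ∈ f.fiberι y ⁻¹ᵁ X.basicOpen c
      rw [Scheme.preimage_basicOpen, Scheme.basicOpen_of_isUnit _ hu]
      exact hzW
    refine Opens.mem_sSup.2 ⟨X.basicOpen c, ⟨(X.basicOpen_le c).trans hWU, ?_⟩, hzc⟩
    have hcu : IsUnit (res (X.basicOpen_le c) c) :=
      RingedSpace.isUnit_res_basicOpen X.toRingedSpace c
    have := (hg.restrict (X.basicOpen_le c)).smul_unit hcu.unit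
    rw [IsUnit.unit_spec] at this
    rwa [← resM_resM L hWU (X.basicOpen_le c), ← hc, resM_smul]
  let V : Y.Opens := U ⊓ ⟨(f '' (O : Set X)ᶜ)ᶜ, (f.isClosedMap _ O.isOpen.isClosed_compl).isOpen_compl⟩
  have hVO : f ⁻¹ᵁ V ≤ O := fun x hx => by
    by_contra h
    exact hx.2 ⟨x, h, rfl⟩
  refine ⟨V, ⟨hyU, fun ⟨x, hx, hxy⟩ => hx (hfib x hxy)⟩, resM L (f.preimage_mono inf_le_left) t, ?_⟩
  have hgenO : IsGen L O (resM L hOU t) := by
    refine isGen_of_cover (fun W : {W : X.Opens // ∃ h : W ≤ f ⁻¹ᵁ U, IsGen L W (resM L h t)} => W.1)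
      (fun W => le_sSup W.2) (sSup_le fun W hW => le_iSup (fun W : {W : X.Opens // ∃ h : W ≤ f ⁻¹ᵁ U,
        IsGen L W (resM L h t)} => W.1) ⟨W, hW⟩) fun W => ?_
    rw [resM_resM]
    exact W.2.2
  have := hgenO.restrict hVO
  rwa [resM_resM] at this

/-- With scalar functions on the fibres, `f_* O_X = O_Y`. -/
theorem isIso_app_of_fibres [IsProper f] [Flat f] [IsLocallyNoetherian Y]
    (h0 : ∀ y : Y, Function.Bijective (algebraMap (Y.residueField y) Γ(f.fiber y, ⊤))) (y : Y) :
    ∃ U : Y.Opens, y ∈ U ∧ ∀ V : Y.Opens, V ≤ U → IsIso (f.app V) :=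
  exists_nhd_isIso_app_of_fibre f y (h0 y)

/-- Generators over inverse images give an invertible direct image and `f^* f_* L = L`. -/
theorem isInvertible_push_and_isIso_counit {L : X.Modules}
    (h : ∀ y : Y, ∃ U : Y.Opens, y ∈ U ∧ (∀ V : Y.Opens, V ≤ U → IsIso (f.app V)) ∧
      ∃ s : Γ(L, f ⁻¹ᵁ U), IsGen L _ s) :
    PicF.IsInvertible ((Scheme.Modules.pushforward f).obj L) ∧
      IsIso ((Scheme.Modules.pullbackPushforwardAdjunction f).counit.app L) := by
  choose U hyU hiso s hs using h
  let G := (Scheme.Modules.pushforward f).obj L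
  let t : ∀ y, Γ(G, U y) := fun y => s y
  have hgenG : ∀ y, IsGen G (U y) (t y) := by
    intro y V hV
    have := hiso y V hV
    have hb := (hs y (f ⁻¹ᵁ V) (f.preimage_mono hV)).comp (ConcreteCategory.bijective_of_isIso (f.app V))
    exact hb
  have hG : PicF.IsInvertible G := isInvertible_of_gens fun y => ⟨U y, hyU y, t y, hgenG y⟩
  refine ⟨hG, ?_⟩
  let φ : (Scheme.Modules.pullback f).obj G ⟶ L := (Scheme.Modules.pullbackPushforwardAdjunction f).counit.app L
  let p : ∀ y, Γ((Scheme.Modules.pullback f).obj G, f ⁻¹ᵁ U y) := fun y => pullSec f (t y)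
  have hp : ∀ y, IsGen ((Scheme.Modules.pullback f).obj G) (f ⁻¹ᵁ U y) (p y) := fun y =>
    isGen_pullSec f (hgenG y) hG
  have hφ : ∀ y, φ.app (f ⁻¹ᵁ U y) (p y) = s y := fun y =>
    ConcreteCategory.congr_hom (congrArg (fun ψ => Scheme.Modules.Hom.app ψ (U y))
      ((Scheme.Modules.pullbackPushforwardAdjunction f).right_triangle_components L)) (t y)
  have hcov : (⨆ y, f ⁻¹ᵁ U y) = ⊤ := top_le_iff.1 fun x _ => Opens.mem_iSup.2 ⟨f x, hyU (f x)⟩
  let e : X → Y := f
  have hcov' : (⨆ x : X, f ⁻¹ᵁ U (e x)) = ⊤ := top_le_iff.1 fun x _ => Opens.mem_iSup.2 ⟨x, hyU (f x)⟩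
  obtain ⟨ψ, hψ⟩ := exists_hom_of_gen (fun x => f ⁻¹ᵁ U (e x)) hcov' (fun x => s (e x)) (fun x => hs (e x))
    (fun x => p (e x)) fun i j W hi hj c hc => by
      let c' := (hp (e j)).coef hj (resM _ hi (p (e i)))
      have hc' : c' • resM _ hj (p (e j)) = resM _ hi (p (e i)) := (hp (e j)).coef_spec hj _
      have h1 := congrArg (φ.app W) hc'
      rw [Scheme.Modules.Hom.app_smul, app_resM, app_resM, hφ, hφ, hc] at h1
      exact hc'.symm.trans (congrArg (· • _) ((hs (e j) W hj).1 h1))
  refine ⟨ψ, hom_ext_gen (fun x => f ⁻¹ᵁ U (e x)) hcov' (fun x => p (e x)) (fun x => hp (e x)) _ _ fun x => ?_,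
    hom_ext_gen (fun x => f ⁻¹ᵁ U (e x)) hcov' (fun x => s (e x)) (fun x => hs (e x)) _ _ fun x => ?_⟩
  · show ψ.app _ (φ.app _ (p (e x))) = p (e x)
    rw [hφ, hψ]
  · show φ.app _ (ψ.app _ (s (e x))) = s (e x)
    rw [hψ, hφ]

/-- The see-saw theorem over a reduced base. -/
theorem counit_of_trivial_fibres [IsProper f] [Flat f] [IsLocallyNoetherian Y] [IsReduced Y]
    (h0 : ∀ y : Y, Function.Bijective (algebraMap (Y.residueField y) Γ(f.fiber y, ⊤)))
    {L : X.Modules} (hL : PicF.IsInvertible L) (htriv : ∀ y, PicM.pull (f.fiberι y) (PicM.of hL) = 1) :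
    PicF.IsInvertible ((Scheme.Modules.pushforward f).obj L) ∧
      IsIso ((Scheme.Modules.pullbackPushforwardAdjunction f).counit.app L) :=
  isInvertible_push_and_isIso_counit fun y => by
    obtain ⟨V, hyV, s, hs⟩ := exists_gen_preimage h0 hL htriv y
    obtain ⟨U, hyU, hU⟩ := isIso_app_of_fibres h0 y
    exact ⟨V ⊓ U, ⟨hyV, hyU⟩, fun W hW => hU W (hW.trans inf_le_right),
      resM L (f.preimage_mono inf_le_left) s, hs.restrict _⟩

/-- Over a reduced base, a class trivial on the fibres comes from the base. -/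
theorem exists_pull_eq [IsProper f] [Flat f] [IsLocallyNoetherian Y] [IsReduced Y]
    (h0 : ∀ y : Y, Function.Bijective (algebraMap (Y.residueField y) Γ(f.fiber y, ⊤)))
    (a : PicM X) (htriv : ∀ y, PicM.pull (f.fiberι y) a = 1) : ∃ b : PicM Y, PicM.pull f b = a := by
  obtain ⟨L, hL, rfl⟩ := PicM.exists_eq_of a
  obtain ⟨hG, hiso⟩ := counit_of_trivial_fibres h0 hL htriv
  exact ⟨PicM.of hG, (PicM.pull_of _ _).trans ((PicM.of_eq_iff _ _).2
    ⟨asIso ((Scheme.Modules.pullbackPushforwardAdjunction f).counit.app L)⟩)⟩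

end Groth.Agent.CubeLib
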