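import Groth.Agent.AbCubeLib.CubeCor
import Groth.Agent.S0234
import Groth.Agent.VarietyLib.SmoothStalk
import Groth.Agent.CAlgH3.Factorial
import Groth.Agent.NeronLib.ProductDecomp

/-!
# Four points, and joined pairs of points

`four_point`: the relation between the restrictions of a class on `X × Y × Z` to four slices, for `X`, `Y` proper.
`Joined u₀ u₁`: both points lift to an open subscheme of a smooth proper geometrically integral scheme mapping to `U`;
`slice_relation_of_joined` transports the relation to pairs of joined points of arbitrary schemes.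
-/

set_option autoImplicit false
set_option backward.isDefEq.respectTransparency.types false

universe u

open CategoryTheory CategoryTheory.Limits MonoidalCategory CartesianMonoidalCategory AlgebraicGeometry
open Groth.Agent.PicLib Groth.Agent.AbCubeLib

namespace Groth.Agent.CubeLib

/-- Invertible classes extend from opens across points with factorial local rings. -/
theorem surjective_pull_of_isOpenImmersion {C X : Scheme.{u}} (j : C ⟶ X) [IsOpenImmersion j] [IsLocallyNoetherian X]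
    (hufd : ∀ x : X, UniqueFactorizationMonoid (X.presheaf.stalk x)) : Function.Surjective (PicM.pull j) := by
  intro b
  obtain ⟨L, hL, hb⟩ := PicM.exists_eq_of (PicM.pull j.isoOpensRange.inv b)
  obtain ⟨L', hL', ⟨e⟩⟩ := S0234.result X j.opensRange L hL fun x _ => hufd x
  refine ⟨PicM.of hL', ?_⟩
  have h1 : PicM.pull j.opensRange.ι (PicM.of hL') = PicM.of hL := by
    rw [PicM.pull_of, PicM.of_eq_iff]
    exact ⟨((Scheme.Modules.restrictFunctorIsoPullback j.opensRange.ι).app L').symm ≪≫ e⟩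
  rw [← j.isoOpensRange_hom_ι, ← PicM.pull_pull, h1, ← hb, PicM.pull_pull, Iso.hom_inv_id, PicM.pull_id]

variable {k : Type u} [Field k]

/-- Smooth integral schemes over a field have factorial local rings. -/
theorem ufd_of_smooth {X : Over (Spec (CommRingCat.of k))} [Smooth X.hom] [IsIntegral X.left] (x : X.left) :
    UniqueFactorizationMonoid (X.left.presheaf.stalk x) :=
  haveI := VarietyLib.isRegularLocalRing_stalk_of_smooth k X.left X.hom x
  CAlgH3.ufm_of_regular _

theorem smooth_tensor (X Y : Over (Spec (CommRingCat.of k))) [Smooth X.hom] [Smooth Y.hom] : Smooth (X ⊗ Y).hom :=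
  inferInstanceAs (Smooth (pullback.fst X.hom Y.hom ≫ X.hom))

/-- The slice of `U × (V × W)` at a pair of rational points. -/
noncomputable abbrev slicePt {U V : Over (Spec (CommRingCat.of k))} (W : Over (Spec (CommRingCat.of k)))
    (x : 𝟙_ (Over (Spec (CommRingCat.of k))) ⟶ U) (y : 𝟙_ (Over (Spec (CommRingCat.of k))) ⟶ V) : W ⟶ U ⊗ (V ⊗ W) :=
  lift (toUnit W ≫ x) (lift (toUnit W ≫ y) (𝟙 W))

/-- The relation for a pair of pairs of points. -/
def SliceRel {U V W : Over (Spec (CommRingCat.of k))} (a : PicM (U ⊗ (V ⊗ W)).left)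
    (u₀ u₁ : 𝟙_ (Over (Spec (CommRingCat.of k))) ⟶ U) (v₀ v₁ : 𝟙_ (Over (Spec (CommRingCat.of k))) ⟶ V) : Prop :=
  pb (slicePt W u₀ v₀) a * pb (slicePt W u₁ v₁) a = pb (slicePt W u₀ v₁) a * pb (slicePt W u₁ v₀) a

/-- The four point relation, two factors being proper. -/
theorem four_point {X Y Z : Over (Spec (CommRingCat.of k))} [IsProper X.hom] [GeometricallyIntegral X.hom]
    [IsProper Y.hom] [GeometricallyIntegral Y.hom] [LocallyOfFiniteType Z.hom] [GeometricallyIrreducible Z.hom]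
    (z₀ : 𝟙_ (Over (Spec (CommRingCat.of k))) ⟶ Z) (a : PicM (X ⊗ (Y ⊗ Z)).left)
    (x₀ x : 𝟙_ (Over (Spec (CommRingCat.of k))) ⟶ X) (y₀ y : 𝟙_ (Over (Spec (CommRingCat.of k))) ⟶ Y) :
    SliceRel a x₀ x y₀ y := by
  let p : X ⊗ (Y ⊗ Z) ⟶ X := fst _ _
  let q : X ⊗ (Y ⊗ Z) ⟶ Y := snd _ _ ≫ fst _ _
  let r : X ⊗ (Y ⊗ Z) ⟶ Z := snd _ _ ≫ snd _ _
  let cx : X ⊗ (Y ⊗ Z) ⟶ X := toUnit (X ⊗ (Y ⊗ Z)) ≫ x₀
  let cy : X ⊗ (Y ⊗ Z) ⟶ Y := toUnit (X ⊗ (Y ⊗ Z)) ≫ y₀
  let cz : X ⊗ (Y ⊗ Z) ⟶ Z := toUnit (X ⊗ (Y ⊗ Z)) ≫ z₀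
  have hconst : ∀ V : Over (Spec (CommRingCat.of k)),
      pb (lift (toUnit V ≫ x₀) (lift (toUnit V ≫ y₀) (toUnit V ≫ z₀))) a = 1 := fun V => by
    rw [← comp_lift, ← comp_lift]
    exact pb_const _ _
  have hconst' : ∀ V : Over (Spec (CommRingCat.of k)),
      PicM.pull (lift (toUnit V ≫ x₀) (lift (toUnit V ≫ y₀) (toUnit V ≫ z₀))).left a = 1 := hconst
  have key : a * pb (lift p (lift cy cz)) a * pb (lift cx (lift q cz)) a * pb (lift cx (lift cy r)) a =
      pb (lift p (lift q cz)) a * pb (lift p (lift cy r)) a * pb (lift cx (lift q r)) a := by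
    refine eq_of_slices x₀ y₀ z₀ ?_ ?_ ?_ <;>
      simp only [map_mul, pb, PicM.pull_pull, ← Over.comp_left] <;>
      simp only [p, q, r, cx, cy, cz, comp_lift, lift_fst, lift_snd, lift_fst_assoc, lift_snd_assoc,
        Category.assoc, Category.id_comp, Category.comp_id, comp_toUnit, comp_toUnit_assoc, lift_fst_snd] <;>
      simp only [hconst', _root_.one_mul, _root_.mul_one] <;>
      simp only [_root_.mul_comm, _root_.mul_left_comm]
  have h := congrArg (pb (slicePt Z x y)) key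
  simp only [map_mul, pb_pb] at h
  simp only [p, q, r, cx, cy, cz, slicePt, comp_lift, lift_fst, lift_snd, lift_fst_assoc, lift_snd_assoc,
    Category.assoc, Category.id_comp, Category.comp_id, comp_toUnit, comp_toUnit_assoc] at h
  have hc : ∀ (s : 𝟙_ (Over (Spec (CommRingCat.of k))) ⟶ X) (t : 𝟙_ (Over (Spec (CommRingCat.of k))) ⟶ Y),
      pb (lift (toUnit Z ≫ s) (lift (toUnit Z ≫ t) (toUnit Z ≫ z₀))) a = 1 := fun s t => by
    rw [← comp_lift, ← comp_lift]
    exact pb_const _ _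
  rw [hc, hc, hc, _root_.mul_one, _root_.mul_one, _root_.one_mul] at h
  exact (_root_.mul_comm _ _).trans (h.trans (_root_.mul_comm _ _))

/-- Two points lift to an open of a smooth proper geometrically integral scheme. -/
def Joined {U : Over (Spec (CommRingCat.of k))} (a b : 𝟙_ (Over (Spec (CommRingCat.of k))) ⟶ U) : Prop :=
  ∃ (X C : Over (Spec (CommRingCat.of k))) (j : C ⟶ X) (f : C ⟶ U), IsProper X.hom ∧ Smooth X.hom ∧
    GeometricallyIntegral X.hom ∧ IsOpenImmersion j.left ∧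
    ∃ c d : 𝟙_ (Over (Spec (CommRingCat.of k))) ⟶ C, c ≫ f = a ∧ d ≫ f = b

/-- The relation for pairs of joined points. -/
theorem slice_relation_of_joined {U V W : Over (Spec (CommRingCat.of k))} [Smooth W.hom] [GeometricallyIntegral W.hom]
    (w₀ : 𝟙_ (Over (Spec (CommRingCat.of k))) ⟶ W) (a : PicM (U ⊗ (V ⊗ W)).left)
    {u₀ u₁ : 𝟙_ (Over (Spec (CommRingCat.of k))) ⟶ U} {v₀ v₁ : 𝟙_ (Over (Spec (CommRingCat.of k))) ⟶ V}
    (hu : Joined u₀ u₁) (hv : Joined v₀ v₁) : SliceRel a u₀ u₁ v₀ v₁ := by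
  obtain ⟨X, C, j, f, hXp, hXs, hXg, hj, c₀, c₁, rfl, rfl⟩ := hu
  obtain ⟨Y, D, i, g, hYp, hYs, hYg, hi, d₀, d₁, rfl, rfl⟩ := hv
  have : IsLocallyNoetherian Y.left := LocallyOfFiniteType.isLocallyNoetherian Y.hom
  have : IsLocallyNoetherian X.left := LocallyOfFiniteType.isLocallyNoetherian X.hom
  have : Smooth (Y ⊗ W).hom := smooth_tensor Y W
  have : Smooth (X ⊗ (Y ⊗ W)).hom := smooth_tensor X (Y ⊗ W)
  have : GeometricallyIntegral (Y ⊗ W).hom := NeronLib.geometricallyIntegral_tensor Y W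
  have hPg : GeometricallyIntegral (X ⊗ (Y ⊗ W)).hom := NeronLib.geometricallyIntegral_tensor X (Y ⊗ W)
  have : IsLocallyNoetherian (X ⊗ (Y ⊗ W)).left := LocallyOfFiniteType.isLocallyNoetherian (X ⊗ (Y ⊗ W)).hom
  have : IsIntegral (X ⊗ (Y ⊗ W)).left :=
    GeometricallyIntegral.isIntegral_of_subsingleton (X ⊗ (Y ⊗ W)).hom
  have h1 : IsOpenImmersion (i ▷ W).left := by
    rw [Over.whiskerRight_left]
    infer_instance
  have h2 : IsOpenImmersion (j ⊗ₘ (i ▷ W)).left := by
    rw [Over.tensorHom_left]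
    infer_instance
  obtain ⟨b, hb⟩ := surjective_pull_of_isOpenImmersion (j ⊗ₘ (i ▷ W)).left ufd_of_smooth
    (PicM.pull (f ⊗ₘ (g ▷ W)).left a)
  have key : ∀ (c : 𝟙_ (Over (Spec (CommRingCat.of k))) ⟶ C) (d : 𝟙_ (Over (Spec (CommRingCat.of k))) ⟶ D),
      pb (slicePt W (c ≫ f) (d ≫ g)) a = pb (slicePt W (c ≫ j) (d ≫ i)) b := fun c d => by
    have e1 : slicePt W c d ≫ (f ⊗ₘ (g ▷ W)) = slicePt W (c ≫ f) (d ≫ g) := by
      ext1
      · simp
      · ext1 <;> simp
    have e2 : slicePt W c d ≫ (j ⊗ₘ (i ▷ W)) = slicePt W (c ≫ j) (d ≫ i) := by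
      ext1
      · simp
      · ext1 <;> simp
    rw [← e1, ← e2, ← pb_pb, ← pb_pb]
    exact congrArg (pb (slicePt W c d)) hb.symm
  show _ * _ = _ * _
  rw [key, key, key, key]
  exact four_point w₀ b _ _ _ _

end Groth.Agent.CubeLib
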