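import Groth.Agent.CubeLib.FibrewiseTriv
import Groth.Agent.AbVarLib.AlgClosedIntegral
import Mathlib.AlgebraicGeometry.AlgClosed.Basic

/-!
# Loci on the base cut out by `h⁰` of the fibres
-/

set_option autoImplicit false
set_option backward.isDefEq.respectTransparency false

universe u

open CategoryTheory CategoryTheory.Limits AlgebraicGeometry Opposite TopologicalSpace
open Groth.Agent.Coherent Groth.Agent.PicLib Groth.Agent.AmpleLib Groth.Agent.Coherent.CohBC

namespace Groth.Agent.CubeLib

variable {X S : Scheme.{u}} (f : X ⟶ S) [IsProper f] [IsLocallyNoetherian S]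

/-- Nonzero sections on a fibre, read off the fibre rank. -/
theorem fiberRank_ne_zero_iff' {L : X.Modules} (hL : PicF.IsInvertible L) (y : S) :
    CohIII.fiberRank f L 0 y ≠ 0 ↔ ∃ s : Γ(CohIII.fiberMod f L y, ⊤), s ≠ 0 := by
  have : IsLocallyNoetherian X := LocallyOfFiniteType.isLocallyNoetherian f
  have := hasInjectiveResolutions_modules X
  rw [Ne, ← CohBC.subsingleton_fiberH_iff_fiberRank f L (isCoh_of_isInvertible hL) y 0,
    not_subsingleton_iff_nontrivial]
  let e := CurveRR24.hhZero (X := f.fiber y) (S.residueField y) (CohIII.fiberMod f L y)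
  refine ⟨fun h => ?_, fun ⟨s, hs⟩ => ?_⟩
  · have := e.toEquiv.nontrivial_congr.1 h
    exact exists_ne (0 : GA (baseHom (S.residueField y) (f.fiber y)) (CohIII.fiberMod f L y))
  · have : Nontrivial (GA (baseHom (S.residueField y) (f.fiber y)) (CohIII.fiberMod f L y)) := ⟨⟨s, 0, hs⟩⟩
    exact e.toEquiv.nontrivial

variable [HasInjectiveResolutions X.Modules]

/-- Upper semicontinuity of the fibre ranks. -/
theorem isOpen_fiberRank_lt (F : X.Modules) (hF : Coh.IsCoh F) (hfl : FlatMod.IsFlatOver f F) (p n : ℕ) :
    IsOpen {y : S | CohIII.fiberRank f F p y < n} := by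
  rw [isOpen_iff_forall_mem_open]
  intro y hy
  obtain ⟨V₁, hV, hyV, -⟩ := Opens.isBasis_iff_nbhd.mp S.isBasis_affineOpens (Opens.mem_top y)
  let V : S.Opens := V₁
  have : IsNoetherianRing Γ(S, V) := IsLocallyNoetherian.component_noetherian ⟨V, hV⟩
  obtain ⟨P, hP, -, -, hd, -⟩ := exists_localComplex f F hF hfl hV
  refine ⟨_, fun z hz => ?_, hV.fromSpec.isOpenEmbedding.isOpenMap _
    ((upperSemicontinuous_iff_isOpen_preimage.1 (FlatCxLib.upperSemicontinuous_dRank P hP (-(p : ℤ)))) n),
    ⟨hV.primeIdealOf ⟨y, hyV⟩, ?_, hV.fromSpec_primeIdealOf _⟩⟩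
  · obtain ⟨x, hx, rfl⟩ := hz
    have hxV : hV.fromSpec x ∈ V := hV.range_fromSpec.le ⟨x, rfl⟩
    show CohIII.fiberRank f F p (hV.fromSpec x) < n
    rw [hd p _ hxV, show hV.primeIdealOf ⟨hV.fromSpec x, hxV⟩ = x from
      hV.fromSpec.isOpenEmbedding.injective (hV.fromSpec_primeIdealOf _)]
    exact hx
  · show CohIII.dRank P (-(p : ℤ)) _ < n
    rw [← hd p y hyV]
    exact hy

omit [HasInjectiveResolutions X.Modules] in
/-- The locus where an invertible module is trivial on the fibre is closed, the fibres being integral. -/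
theorem isClosed_setOf_trivial_fibre [Flat f] (hint : ∀ y : S, IsIntegral (f.fiber y)) {L : X.Modules}
    (hL : PicF.IsInvertible L) : IsClosed {y : S | PicM.pull (f.fiberι y) (PicM.of hL) = 1} := by
  have : IsLocallyNoetherian X := LocallyOfFiniteType.isLocallyNoetherian f
  have := hasInjectiveResolutions_modules X
  obtain ⟨b, hb⟩ := PicM.exists_mul_eq_one (PicM.of hL)
  obtain ⟨M, hM, rfl⟩ := PicM.exists_eq_of b
  have hcl : ∀ {N : X.Modules}, PicF.IsInvertible N → IsClosed {y : S | CohIII.fiberRank f N 0 y ≠ 0} := fun {N} hN =>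
    (CohBC.isOpen_fiberRank_eq_zero f N (isCoh_of_isInvertible hN) (isFlatOver_of_isFinLocFree _ fun x =>
      let ⟨U, hx, e⟩ := isFinLocFreeOfRank_one hN x; ⟨U, 1, hx, e⟩) 0).isClosed_compl
  convert (hcl hL).inter (hcl hM) using 1
  refine Set.ext fun y => ?_
  show _ ↔ CohIII.fiberRank f L 0 y ≠ 0 ∧ CohIII.fiberRank f M 0 y ≠ 0
  rw [fiberRank_ne_zero_iff' f hL, fiberRank_ne_zero_iff' f hM]
  have hbf : PicM.pull (f.fiberι y) (PicM.of hL) * PicM.pull (f.fiberι y) (PicM.of hM) = 1 := by
    rw [← map_mul, hb, map_one]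
  refine ⟨fun (h : PicM.pull (f.fiberι y) (PicM.of hL) = 1) => ?_, fun ⟨⟨s, hs⟩, ⟨t, ht⟩⟩ => ?_⟩
  · have := hint y
    have h' : PicM.pull (f.fiberι y) (PicM.of hM) = 1 := by rwa [h, _root_.one_mul] at hbf
    exact ⟨exists_ne_zero_of_eq_one ((PicM.pull_of _ hL).symm.trans h),
      exists_ne_zero_of_eq_one ((PicM.pull_of _ hM).symm.trans h')⟩
  · have := hint y
    have : IsProper (f.fiberToSpecResidueField y) :=
      MorphismProperty.pullback_snd (P := @IsProper) _ _ inferInstance
    show PicM.pull (f.fiberι y) (PicM.of hL) = 1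
    rw [PicM.pull_of]
    refine eq_one_of_sections (K := S.residueField y) (f.fiberToSpecResidueField y) _
      (PicLoc.isInvertible_pullback _ hM) ?_ hs ht
    rw [← PicM.pull_of _ hL, ← PicM.pull_of _ hM]
    exact hbf

omit [HasInjectiveResolutions X.Modules] in
/-- For a flat proper family of varieties over a scheme of finite type over an algebraically closed field, the fibres
have only scalar functions. -/
theorem bijective_algebraMap_fibre_of_integral [Flat f] {k : Type u} [Field k] [IsAlgClosed k]
    (g : S ⟶ Spec (CommRingCat.of k)) [LocallyOfFiniteType g] (hint : ∀ y : S, IsIntegral (f.fiber y)) (y : S) :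
    Function.Bijective (algebraMap (S.residueField y) Γ(f.fiber y, ⊤)) := by
  have : IsLocallyNoetherian X := LocallyOfFiniteType.isLocallyNoetherian f
  have := hasInjectiveResolutions_modules X
  have hO := isFinLocFree_structureModule X
  have hU := isOpen_fiberRank_lt f (Coh.structureModule X) (isCoh_of_isFinLocFree hO)
    (isFlatOver_of_isFinLocFree f hO) 0 2
  have hclosed : ∀ z : S, IsClosed ({z} : Set S) →
      Function.Bijective (algebraMap (S.residueField z) Γ(f.fiber z, ⊤)) := by
    intro z hz
    have : IsAlgClosed (S.residueField z) :=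
      IsAlgClosed.of_ringEquiv k _ (residueFieldIsoBase g z hz).symm.commRingCatIsoToRingEquiv
    have : IsProper (f.fiberToSpecResidueField z) :=
      MorphismProperty.pullback_snd (P := @IsProper) _ _ inferInstance
    have := hint z
    have : GeometricallyIntegral (f.fiberToSpecResidueField z) :=
      AbVarLib.geometricallyIntegral_of_isAlgClosed (k := S.residueField z) (f.fiberToSpecResidueField z)
    have : GeometricallyConnected (f.fiberToSpecResidueField z) := ⟨fun K _ w P a b h => by
      have := GeometricallyIrreducible.geometrically_irreducibleSpace (f := f.fiberToSpecResidueField z) w a b h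
      infer_instance⟩
    show Function.Bijective ((f.fiberToSpecResidueField z).appTop.hom.comp (Scheme.ΓSpecIso (S.residueField z)).inv.hom)
    rw [RingHom.coe_comp]
    exact (AbSchLib.bijective_appTop_of_field (S.residueField z) (f.fiberToSpecResidueField z)).comp
      (ConcreteCategory.bijective_of_isIso (Scheme.ΓSpecIso (S.residueField z)).inv)
  have hlt : CohIII.fiberRank f (Coh.structureModule X) 0 y < 2 := by
    by_contra h
    have : JacobsonSpace S := LocallyOfFiniteType.jacobsonSpace g
    obtain ⟨z, hz, hzc⟩ := nonempty_inter_closedPoints (Z := {y : S | CohIII.fiberRank f (Coh.structureModule X) 0 y < 2}ᶜ)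
      ⟨y, h⟩ hU.isClosed_compl.isLocallyClosed
    exact hz ((fiberRank_structureModule_eq_one f z (hclosed z hzc)).trans_lt (by norm_num))
  have := hint y
  have : IsProper (f.fiberToSpecResidueField y) :=
    MorphismProperty.pullback_snd (P := @IsProper) _ _ inferInstance
  let K := S.residueField y
  let φ := baseHom K (f.fiber y)
  let E : Coh.HH (f.fiber y) (Coh.structureModule (f.fiber y)) 0 ≃ₗ[K]
      GA φ (Coh.structureModule (f.fiber y)) :=
    (HHA (A := K) (Coh.structureModule (f.fiber y)) 0).trans (secA φ (Coh.structureModule (f.fiber y)))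
  have hr : CohIII.fiberRank f (Coh.structureModule X) 0 y = Module.finrank K (GA φ (Coh.structureModule (f.fiber y))) :=
    (finrank_HH_congr K (PicLoc.pullbackStructureIso (f.fiberι y)) 0).trans E.finrank_eq
  rw [hr] at hlt
  let e : Γ(f.fiber y, ⊤) →ₗ[K] GA φ (Coh.structureModule (f.fiber y)) :=
    { toFun := fun a => (show GA φ (Coh.structureModule (f.fiber y)) from (a : Γ(f.fiber y, ⊤)))
      map_add' := fun _ _ => rfl
      map_smul' := fun c a => Algebra.smul_def c a }
  have hfin : Module.finrank K Γ(f.fiber y, ⊤) =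
      Module.finrank K (GA φ (Coh.structureModule (f.fiber y))) :=
    (LinearEquiv.ofBijective e ⟨fun _ _ h => h, fun b => ⟨b, rfl⟩⟩).finrank_eq
  have hK : RingHom.Finite (algebraMap K Γ(f.fiber y, ⊤)) := by
    show RingHom.Finite ((f.fiberToSpecResidueField y).appTop.hom.comp (Scheme.ΓSpecIso (S.residueField y)).inv.hom)
    exact (finite_appTop_of_universallyClosed _ (f.fiberToSpecResidueField y)).comp
      (RingHom.Finite.of_surjective _ (ConcreteCategory.bijective_of_isIso (Scheme.ΓSpecIso (S.residueField y)).inv).2)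
  have : Module.Finite K Γ(f.fiber y, ⊤) := RingHom.finite_algebraMap.1 hK
  refine bijective_algebraMap_fibre_of_finrank f ?_
  exact le_antisymm (Nat.lt_succ_iff.1 (hfin.trans_lt hlt)) (Module.finrank_pos (R := K) (M := Γ(f.fiber y, ⊤)))

end Groth.Agent.CubeLib
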