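import Groth.Agent.CubeLib.SeeSawGeneric
import Groth.Agent.CubeLib.SliceRelAll
import Groth.Agent.NeronLib.ProductDecomp

/-!
# The theorem of the cube without completeness

For smooth varieties `U`, `V`, `W` over an algebraically closed field, a class on `U × V × W` which is trivial on
three slices through a rational point is trivial.
-/

set_option autoImplicit false
set_option backward.isDefEq.respectTransparency.types false

universe u

open CategoryTheory CategoryTheory.Limits MonoidalCategory CartesianMonoidalCategory AlgebraicGeometry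
open Groth.Agent.PicLib Groth.Agent.AbCubeLib

namespace Groth.Agent.CubeLib

variable {k : Type u} [Field k] {U V W : Over (Spec (CommRingCat.of k))} {Ω : Type u} [Field Ω]
  {g : Spec (CommRingCat.of Ω) ⟶ Spec (CommRingCat.of k)}

theorem hom_ext_triple {P : Scheme.{u}} {φ ψ : P ⟶ (U ⊗ (V ⊗ W)).left}
    (h₁ : φ ≫ (fst U (V ⊗ W)).left = ψ ≫ (fst U (V ⊗ W)).left)
    (h₂ : φ ≫ (snd U (V ⊗ W) ≫ fst V W).left = ψ ≫ (snd U (V ⊗ W) ≫ fst V W).left)
    (h₃ : φ ≫ (snd U (V ⊗ W) ≫ snd V W).left = ψ ≫ (snd U (V ⊗ W) ≫ snd V W).left) : φ = ψ := by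
  refine hom_ext_prod h₁ (hom_ext_prod ?_ ?_)
  · simpa only [Category.assoc, ← Over.comp_left] using h₂
  · simpa only [Category.assoc, ← Over.comp_left] using h₃

/-- A slice over the extension field, with its three components. -/
theorem slicePt_bcGen_components (xU : Spec (CommRingCat.of Ω) ⟶ U.left) (hU : xU ≫ U.hom = g)
    (xV : Spec (CommRingCat.of Ω) ⟶ V.left) (hV : xV ≫ V.hom = g) {φ : (bc g W).left ⟶ (U ⊗ (V ⊗ W)).left}
    (hφ : φ = (slicePt (bc g W) (bcGen g xU hU) (bcGen g xV hV)).left ≫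
      bcProd (isPullback_bc g U) (isPullback_bcProd (isPullback_bc g V) (isPullback_bc g W))) :
    φ ≫ (fst U (V ⊗ W)).left = (bc g W).hom ≫ xU ∧
      φ ≫ (snd U (V ⊗ W) ≫ fst V W).left = (bc g W).hom ≫ xV ∧
      φ ≫ (snd U (V ⊗ W) ≫ snd V W).left = bcFst g W := by
  have e : (toUnit (bc g W)).left = (bc g W).hom := (Category.comp_id _).symm.trans (Over.w (toUnit (bc g W)))
  subst hφ
  refine ⟨?_, ?_, ?_⟩
  · rw [Category.assoc, bcProd_fst, ← Category.assoc, ← Over.comp_left, lift_fst, Over.comp_left, e, Category.assoc]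
    exact congrArg ((bc g W).hom ≫ ·) (pullback.lift_fst _ _ _)
  · rw [Over.comp_left, Category.assoc, ← Category.assoc _ (snd U (V ⊗ W)).left, bcProd_snd, Category.assoc,
      bcProd_fst, ← Category.assoc, ← Category.assoc, ← Over.comp_left, ← Over.comp_left, lift_snd, lift_fst,
      Over.comp_left, e, Category.assoc]
    exact congrArg ((bc g W).hom ≫ ·) (pullback.lift_fst _ _ _)
  · rw [Over.comp_left, Category.assoc, ← Category.assoc _ (snd U (V ⊗ W)).left, bcProd_snd, Category.assoc,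
      bcProd_snd, ← Category.assoc, ← Category.assoc, ← Over.comp_left, ← Over.comp_left, lift_snd, lift_snd,
      Over.id_left, Category.id_comp]

theorem toUnit_left (A : Over (Spec (CommRingCat.of k))) : (toUnit A).left = A.hom :=
  (Category.comp_id _).symm.trans (Over.w (toUnit A))

/-- The theorem of the cube for smooth varieties, not assumed complete. -/
theorem eq_one_of_slices_smooth [IsAlgClosed k] [Smooth U.hom] [GeometricallyIntegral U.hom] [Smooth V.hom]
    [GeometricallyIntegral V.hom] [Smooth W.hom] [QuasiCompact W.hom] [GeometricallyIntegral W.hom]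
    (a : 𝟙_ (Over (Spec (CommRingCat.of k))) ⟶ U) (b : 𝟙_ (Over (Spec (CommRingCat.of k))) ⟶ V)
    (c : 𝟙_ (Over (Spec (CommRingCat.of k))) ⟶ W) (N : PicM (U ⊗ (V ⊗ W)).left)
    (hx : pb (lift (toUnit (V ⊗ W) ≫ a) (𝟙 (V ⊗ W))) N = 1)
    (hy : pb (lift (fst U W) (lift (toUnit (U ⊗ W) ≫ b) (snd U W))) N = 1)
    (hz : pb (lift (fst U V) (lift (snd U V) (toUnit (U ⊗ V) ≫ c))) N = 1) : N = 1 := by
  have : Smooth (U ⊗ V).hom := smooth_tensor U V
  have : GeometricallyIntegral (U ⊗ V).hom := NeronLib.geometricallyIntegral_tensor U V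
  have : IsIntegral (U ⊗ V).left := GeometricallyIntegral.isIntegral_of_subsingleton (U ⊗ V).hom
  have : IsIntegral U.left := GeometricallyIntegral.isIntegral_of_subsingleton U.hom
  have : IsIntegral V.left := GeometricallyIntegral.isIntegral_of_subsingleton V.hom
  obtain ⟨Ω, _, _, g, η, hη, hgen⟩ := exists_generic_closure (U ⊗ V)
  have hP : pb (α_ U V W).hom N = 1 := by
    refine eq_one_of_geometric_generic c _ ?_ η hη hgen ?_
    · show pb (lift (𝟙 (U ⊗ V)) (toUnit (U ⊗ V) ≫ c)) (pb (α_ U V W).hom N) = 1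
      rw [pb_pb, show lift (𝟙 (U ⊗ V)) (toUnit (U ⊗ V) ≫ c) ≫ (α_ U V W).hom =
        lift (fst U V) (lift (snd U V) (toUnit (U ⊗ V) ≫ c)) by
          refine CartesianMonoidalCategory.hom_ext _ _ (by simp) ?_
          ext1 <;> simp]
      exact hz
    · let xU := η ≫ (fst U V).left
      let xV := η ≫ (snd U V).left
      have hU : xU ≫ U.hom = g := by rw [Category.assoc, Over.w, hη]
      have hV : xV ≫ V.hom = g := by rw [Category.assoc, Over.w, hη]
      have : Smooth (bc g W).hom := inferInstanceAs (Smooth (pullback.snd W.hom g))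
      have : QuasiCompact (bc g W).hom := inferInstanceAs (QuasiCompact (pullback.snd W.hom g))
      have : GeometricallyIntegral (bc g W).hom := inferInstanceAs (GeometricallyIntegral (pullback.snd W.hom g))
      obtain ⟨_, _⟩ := bcPt_geom (U := U) (g := g)
      obtain ⟨_, _⟩ := bcPt_geom (U := V) (g := g)
      have ha : (g ≫ a.left) ≫ U.hom = g := by rw [Category.assoc, Over.w a]; exact Category.comp_id g
      have hb : (g ≫ b.left) ≫ V.hom = g := by rw [Category.assoc, Over.w b]; exact Category.comp_id g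
      have hW : g ≫ c.left = g ≫ c.left := rfl
      have rel := sliceRel_all (bcPt g c) (bcClass g N) (bcGen g xU hU) (bcPt g a) (bcGen g xV hV) (bcPt g b)
      have eη : pb (slicePt (bc g W) (bcGen g xU hU) (bcGen g xV hV)) (bcClass g N) =
          PicM.pull (genericFibreMap (W := W) η hη) (pb (α_ U V W).hom N) := by
        refine (PicM.pull_pull _ _ _).trans (Eq.trans ?_ (PicM.pull_pull _ _ _).symm)
        refine congrArg (fun φ => PicM.pull φ N) ?_
        obtain ⟨h₁, h₂, h₃⟩ := slicePt_bcGen_components (W := W) xU hU xV hV rfl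
        refine hom_ext_triple (h₁.trans ?_) (h₂.trans ?_) (h₃.trans ?_)
        · rw [Category.assoc, ← Over.comp_left, associator_hom_fst, Over.comp_left,
            reassoc_of% genericFibreMap_fst (W := W) η hη]
        · rw [Category.assoc, ← Over.comp_left, associator_hom_snd_fst, Over.comp_left,
            reassoc_of% genericFibreMap_fst (W := W) η hη]
        · rw [Category.assoc, ← Over.comp_left, associator_hom_snd_snd, genericFibreMap_snd]
      have eb : pb (slicePt (bc g W) (bcGen g xU hU) (bcPt g b)) (bcClass g N) = 1 := by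
        refine (PicM.pull_pull _ _ _).trans ?_
        obtain ⟨h₁, h₂, h₃⟩ := slicePt_bcGen_components (W := W) xU hU (g ≫ b.left) hb rfl
        have e : (slicePt (bc g W) (bcGen g xU hU) (bcPt g b)).left ≫
            bcProd (isPullback_bc g U) (isPullback_bcProd (isPullback_bc g V) (isPullback_bc g W)) =
            genericFibreMap (W := W) xU hU ≫ (lift (fst U W) (lift (toUnit (U ⊗ W) ≫ b) (snd U W))).left := by
          refine hom_ext_triple (h₁.trans ?_) (h₂.trans ?_) (h₃.trans ?_)
          · rw [Category.assoc, ← Over.comp_left, lift_fst, genericFibreMap_fst]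
          · rw [Category.assoc, ← Over.comp_left, lift_snd_assoc, lift_fst, Over.comp_left, toUnit_left,
              ← Over.w (fst U W), Category.assoc, reassoc_of% genericFibreMap_fst (W := W) xU hU, reassoc_of% hU]
          · rw [Category.assoc, ← Over.comp_left, lift_snd_assoc, lift_snd, genericFibreMap_snd]
        rw [e, ← PicM.pull_pull]
        exact (congrArg _ hy).trans (map_one _)
      have exV : ∀ (yV : Spec (CommRingCat.of Ω) ⟶ V.left) (hyV : yV ≫ V.hom = g),
          pb (slicePt (bc g W) (bcPt g a) (bcGen g yV hyV)) (bcClass g N) = 1 := by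
        intro yV hyV
        refine (PicM.pull_pull _ _ _).trans ?_
        obtain ⟨h₁, h₂, h₃⟩ := slicePt_bcGen_components (W := W) (g ≫ a.left) ha yV hyV rfl
        have e : (slicePt (bc g W) (bcPt g a) (bcGen g yV hyV)).left ≫
            bcProd (isPullback_bc g U) (isPullback_bcProd (isPullback_bc g V) (isPullback_bc g W)) =
            genericFibreMap (W := W) yV hyV ≫ (lift (toUnit (V ⊗ W) ≫ a) (𝟙 (V ⊗ W))).left := by
          refine hom_ext_triple (h₁.trans ?_) (h₂.trans ?_) (h₃.trans ?_)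
          · rw [Category.assoc, ← Over.comp_left, lift_fst, Over.comp_left, toUnit_left,
              ← Over.w (fst V W), Category.assoc, reassoc_of% genericFibreMap_fst (W := W) yV hyV, reassoc_of% hyV]
          · rw [Category.assoc, ← Over.comp_left, lift_snd_assoc, Category.id_comp, genericFibreMap_fst]
          · rw [Category.assoc, ← Over.comp_left, lift_snd_assoc, Category.id_comp, genericFibreMap_snd]
        rw [e, ← PicM.pull_pull]
        exact (congrArg _ hx).trans (map_one _)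
      rw [SliceRel, eb, exV xV hV] at rel
      rw [show pb (slicePt (bc g W) (bcPt g a) (bcPt g b)) (bcClass g N) = 1 from exV _ hb, _root_.mul_one,
        _root_.mul_one, eη] at rel
      exact rel
  have h1 := congrArg (pb (α_ U V W).inv) hP
  rw [pb_pb, Iso.inv_hom_id] at h1
  refine Eq.trans ?_ (h1.trans (map_one _))
  exact (PicM.pull_id N).symm

/-- Classes on a product of three smooth varieties with the same three slices are equal. -/
theorem eq_of_slices_smooth [IsAlgClosed k] [Smooth U.hom] [GeometricallyIntegral U.hom] [Smooth V.hom]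
    [GeometricallyIntegral V.hom] [Smooth W.hom] [QuasiCompact W.hom] [GeometricallyIntegral W.hom]
    (a : 𝟙_ (Over (Spec (CommRingCat.of k))) ⟶ U) (b : 𝟙_ (Over (Spec (CommRingCat.of k))) ⟶ V)
    (c : 𝟙_ (Over (Spec (CommRingCat.of k))) ⟶ W) {N M : PicM (U ⊗ (V ⊗ W)).left}
    (hx : pb (lift (toUnit (V ⊗ W) ≫ a) (𝟙 (V ⊗ W))) N = pb (lift (toUnit (V ⊗ W) ≫ a) (𝟙 (V ⊗ W))) M)
    (hy : pb (lift (fst U W) (lift (toUnit (U ⊗ W) ≫ b) (snd U W))) N =
      pb (lift (fst U W) (lift (toUnit (U ⊗ W) ≫ b) (snd U W))) M)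
    (hz : pb (lift (fst U V) (lift (snd U V) (toUnit (U ⊗ V) ≫ c))) N =
      pb (lift (fst U V) (lift (snd U V) (toUnit (U ⊗ V) ≫ c))) M) : N = M := by
  obtain ⟨M', hM'⟩ := PicM.exists_mul_eq_one M
  refine PicM.eq_of_mul_inv hM' (eq_one_of_slices_smooth a b c _ ?_ ?_ ?_)
  all_goals simp only [pb, map_mul] at hx hy hz ⊢
  · rw [hx, ← map_mul, hM', map_one]
  · rw [hy, ← map_mul, hM', map_one]
  · rw [hz, ← map_mul, hM', map_one]

/-- A class on a product of three smooth varieties is determined by its restrictions to the three faces. -/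
theorem cube_decomposition [IsAlgClosed k] [Smooth U.hom] [GeometricallyIntegral U.hom] [Smooth V.hom]
    [GeometricallyIntegral V.hom] [Smooth W.hom] [QuasiCompact W.hom] [GeometricallyIntegral W.hom]
    (a : 𝟙_ (Over (Spec (CommRingCat.of k))) ⟶ U) (b : 𝟙_ (Over (Spec (CommRingCat.of k))) ⟶ V)
    (c : 𝟙_ (Over (Spec (CommRingCat.of k))) ⟶ W) (N : PicM (U ⊗ (V ⊗ W)).left)
    {P : Over (Spec (CommRingCat.of k))} (x : P ⟶ U) (y : P ⟶ V) (z : P ⟶ W) :
    pb (lift x (lift y z)) N * (pb (lift x (lift (toUnit P ≫ b) (toUnit P ≫ c))) N *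
        pb (lift (toUnit P ≫ a) (lift y (toUnit P ≫ c))) N * pb (lift (toUnit P ≫ a) (lift (toUnit P ≫ b) z)) N) =
      pb (lift x (lift y (toUnit P ≫ c))) N * pb (lift x (lift (toUnit P ≫ b) z)) N *
        pb (lift (toUnit P ≫ a) (lift y z)) N := by
  let p : U ⊗ (V ⊗ W) ⟶ U := fst _ _
  let q : U ⊗ (V ⊗ W) ⟶ V := snd _ _ ≫ fst _ _
  let r : U ⊗ (V ⊗ W) ⟶ W := snd _ _ ≫ snd _ _
  let ca : U ⊗ (V ⊗ W) ⟶ U := toUnit (U ⊗ (V ⊗ W)) ≫ a
  let cb : U ⊗ (V ⊗ W) ⟶ V := toUnit (U ⊗ (V ⊗ W)) ≫ b
  let cc : U ⊗ (V ⊗ W) ⟶ W := toUnit (U ⊗ (V ⊗ W)) ≫ c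
  have hconst : ∀ Q : Over (Spec (CommRingCat.of k)),
      pb (lift (toUnit Q ≫ a) (lift (toUnit Q ≫ b) (toUnit Q ≫ c))) N = 1 := fun Q => by
    rw [← comp_lift, ← comp_lift]
    exact pb_const _ _
  have key : N * (pb (lift p (lift cb cc)) N * pb (lift ca (lift q cc)) N * pb (lift ca (lift cb r)) N) =
      pb (lift p (lift q cc)) N * pb (lift p (lift cb r)) N * pb (lift ca (lift q r)) N := by
    refine eq_of_slices_smooth a b c ?_ ?_ ?_ <;>
      simp only [map_mul, pb_pb] <;>
      simp only [p, q, r, ca, cb, cc, comp_lift, lift_fst, lift_snd, lift_fst_assoc, lift_snd_assoc,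
        Category.assoc, Category.id_comp, Category.comp_id, comp_toUnit, comp_toUnit_assoc, lift_fst_snd] <;>
      simp only [hconst, _root_.one_mul, _root_.mul_one] <;>
      simp only [_root_.mul_comm, _root_.mul_left_comm]
  have h := congrArg (pb (lift x (lift y z))) key
  simp only [map_mul, pb_pb] at h
  simpa only [p, q, r, ca, cb, cc, comp_lift, lift_fst, lift_snd, lift_fst_assoc, lift_snd_assoc, Category.assoc,
    Category.comp_id, comp_toUnit, comp_toUnit_assoc] using h

/-- The eight corners of a product of three pairs. -/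
theorem corners_eq {M : Type*} [CommMonoid M] {A B C : Type*} (f : A → B → C → M) (s : A → M) (t : B → M) (v : C → M)
    (hs : ∀ x, IsUnit (s x)) (ht : ∀ y, IsUnit (t y)) (hv : ∀ z, IsUnit (v z))
    (P : A → B → M) (Q : A → C → M) (R : B → C → M)
    (h : ∀ x y z, f x y z * (s x * t y * v z) = P x y * Q x z * R y z) (x₁ x₂ : A) (y₁ y₂ : B) (z₁ z₂ : C) :
    f x₁ y₁ z₁ * f x₁ y₂ z₂ * (f x₂ y₁ z₂ * f x₂ y₂ z₁) = f x₁ y₁ z₂ * f x₁ y₂ z₁ * (f x₂ y₁ z₁ * f x₂ y₂ z₂) := by
  refine ((((hs x₁).mul (ht y₁)).mul (hv z₁)).mul (((hs x₁).mul (ht y₂)).mul (hv z₂)) |>.mul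
    ((((hs x₂).mul (ht y₁)).mul (hv z₂)).mul (((hs x₂).mul (ht y₂)).mul (hv z₁)))).mul_right_cancel ?_
  calc _ = (f x₁ y₁ z₁ * (s x₁ * t y₁ * v z₁)) * (f x₁ y₂ z₂ * (s x₁ * t y₂ * v z₂)) *
        ((f x₂ y₁ z₂ * (s x₂ * t y₁ * v z₂)) * (f x₂ y₂ z₁ * (s x₂ * t y₂ * v z₁))) := by
        simp only [mul_mul_mul_comm]
    _ = (f x₁ y₁ z₂ * (s x₁ * t y₁ * v z₂)) * (f x₁ y₂ z₁ * (s x₁ * t y₂ * v z₁)) *
        ((f x₂ y₁ z₁ * (s x₂ * t y₁ * v z₁)) * (f x₂ y₂ z₂ * (s x₂ * t y₂ * v z₂))) := by
        simp only [h]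
        simp only [_root_.mul_comm, _root_.mul_left_comm]
    _ = _ := by simp only [_root_.mul_comm, _root_.mul_left_comm]

end Groth.Agent.CubeLib
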