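import Groth.Agent.CubeLib.FieldChange
import Groth.Agent.AbSchLib.GlobalSections

/-! # Invertible classes trivial after a ground field extension are trivial -/

set_option autoImplicit false
universe u
open CategoryTheory CategoryTheory.Limits AlgebraicGeometry

namespace Groth.Agent.CubeLib

/-- A class trivial after extending the ground field is trivial. -/
theorem eq_one_of_bc {k K : Type u} [Field k] [Field K] {g : Spec (CommRingCat.of K) ⟶ Spec (CommRingCat.of k)}
    {W : Over (Spec (CommRingCat.of k))} [IsProper W.hom] [GeometricallyIntegral W.hom] {P : Scheme.{u}}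
    {p : P ⟶ W.left} {q : P ⟶ Spec (CommRingCat.of K)} (H : IsPullback p q W.hom g) (b : Groth.Agent.PicLib.PicM W.left)
    (h : Groth.Agent.PicLib.PicM.pull p b = 1) : b = 1 := by
  obtain ⟨L, hL, rfl⟩ := Groth.Agent.PicLib.PicM.exists_eq_of b
  have : Flat g := flat_of_field g
  have : GeometricallyConnected W.hom := geometricallyConnected_hom W
  have hbij : ∀ U : (Spec (CommRingCat.of k)).Opens, Function.Bijective (W.hom.app U) := by
    intro U
    by_cases hU : U = ⊤
    · subst hU; exact Groth.Agent.AbSchLib.bijective_appTop_of_field k W.hom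
    · have hU' : U = ⊥ := by
        refine TopologicalSpace.Opens.ext (Set.eq_empty_iff_forall_notMem.2 fun x hx => hU ?_)
        exact TopologicalSpace.Opens.ext (Set.eq_univ_of_forall fun y => Subsingleton.elim (α := PrimeSpectrum k) x y ▸ hx)
      subst hU'
      haveI : Subsingleton Γ(Spec (CommRingCat.of k), ⊥) := inferInstance
      haveI : Subsingleton Γ(W.left, W.hom ⁻¹ᵁ ⊥) := by rw [Scheme.Hom.preimage_bot]; infer_instance
      exact ⟨fun _ _ _ => Subsingleton.elim _ _, fun z => ⟨0, Subsingleton.elim _ _⟩⟩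
  obtain ⟨hN, hiso⟩ := Groth.Agent.PicLib.exists_descend_of_flat_cover W.hom hbij hL
    (fun _ : PUnit.{1} => Spec (CommRingCat.of K)) (fun _ => g)
    (fun y => ⟨PUnit.unit, IsLocalRing.closedPoint K, Subsingleton.elim (α := PrimeSpectrum k) _ _⟩)
    (fun Z' _ => (Subsingleton.set_cases (α := PrimeSpectrum k) (p := IsOpen) isOpen_empty isOpen_univ Z'))
    (fun _ => 1) (fun _ => by
      rw [map_one]
      refine (congrArg (fun σ => Groth.Agent.PicLib.PicM.pull σ (Groth.Agent.PicLib.PicM.of hL)) H.isoPullback_inv_fst.symm).trans ?_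
      exact (Groth.Agent.PicLib.PicM.pull_pull _ _ _).symm.trans ((congrArg (Groth.Agent.PicLib.PicM.pull _) h).trans (map_one _)))
  have e : Groth.Agent.PicLib.PicM.of hL = Groth.Agent.PicLib.PicM.pull W.hom (Groth.Agent.PicLib.PicM.of hN) := by
    rw [Groth.Agent.PicLib.PicM.pull_of, Groth.Agent.PicLib.PicM.of_eq_iff]
    exact ⟨(asIso ((Scheme.Modules.pullbackPushforwardAdjunction W.hom).counit.app L)).symm⟩
  rw [e, Groth.Agent.PicLib.PicM.eq_one_of_field k (Groth.Agent.PicLib.PicM.of hN), map_one]


end Groth.Agent.CubeLib
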