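import Groth.Agent.CubeLib.Box
import Groth.Agent.PicLib.FlatSections
import Groth.Agent.AbSchLib.GlobalSections
import Mathlib.AlgebraicGeometry.Morphisms.Separated

/-!
# Global functions on products with a scheme having only constant global functions
-/

set_option autoImplicit false
set_option backward.isDefEq.respectTransparency.types false

universe u

open CategoryTheory CategoryTheory.Limits MonoidalCategory CartesianMonoidalCategory AlgebraicGeometry Opposite
  TopologicalSpace

namespace Groth.Agent.CubeLib

theorem flat_of_field {K : Type u} [Field K] {S : Scheme.{u}} (f : S ⟶ Spec (CommRingCat.of K)) : Flat f := by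
  rw [HasRingHomProperty.iff_of_source_openCover (P := @Flat) S.affineCover]
  intro i
  have hK : IsField Γ(Spec (CommRingCat.of K), ⊤) :=
    (Scheme.ΓSpecIso (CommRingCat.of K)).commRingCatIsoToRingEquiv.toMulEquiv.isField (Field.toIsField K)
  let := hK.toField
  let _ := ((S.affineCover.f i ≫ f).appTop).hom.toAlgebra
  show Module.Flat Γ(Spec (CommRingCat.of K), ⊤) _
  infer_instance

/-- Bijectivity of `f^*` is local on the target. -/
theorem bijective_app_of_affine {S R : Scheme.{u}} (f : S ⟶ R)
    (h : ∀ W : R.Opens, IsAffineOpen W → Function.Bijective (f.app W)) (V : R.Opens) :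
    Function.Bijective (f.app V) := by
  let U : {W : R.affineOpens // W.1 ≤ V} → R.Opens := fun W => W.1.1
  have hU : ∀ W, U W ≤ V := fun W => W.2
  have hcov : V ≤ iSup U := fun x hx => by
    obtain ⟨W, hW, hxW, hWV⟩ := exists_isAffineOpen_mem_and_subset (x := x) (U := V) hx
    exact Opens.mem_iSup.2 ⟨⟨⟨W, hW⟩, hWV⟩, hxW⟩
  have hnat : ∀ {V V' : R.Opens} (hle : V' ≤ V) (r : Γ(R, V)), f.app V' (R.presheaf.map (homOfLE hle).op r) =
      S.presheaf.map (homOfLE ((Opens.map f.base).monotone hle)).op (f.app V r) := fun hle r =>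
    congr($(f.naturality (homOfLE hle).op) r)
  have hinj : ∀ V : R.Opens, Function.Injective (f.app V) := fun V => by
    intro a b hab
    refine TopCat.Sheaf.eq_of_locally_eq' R.sheaf (fun W : {W : R.affineOpens // W.1 ≤ V} => W.1.1) V
      (fun W => homOfLE W.2) (fun x hx => by
        obtain ⟨W, hW, hxW, hWV⟩ := exists_isAffineOpen_mem_and_subset (x := x) (U := V) hx
        exact Opens.mem_iSup.2 ⟨⟨⟨W, hW⟩, hWV⟩, hxW⟩) a b fun W => (h _ W.1.2).1 ?_
    exact ((hnat W.2 a).trans (congrArg _ hab)).trans (hnat W.2 b).symm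
  refine ⟨hinj V, fun s => ?_⟩
  choose c hc using fun W => (h _ W.1.2).2 (S.presheaf.map (homOfLE ((Opens.map f.base).monotone (hU W))).op s)
  obtain ⟨g, hg, -⟩ := TopCat.Sheaf.existsUnique_gluing' R.sheaf U V (fun W => homOfLE (hU W)) hcov c (fun W W' => by
    refine hinj _ ?_
    show f.app _ (R.presheaf.map (homOfLE inf_le_left).op _) = f.app _ (R.presheaf.map (homOfLE inf_le_right).op _)
    rw [hnat, hnat, hc, hc, ← ConcreteCategory.comp_apply, ← ConcreteCategory.comp_apply, ← Functor.map_comp,
      ← Functor.map_comp]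
    rfl)
  refine ⟨g, TopCat.Sheaf.eq_of_locally_eq' S.sheaf (fun W => f ⁻¹ᵁ U W) _
    (fun W => homOfLE ((Opens.map f.base).monotone (hU W)))
    (fun x hx => Opens.mem_iSup.2 ((Opens.mem_iSup.1 (hcov hx)).imp fun _ h => h)) _ _ fun W => ?_⟩
  exact (hnat (hU W) g).symm.trans ((congrArg (f.app (U W)) (hg W)).trans (hc W))

variable {k : Type u} [Field k] (X V : Over (Spec (CommRingCat.of k)))

/-- Functions on `X × W` come from `W`, if all functions on `X` are constant. -/
theorem bijective_snd_app [CompactSpace X.left] [QuasiSeparatedSpace X.left]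
    (hX : Function.Bijective X.hom.appTop) (W : V.left.Opens) : Function.Bijective ((snd X V).left.app W) := by
  refine bijective_app_of_affine _ (fun W hW => ?_) W
  have := flat_of_field V.hom
  have H : IsPullback (fst X V).left (snd X V).left X.hom V.hom := IsPullback.of_hasPullback X.hom V.hom
  have hi := isIso_pushoutSection_of_isQuasiSeparated_of_flat_right H (US := ⊤) (UT := W) (UX := ⊤)
    (UY := (snd X V).left ⁻¹ᵁ W) (by simp) (by simp) (by simp) (isAffineOpen_top _) hW isCompact_univ
    isQuasiSeparated_univ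
  have hp := (isIso_pushoutSection_iff ..).1 hi
  have hI : IsIso (X.hom.appLE ⊤ ⊤ (by simp)) := by
    rw [ConcreteCategory.isIso_iff_bijective]
    simpa [Scheme.Hom.appLE, Scheme.Hom.appTop] using hX
  have := hp.isIso_inr_of_isIso hI
  have h2 := ConcreteCategory.bijective_of_isIso ((snd X V).left.appLE W _ le_rfl)
  rwa [Scheme.Hom.appLE_eq_app] at h2

theorem bijective_hom_appTop_prod [CompactSpace X.left] [QuasiSeparatedSpace X.left]
    (hX : Function.Bijective X.hom.appTop) (hV : Function.Bijective V.hom.appTop) :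
    Function.Bijective (X ⊗ V).hom.appTop := by
  rw [show (X ⊗ V).hom = (snd X V).left ≫ V.hom from (Over.w (snd X V)).symm, Scheme.Hom.comp_appTop]
  exact (bijective_snd_app X V hX ⊤).comp hV

theorem bijective_algebraMap_of_appTop {X : Over (Spec (CommRingCat.of k))} (hX : Function.Bijective X.hom.appTop) :
    Function.Bijective (algebraMap k Γ(X.left, ⊤)) := by
  have e : X.hom.appLE ⊤ ⊤ le_top = X.hom.appTop := by simp [Scheme.Hom.appLE, Scheme.Hom.appTop]
  have h : CommRingCat.ofHom (algebraMap k Γ(X.left, ⊤)) = (Scheme.ΓSpecIso (CommRingCat.of k)).inv ≫ X.hom.appTop := by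
    rw [algebraMap_sec, e]
  have hb : Function.Bijective ((Scheme.ΓSpecIso (CommRingCat.of k)).inv ≫ X.hom.appTop) :=
    hX.comp (ConcreteCategory.bijective_of_isIso (Scheme.ΓSpecIso (CommRingCat.of k)).inv)
  rw [← h] at hb
  exact hb

/-- Proper connected reduced schemes over an algebraically closed field have only constant functions. -/
theorem bijective_hom_appTop [IsAlgClosed k] [IsProper X.hom] [GeometricallyConnected X.hom]
    [GeometricallyReduced X.hom] : Function.Bijective X.hom.appTop :=
  AbSchLib.bijective_appTop_of_field k X.hom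

end Groth.Agent.CubeLib
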