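import Groth.Agent.AlgSpLib.SmoothField
import Groth.Agent.NormalizationLib.Finite
import Groth.Agent.CurveLib.Completion

/-!
# Smoothness of normal curves over an algebraically closed field; normal curves from function fields
-/

set_option autoImplicit false
set_option backward.isDefEq.respectTransparency.types false

universe u

open CategoryTheory AlgebraicGeometry IsLocalRing

namespace Groth.Agent.CubeLib

/-- A normal Noetherian local domain of dimension at most one is regular. -/
theorem isRegularLocalRing_of_normal_dim_one (R : Type u) [CommRing R] [IsLocalRing R] [IsDomain R]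
    [IsNoetherianRing R] [IsIntegrallyClosed R] (h : ringKrullDim R ≤ 1) : IsRegularLocalRing R := by
  have : Ring.KrullDimLE 1 R := Ring.krullDimLE_iff.2 h
  have : Ring.DimensionLEOne R :=
    ⟨fun {p} hp0 hp => Ring.krullDimLE_one_iff_of_noZeroDivisors.1 this p hp0 hp⟩
  have : IsDedekindDomain R := {}
  have : IsPrincipalIdealRing R := IsPrincipalIdealRing.of_finite_maximals (by
    rw [show {I : Ideal R | I.IsMaximal} = {maximalIdeal R} from Set.ext fun I =>
      ⟨fun hI => eq_maximalIdeal hI, fun hI => hI ▸ maximalIdeal.isMaximal R⟩]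
    exact Set.finite_singleton _)
  infer_instance

/-- A normal curve over an algebraically closed field is smooth. -/
theorem smooth_of_normal_curve {k : Type u} [Field k] [IsAlgClosed k] {Y : Scheme.{u}}
    (s : Y ⟶ Spec (CommRingCat.of k)) [LocallyOfFiniteType s] (hn : Pi1.IsNormalScheme Y)
    (hd : ∀ x : Y, IsClosed ({x} : Set Y) → ringKrullDim (Y.presheaf.stalk x) = 1) : Smooth s := by
  have : IsLocallyNoetherian Y := LocallyOfFiniteType.isLocallyNoetherian s
  have : JacobsonSpace Y := LocallyOfFiniteType.jacobsonSpace s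
  rw [HasRingHomProperty.iff_of_source_openCover (P := @Smooth) Y.affineCover]
  intro i
  let g := Y.affineCover.f i ≫ s
  let R := Γ(Y.affineCover.X i, ⊤)
  let φ : k →+* R := g.appTop.hom.comp (Scheme.ΓSpecIso (CommRingCat.of k)).inv.hom
  suffices hφ : φ.Smooth by
    refine (RingHom.Smooth.respectsIso.cancel_left_isIso (Scheme.ΓSpecIso (CommRingCat.of k)).inv g.appTop).1 ?_
    exact hφ
  have hft : φ.FiniteType := ((HasRingHomProperty.iff_of_isAffine (P := @LocallyOfFiniteType) (f := g)).1 inferInstance).comp
    (RingHom.FiniteType.of_surjective _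
      (ConcreteCategory.bijective_of_isIso (Scheme.ΓSpecIso (CommRingCat.of k)).inv).2)
  letI := φ.toAlgebra
  have : Algebra.FiniteType k R := hft
  have : IsNoetherianRing R := Algebra.FiniteType.isNoetherianRing k R
  show Algebra.Smooth k R
  have : Algebra.FinitePresentation k R := Algebra.FinitePresentation.of_finiteType.1 ‹_›
  refine ⟨Algebra.smoothLocus_eq_univ_iff.mp (Set.eq_univ_iff_forall.mpr fun x => ?_), ‹_›⟩
  obtain ⟨m, hm, hxm⟩ := Ideal.exists_le_maximal x.asIdeal x.isPrime.ne_top
  suffices hmem : (⟨m, hm.isPrime⟩ : PrimeSpectrum R) ∈ Algebra.smoothLocus k R from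
    ((PrimeSpectrum.le_iff_specializes x ⟨m, hm.isPrime⟩).1 hxm).mem_open Algebra.isOpen_smoothLocus hmem
  show Algebra.IsSmoothAt k m
  rw [AlgSpLib.SmoothField.isSmoothAt_iff_regular]
  let Yi := Y.affineCover.X i
  let hU := isAffineOpen_top Yi
  let z : Yi := hU.fromSpec ⟨m, hm.isPrime⟩
  have hzc : IsClosed ({z} : Set Yi) := by
    have hc : IsClosed ({(⟨m, hm.isPrime⟩ : PrimeSpectrum R)} : Set (PrimeSpectrum R)) :=
      (PrimeSpectrum.isClosed_singleton_iff_isMaximal _).2 hm
    have hr : Topology.IsClosedEmbedding hU.fromSpec := by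
      refine ⟨hU.fromSpec.isOpenEmbedding.isEmbedding, ?_⟩
      rw [hU.range_fromSpec]
      exact isClosed_univ
    have := hr.isClosedMap _ hc
    exact (Set.image_singleton (f := fun q => hU.fromSpec q) (a := (⟨m, hm.isPrime⟩ : PrimeSpectrum R))) ▸ this
  have hyc : IsClosed ({Y.affineCover.f i z} : Set Y) := by
    have hz' : z ∈ closedPoints Yi := hzc
    rw [← (Y.affineCover.f i).isOpenEmbedding.preimage_closedPoints] at hz'
    exact hz'
  let y := Y.affineCover.f i z
  let e := (asIso ((Y.affineCover.f i).stalkMap z)).commRingCatIsoToRingEquiv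
  obtain ⟨_, _⟩ := hn y
  have hpm : (hU.primeIdealOf ⟨z, trivial⟩).asIdeal = m := by
    refine congrArg PrimeSpectrum.asIdeal (hU.fromSpec.isOpenEmbedding.injective ?_ :
      hU.primeIdealOf ⟨z, trivial⟩ = ⟨m, hm.isPrime⟩)
    exact hU.fromSpec_primeIdealOf _
  letI := TopCat.Presheaf.algebra_section_stalk Yi.presheaf (⟨z, trivial⟩ : (⊤ : Yi.Opens))
  have hloc := hU.isLocalization_stalk ⟨z, trivial⟩
  have key : ∀ (p : Ideal Γ(Yi, ⊤)) [p.IsPrime], p = m → IsLocalization.AtPrime (Yi.presheaf.stalk z) p →
      IsLocalization.AtPrime (Yi.presheaf.stalk z) m := by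
    intro p _ e h
    subst e
    exact h
  have : IsLocalization.AtPrime (Yi.presheaf.stalk z) m := key _ hpm hloc
  let e' : Localization.AtPrime m ≃+* Y.presheaf.stalk y :=
    ((IsLocalization.algEquiv m.primeCompl (Localization.AtPrime m) (Yi.presheaf.stalk z)).toRingEquiv).trans e.symm
  have : IsDomain (Localization.AtPrime m) := e'.toMulEquiv.isDomain
  have : IsIntegrallyClosed (Localization.AtPrime m) := IsIntegrallyClosed.of_equiv e'.symm
  exact isRegularLocalRing_of_normal_dim_one _ ((ringKrullDim_eq_of_ringEquiv e').trans (hd y hyc)).le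

end Groth.Agent.CubeLib
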