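import Groth.Prelude.Def_Coh
import Mathlib.AlgebraicGeometry.Morphisms.Flat
import Mathlib.CategoryTheory.Monoidal.Cartesian.Over
import Mathlib.Algebra.Category.Ring.Constructions

/-!
# Sections of a product over boxes of affine opens

For schemes `X`, `Y` over a field `k`, the natural map `Γ(U) ⊗ Γ(W) → Γ(U × W)`, bijective for affine `U`, `W`.
-/

set_option autoImplicit false
set_option backward.isDefEq.respectTransparency.types false

universe u

open CategoryTheory CategoryTheory.Limits MonoidalCategory CartesianMonoidalCategory AlgebraicGeometry Opposite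
  TopologicalSpace TensorProduct

namespace Groth.Agent.CubeLib

variable {k : Type u} [Field k] {X X' Y Y' : Over (Spec (CommRingCat.of k))}

/-- Sections on an open of a `k`-scheme are a `k`-algebra. -/
noncomputable instance secAlgebra (X : Over (Spec (CommRingCat.of k))) (U : X.left.Opens) : Algebra k Γ(X.left, U) :=
  ((Scheme.ΓSpecIso (CommRingCat.of k)).inv ≫ X.hom.appLE ⊤ U le_top).hom.toAlgebra

theorem algebraMap_sec (X : Over (Spec (CommRingCat.of k))) (U : X.left.Opens) :
    CommRingCat.ofHom (algebraMap k Γ(X.left, U)) = (Scheme.ΓSpecIso (CommRingCat.of k)).inv ≫ X.hom.appLE ⊤ U le_top :=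
  rfl

/-- Inverse images of sections along `k`-morphisms. -/
noncomputable def appLEₐ (f : X' ⟶ X) (U : X.left.Opens) (U' : X'.left.Opens) (h : U' ≤ f.left ⁻¹ᵁ U) :
    Γ(X.left, U) →ₐ[k] Γ(X'.left, U') :=
  { (f.left.appLE U U' h).hom with
    commutes' := fun r => by
      have e : (Scheme.ΓSpecIso (CommRingCat.of k)).inv ≫ X.hom.appLE ⊤ U le_top ≫ f.left.appLE U U' h =
          (Scheme.ΓSpecIso (CommRingCat.of k)).inv ≫ X'.hom.appLE ⊤ U' le_top := by
        congr 1
        rw [Scheme.Hom.appLE_comp_appLE]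
        congr 1
        exact Over.w f
      exact congr($e r) }

theorem appLEₐ_apply (f : X' ⟶ X) (U : X.left.Opens) (U' : X'.left.Opens) (h : U' ≤ f.left ⁻¹ᵁ U) (r : Γ(X.left, U)) :
    appLEₐ f U U' h r = f.left.appLE U U' h r := rfl

/-- Restriction of sections. -/
noncomputable def resₐ {U V : X.left.Opens} (h : V ≤ U) : Γ(X.left, U) →ₐ[k] Γ(X.left, V) :=
  appLEₐ (𝟙 X) U V h

theorem resₐ_apply {U V : X.left.Opens} (h : V ≤ U) (r : Γ(X.left, U)) :
    resₐ h r = X.left.presheaf.map (homOfLE h).op r := by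
  simp [resₐ, appLEₐ_apply, Scheme.Hom.appLE]
  rfl

/-- The open `U × W`. -/
noncomputable def box (U : X.left.Opens) (W : Y.left.Opens) : (X ⊗ Y).left.Opens := (fst X Y).left ⁻¹ᵁ U ⊓ (snd X Y).left ⁻¹ᵁ W

theorem box_mono {U U' : X.left.Opens} {W W' : Y.left.Opens} (h : U ≤ U') (h' : W ≤ W') : box U W ≤ box U' W' :=
  inf_le_inf ((Opens.map (fst X Y).left.base).monotone h) ((Opens.map (snd X Y).left.base).monotone h')

theorem box_inf (U U' : X.left.Opens) (W W' : Y.left.Opens) : box (U ⊓ U') (W ⊓ W') = box U W ⊓ box U' W' := by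
  show _ ⊓ _ = _
  rw [Scheme.Hom.preimage_inf, Scheme.Hom.preimage_inf, inf_inf_inf_comm]
  rfl

/-- `a ⊗ b ↦ a · b`. -/
noncomputable def boxMap (U : X.left.Opens) (W : Y.left.Opens) :
    Γ(X.left, U) ⊗[k] Γ(Y.left, W) →ₐ[k] Γ((X ⊗ Y).left, box U W) :=
  Algebra.TensorProduct.productMap (appLEₐ (fst X Y) U (box U W) inf_le_left)
    (appLEₐ (snd X Y) W (box U W) inf_le_right)

theorem appLEₐ_comp {X'' : Over (Spec (CommRingCat.of k))} (g : X'' ⟶ X') (f : X' ⟶ X) (U : X.left.Opens)
    (U' : X'.left.Opens) (U'' : X''.left.Opens) (h : U' ≤ f.left ⁻¹ᵁ U) (h' : U'' ≤ g.left ⁻¹ᵁ U')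
    (h'' : U'' ≤ (g ≫ f).left ⁻¹ᵁ U) (r : Γ(X.left, U)) :
    appLEₐ g U' U'' h' (appLEₐ f U U' h r) = appLEₐ (g ≫ f) U U'' h'' r := by
  rw [appLEₐ_apply, appLEₐ_apply, appLEₐ_apply, ← ConcreteCategory.comp_apply, Scheme.Hom.appLE_comp_appLE]
  rfl

/-- Inverse images of products of functions. -/
theorem boxMap_natural {Z : Over (Spec (CommRingCat.of k))} (F : Z ⟶ X ⊗ Y) (U : X.left.Opens) (W : Y.left.Opens)
    (O : Z.left.Opens) (hO : O ≤ F.left ⁻¹ᵁ box U W) (t : Γ(X.left, U) ⊗[k] Γ(Y.left, W)) :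
    appLEₐ F (box U W) O hO (boxMap U W t) =
      Algebra.TensorProduct.productMap (appLEₐ (F ≫ fst X Y) U O (fun z hz => (hO hz).1))
        (appLEₐ (F ≫ snd X Y) W O (fun z hz => (hO hz).2)) t := by
  induction t using TensorProduct.induction_on with
  | zero => simp
  | add a b ha hb => simp only [map_add, ha, hb]
  | tmul a b =>
    simp only [boxMap, Algebra.TensorProduct.productMap_apply_tmul, map_mul]
    rw [appLEₐ_comp, appLEₐ_comp]

theorem le_preimage_box (f : X' ⟶ X) (g : Y' ⟶ Y) {U : X.left.Opens} {W : Y.left.Opens} {U' : X'.left.Opens}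
    {W' : Y'.left.Opens} (h : U' ≤ f.left ⁻¹ᵁ U) (h' : W' ≤ g.left ⁻¹ᵁ W) :
    box U' W' ≤ (f ⊗ₘ g).left ⁻¹ᵁ box U W := by
  intro z hz
  have e1 := congrArg (fun φ : X' ⊗ Y' ⟶ X => φ.left.base z) (tensorHom_fst f g)
  have e2 := congrArg (fun φ : X' ⊗ Y' ⟶ Y => φ.left.base z) (tensorHom_snd f g)
  constructor
  · show (fst X Y).left.base ((f ⊗ₘ g).left.base z) ∈ U
    exact (show (fst X Y).left.base ((f ⊗ₘ g).left.base z) = f.left.base ((fst X' Y').left.base z) from e1) ▸ h hz.1
  · show (snd X Y).left.base ((f ⊗ₘ g).left.base z) ∈ W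
    exact (show (snd X Y).left.base ((f ⊗ₘ g).left.base z) = g.left.base ((snd X' Y').left.base z) from e2) ▸ h' hz.2

theorem boxMap_map (f : X' ⟶ X) (g : Y' ⟶ Y) {U : X.left.Opens} {W : Y.left.Opens} {U' : X'.left.Opens}
    {W' : Y'.left.Opens} (h : U' ≤ f.left ⁻¹ᵁ U) (h' : W' ≤ g.left ⁻¹ᵁ W) (t : Γ(X.left, U) ⊗[k] Γ(Y.left, W)) :
    appLEₐ (f ⊗ₘ g) (box U W) (box U' W') (le_preimage_box f g h h') (boxMap U W t) =
      boxMap U' W' (Algebra.TensorProduct.map (appLEₐ f U U' h) (appLEₐ g W W' h') t) := by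
  rw [boxMap_natural]
  induction t using TensorProduct.induction_on with
  | zero => simp
  | add a b ha hb => simp only [map_add, ha, hb]
  | tmul a b =>
    simp only [boxMap, Algebra.TensorProduct.productMap_apply_tmul, Algebra.TensorProduct.map_tmul]
    rw [appLEₐ_comp _ _ _ _ _ _ _ (by exact fun z hz => h hz.1), appLEₐ_comp _ _ _ _ _ _ _ (by exact fun z hz => h' hz.2)]
    congr 1
    · congr 2
      exact tensorHom_fst f g
    · congr 2
      exact tensorHom_snd f g

theorem boxMap_res {U U' : X.left.Opens} {W W' : Y.left.Opens} (h : U' ≤ U) (h' : W' ≤ W)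
    (t : Γ(X.left, U) ⊗[k] Γ(Y.left, W)) :
    resₐ (box_mono h h') (boxMap U W t) = boxMap U' W' (Algebra.TensorProduct.map (resₐ h) (resₐ h') t) := by
  rw [resₐ, boxMap_natural]
  induction t using TensorProduct.induction_on with
  | zero => simp
  | add a b ha hb => simp only [map_add, ha, hb]
  | tmul a b =>
    simp only [boxMap, resₐ, Algebra.TensorProduct.productMap_apply_tmul, Algebra.TensorProduct.map_tmul]
    rw [appLEₐ_comp _ _ _ _ _ _ _ (by exact fun z hz => h hz.1), appLEₐ_comp _ _ _ _ _ _ _ (by exact fun z hz => h' hz.2)]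
    simp only [Category.id_comp, Category.comp_id]

theorem isAffineOpen_box [IsSeparated X.hom] [IsSeparated Y.hom] {U : X.left.Opens} {W : Y.left.Opens}
    (hU : IsAffineOpen U) (hW : IsAffineOpen W) : IsAffineOpen (box U W) := by
  have : IsAffine U.toScheme := hU
  have : IsAffine W.toScheme := hW
  have : IsAffine ((⊤ : (Spec (CommRingCat.of k)).Opens) : Scheme.{u}) := isAffineOpen_top _
  exact .of_isIso (Scheme.Hom.isPullback_resLE (IsPullback.of_hasPullback X.hom Y.hom) (US := ⊤) (UT := W) (UX := U)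
    (UY := box U W) (by simp) (by simp) rfl).isoPullback.hom

/-- For affine opens, `Γ(U × W) = Γ(U) ⊗ Γ(W)`. -/
theorem bijective_boxMap {U : X.left.Opens} {W : Y.left.Opens} (hU : IsAffineOpen U) (hW : IsAffineOpen W) :
    Function.Bijective (boxMap U W) := by
  have H := IsPullback.of_hasPullback X.hom Y.hom
  have hi := isIso_pushoutSection_of_isAffineOpen H (US := ⊤) (UT := W) (UX := U) (UY := box U W)
    (by simp) (by simp) rfl (isAffineOpen_top _) hW hU
  have hp := (isIso_pushoutSection_iff ..).1 hi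
  have hp' : IsPushout (CommRingCat.ofHom (algebraMap k Γ(X.left, U))) (CommRingCat.ofHom (algebraMap k Γ(Y.left, W)))
      ((fst X Y).left.appLE U (box U W) inf_le_left) ((snd X Y).left.appLE W (box U W) inf_le_right) := by
    refine hp.of_iso (Scheme.ΓSpecIso (CommRingCat.of k)) (Iso.refl _) (Iso.refl _) (Iso.refl _) ?_ ?_ ?_ ?_
    · rw [algebraMap_sec, Iso.hom_inv_id_assoc, Iso.refl_hom, Category.comp_id]
    · rw [algebraMap_sec, Iso.hom_inv_id_assoc, Iso.refl_hom, Category.comp_id]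
    · simp only [Iso.refl_hom, Category.comp_id, Category.id_comp]; rfl
    · simp only [Iso.refl_hom, Category.comp_id, Category.id_comp]; rfl
  have tp := CommRingCat.isPushout_tensorProduct k Γ(X.left, U) Γ(Y.left, W)
  let e := tp.isoIsPushout _ _ hp'
  have he : e.hom = CommRingCat.ofHom (boxMap U W).toRingHom := by
    refine tp.hom_ext ?_ ?_
    · rw [IsPushout.inl_isoIsPushout_hom]
      ext a
      simp [boxMap]
      rfl
    · rw [IsPushout.inr_isoIsPushout_hom]
      ext b
      simp [boxMap]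
      rfl
  have hb := ConcreteCategory.bijective_of_isIso e.hom
  rw [he] at hb
  exact hb

end Groth.Agent.CubeLib
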