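import Groth.Agent.Et18.RosenlichtAlg

/-!
# Multipliers commuting with coefficient operators are constants

`k` algebraically closed, `A` a domain over `k`, `F` a field over `k`: if `g * f = (1 ⊗ P) f` in `A ⊗ F` with
`f ≠ 0` and `P` linear, then `g` is a constant. This gives descent of triviality of invertible modules along
extensions of the ground field.
-/

set_option autoImplicit false

universe u

open TensorProduct

namespace Groth.Agent.CubeLib

open Groth.Agent.Et18.Rosenlicht

variable {k : Type u} [Field k] {F : Type u} [Field F] [Algebra k F] (P : F →ₗ[k] F)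

/-- The operator on coefficients. -/
noncomputable abbrev coefOp (A : Type u) [CommRing A] [Algebra k A] : A ⊗[k] F →ₗ[k] A ⊗[k] F :=
  LinearMap.lTensor A P

theorem coefOp_map {A A' : Type u} [CommRing A] [Algebra k A] [CommRing A'] [Algebra k A'] (ι : A →ₐ[k] A')
    (z : A ⊗[k] F) :
    coefOp P A' (Algebra.TensorProduct.map ι (AlgHom.id k F) z) =
      Algebra.TensorProduct.map ι (AlgHom.id k F) (coefOp P A z) := by
  induction z with
  | zero => simp
  | add a b ha hb => simp only [map_add, ha, hb]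
  | tmul a b => simp [coefOp]

theorem coefOp_tmul_one_mul {A : Type u} [CommRing A] [Algebra k A] (c : A) (z : A ⊗[k] F) :
    coefOp P A ((c ⊗ₜ (1 : F)) * z) = (c ⊗ₜ (1 : F)) * coefOp P A z := by
  induction z with
  | zero => simp
  | add a b ha hb => simp only [mul_add, map_add, ha, hb]
  | tmul a b => simp [coefOp]

variable [IsAlgClosed k] {L : Type u} [Field L] [Algebra k L]

theorem isIntegrallyClosedIn_range : IsIntegrallyClosedIn (algebraMap k L).range L := by
  rw [Subring.isIntegrallyClosedIn_iff]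
  intro x hx
  have hx' : IsIntegral k x := by
    obtain ⟨p, hp, hpx⟩ := hx
    obtain ⟨q, hq, -, hqm⟩ := Polynomial.lifts_and_degree_eq_and_monic
      ((Polynomial.mem_lifts p).2 (Polynomial.map_surjective _ (algebraMap k L).rangeRestrict_surjective p)) hp
    refine ⟨q, hqm, ?_⟩
    rw [← hq, Polynomial.eval₂_map] at hpx
    exact hpx
  obtain ⟨c, hc⟩ := (IsAlgClosed.algebraMap_bijective_of_isIntegral (k := k)
    (K := ↥(integralClosure k L))).2 ⟨x, hx'⟩
  exact ⟨c, congrArg Subtype.val hc⟩

/-- The multiplier is integral at every valuation ring over `k`. -/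
theorem mem_range_of_valuation (V : ValuationSubring L) [Algebra k ↥V] [IsScalarTower k ↥V L]
    {f g : L ⊗[k] F} (hf : f ≠ 0) (h : g * f = coefOp P L f) :
    g ∈ (Algebra.TensorProduct.map (IsScalarTower.toAlgHom k ↥V L) (AlgHom.id k F)).range := by
  classical
  by_cases hg : g = 0
  · exact hg ▸ zero_mem _
  have : IsDomain (IsLocalRing.ResidueField ↥V ⊗[k] F) :=
    VarietyLib.isDomain_tensor_of_isAlgClosed k _ F
  set ι := Algebra.TensorProduct.map (IsScalarTower.toAlgHom k ↥V L) (AlgHom.id k F) with hι'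
  set ρ := Algebra.TensorProduct.map (IsScalarTower.toAlgHom k ↥V (IsLocalRing.ResidueField ↥V)) (AlgHom.id k F)
  have hι : Function.Injective ι :=
    Module.Flat.rTensor_preserves_injective_linearMap (M := F)
      (IsScalarTower.toAlgHom k ↥V L).toLinearMap Subtype.val_injective
  obtain ⟨c, f₀, hfc, hf0⟩ := exists_content V hf
  obtain ⟨d, g₀, hgd, hg0⟩ := exists_content V hg
  change f = (c ⊗ₜ (1 : F)) * ι f₀ at hfc
  change g = (d ⊗ₜ (1 : F)) * ι g₀ at hgd
  have hc : c ≠ 0 := fun hc => hf (by rw [hfc, hc, TensorProduct.zero_tmul, zero_mul])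
  have h1 : (d ⊗ₜ (1 : F)) * ι (g₀ * f₀) = ι (coefOp P ↥V f₀) := by
    rw [hfc, coefOp_tmul_one_mul, hι', coefOp_map, ← hι', hgd, mul_left_comm,
      mul_assoc ((d : L) ⊗ₜ[k] (1 : F)), ← map_mul] at h
    have hu : IsUnit ((c ⊗ₜ (1 : F)) : L ⊗[k] F) :=
      IsUnit.of_mul_eq_one ((c⁻¹) ⊗ₜ (1 : F))
        (by rw [Algebra.TensorProduct.tmul_mul_tmul, mul_inv_cancel₀ hc, one_mul, ← Algebra.TensorProduct.one_def])
    exact hu.mul_left_cancel h
  rcases V.mem_or_inv_mem d with hd | hd
  · exact ⟨((⟨d, hd⟩ : ↥V) ⊗ₜ (1 : F)) * g₀, by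
      rw [AlgHom.toRingHom_eq_coe, RingHom.coe_coe, map_mul, hgd]
      exact congrArg (· * ι g₀) (Algebra.TensorProduct.map_tmul _ _ _ _)⟩
  · by_cases hdV : d ∈ V
    · exact ⟨((⟨d, hdV⟩ : ↥V) ⊗ₜ (1 : F)) * g₀, by
        rw [AlgHom.toRingHom_eq_coe, RingHom.coe_coe, map_mul, hgd]
        exact congrArg (· * ι g₀) (Algebra.TensorProduct.map_tmul _ _ _ _)⟩
    exfalso
    let e : ↥V := ⟨d⁻¹, hd⟩
    have he : ¬ IsUnit e := fun hu => by
      obtain ⟨w, hw⟩ := hu.exists_left_inv
      have hw' : (w : L) * d⁻¹ = 1 := congrArg (Subtype.val : ↥V → L) hw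
      have : (w : L) = d := by
        have hd0 : d ≠ 0 := fun h0 => by simp [h0] at hw'
        rwa [mul_inv_eq_one₀ hd0] at hw'
      exact hdV (this ▸ w.2)
    have hd0 : d ≠ 0 := fun h0 => hdV (h0 ▸ V.zero_mem)
    have h2 : g₀ * f₀ = (e ⊗ₜ (1 : F)) * coefOp P ↥V f₀ := hι (by
      rw [map_mul ι (e ⊗ₜ (1 : F)), ← h1, ← mul_assoc]
      show _ = (Algebra.TensorProduct.map _ _ (e ⊗ₜ (1 : F)) * _) * _
      rw [Algebra.TensorProduct.map_tmul, map_one, Algebra.TensorProduct.tmul_mul_tmul, one_mul,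
        show (IsScalarTower.toAlgHom k ↥V L) e = d⁻¹ from rfl, inv_mul_cancel₀ hd0,
        ← Algebra.TensorProduct.one_def, one_mul])
    refine mul_ne_zero hg0 hf0 ?_
    rw [← map_mul, h2, map_mul, Algebra.TensorProduct.map_tmul]
    rw [show (IsScalarTower.toAlgHom k ↥V (IsLocalRing.ResidueField ↥V)) e = 0 from
      Ideal.Quotient.eq_zero_iff_mem.2 he, TensorProduct.zero_tmul, zero_mul]

/-- A multiplier is a constant. -/
theorem exists_eq_one_tmul_field {f g : L ⊗[k] F} (hf : f ≠ 0) (h : g * f = coefOp P L f) :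
    ∃ c : F, g = 1 ⊗ₜ c := by
  classical
  let b := Module.Free.chooseBasis k F
  let C := TensorProduct.equivFinsuppOfBasisRight (M := L) b
  have hcoef : ∀ i, C g i ∈ (algebraMap k L).range := by
    intro i
    by_contra hi
    haveI := isIntegrallyClosedIn_range (k := k) (L := L)
    obtain ⟨V, hV, hiV⟩ := Subring.exists_le_valuationSubring_of_isIntegrallyClosedIn hi
    letI : Algebra k ↥V := ((algebraMap k L).codRestrict V.toSubring fun c => hV ⟨c, rfl⟩).toAlgebra
    haveI : IsScalarTower k ↥V L := IsScalarTower.of_algebraMap_eq fun _ => rfl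
    obtain ⟨g₀, rfl⟩ := mem_range_of_valuation P V hf h
    refine hiV ?_
    have key : ∀ z : ↥V ⊗[k] F, ∀ j, C (Algebra.TensorProduct.map (IsScalarTower.toAlgHom k ↥V L)
        (AlgHom.id k F) z) j ∈ V := by
      intro z j
      induction z with
      | zero => simp
      | add x y hx hy =>
        rw [map_add, map_add, Finsupp.add_apply]
        exact V.add_mem _ _ hx hy
      | tmul a w =>
        rw [Algebra.TensorProduct.map_tmul, TensorProduct.equivFinsuppOfBasisRight_apply_tmul_apply,
          AlgHom.coe_id, id_eq, Algebra.smul_def]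
        exact V.mul_mem _ _ (hV ⟨_, rfl⟩) a.2
    exact key g₀ i
  choose r hr using hcoef
  refine ⟨(C g).support.sum fun i => r i • b i, ?_⟩
  conv_lhs => rw [← C.symm_apply_apply g, TensorProduct.equivFinsuppOfBasisRight_symm_apply, Finsupp.sum]
  rw [TensorProduct.tmul_sum]
  refine Finset.sum_congr rfl fun i _ => ?_
  rw [← hr i, TensorProduct.tmul_smul, TensorProduct.smul_tmul', Algebra.smul_def, mul_one]

/-- A multiplier is a constant, for domains. -/
theorem exists_eq_one_tmul {A : Type u} [CommRing A] [IsDomain A] [Algebra k A] {f g : A ⊗[k] F} (hf : f ≠ 0)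
    (h : g * f = coefOp P A f) : ∃ c : F, g = 1 ⊗ₜ c := by
  let ι := Algebra.TensorProduct.map (IsScalarTower.toAlgHom k A (FractionRing A)) (AlgHom.id k F)
  have hι : Function.Injective ι :=
    Module.Flat.rTensor_preserves_injective_linearMap (M := F)
      (IsScalarTower.toAlgHom k A (FractionRing A)).toLinearMap (IsFractionRing.injective A (FractionRing A))
  obtain ⟨c, hc⟩ := exists_eq_one_tmul_field P (f := ι f) (g := ι g)
    (fun h0 => hf (hι (h0.trans (map_zero _).symm))) (by rw [← map_mul, h, coefOp_map])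
  exact ⟨c, hι (hc.trans (by rw [Algebra.TensorProduct.map_tmul, map_one]; rfl))⟩

end Groth.Agent.CubeLib
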