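import Groth.Agent.CubeLib.OpenLocus
import Groth.Agent.PicLib.GenericTriv
import Mathlib.AlgebraicGeometry.Geometrically.Integral
import Mathlib.AlgebraicGeometry.Morphisms.UniversallyOpen
import Mathlib.RingTheory.DiscreteValuationRing.Basic
import Mathlib.RingTheory.Flat.Basic

/-!
# Specialisation of triviality over a discrete valuation ring
-/

set_option autoImplicit false
set_option backward.isDefEq.respectTransparency.types false

universe u

open CategoryTheory CategoryTheory.Limits MonoidalCategory CartesianMonoidalCategory AlgebraicGeometry Opposite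
  TopologicalSpace
open Groth.Agent.PicLib Groth.Agent.AmpleLib Groth.Agent.Coherent

namespace Groth.Agent.CubeLib

variable {k : Type u} [Field k] (R : Type u) [CommRing R] [IsDomain R] [IsDiscreteValuationRing R]
  (ψ : Spec (CommRingCat.of R) ⟶ Spec (CommRingCat.of k))

/-- The closed point. -/
noncomputable def closedPt : Over (Spec (CommRingCat.of k)) :=
  Over.mk (Spec.map (CommRingCat.ofHom (IsLocalRing.residue R)) ≫ ψ)

/-- The inclusion of the closed point. -/
noncomputable def closedPtIncl : closedPt R ψ ⟶ Over.mk ψ :=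
  Over.homMk (Spec.map (CommRingCat.ofHom (IsLocalRing.residue R))) rfl

variable {X Y : Over (Spec (CommRingCat.of k))} [IsProper X.hom] [IsProper Y.hom]
  [GeometricallyIntegral X.hom] [GeometricallyIntegral Y.hom]

theorem isIntegral_closed : IsIntegral (X ⊗ (Y ⊗ closedPt R ψ)).left := by
  have : LocallyOfFinitePresentation X.hom := inferInstance
  have : LocallyOfFinitePresentation Y.hom := inferInstance
  have := flat_of_field X.hom
  have := flat_of_field Y.hom
  have : IsLocallyNoetherian (closedPt R ψ).left :=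
    inferInstanceAs (IsLocallyNoetherian (Spec (CommRingCat.of (IsLocalRing.ResidueField R))))
  have : IsIntegral (closedPt R ψ).left :=
    inferInstanceAs (IsIntegral (Spec (CommRingCat.of (IsLocalRing.ResidueField R))))
  have : IsIntegral (Y ⊗ closedPt R ψ).left := inferInstanceAs (IsIntegral (pullback Y.hom (closedPt R ψ).hom))
  have : LocallyOfFiniteType (snd Y (closedPt R ψ)).left :=
    MorphismProperty.of_isPullback (IsPullback.of_hasPullback Y.hom (closedPt R ψ).hom)
      (inferInstanceAs (LocallyOfFiniteType Y.hom))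
  have : IsLocallyNoetherian (Y ⊗ closedPt R ψ).left :=
    LocallyOfFiniteType.isLocallyNoetherian (snd Y (closedPt R ψ)).left
  exact inferInstanceAs (IsIntegral (pullback X.hom (Y ⊗ closedPt R ψ).hom))

/-- Triviality specialises. -/
theorem eq_one_of_generic {L : (X ⊗ (Y ⊗ Over.mk ψ)).left.Modules} (hL : PicF.IsInvertible L)
    (W : (Spec (CommRingCat.of R)).Opens) (hW : ∀ p : PrimeSpectrum R, p ≠ IsLocalRing.closedPoint R → p ∈ W)
    {t : Γ(L, (toBase (X := X) (Y := Y) R ψ).left ⁻¹ᵁ W)} (ht : IsGen L _ t) : PicM.of hL = 1 := by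
  obtain ⟨p, hp⟩ := IsDiscreteValuationRing.exists_irreducible R
  have hm : IsLocalRing.maximalIdeal R = Ideal.span {p} := hp.maximalIdeal_eq
  let π := (toBase (X := X) (Y := Y) R ψ).left
  let P := (X ⊗ (Y ⊗ Over.mk ψ)).left
  let ϖ : Γ(P, ⊤) := π.appTop ((Scheme.ΓSpecIso (CommRingCat.of R)).inv p)
  have hD : P.basicOpen ϖ ≤ π ⁻¹ᵁ W := by
    intro z hz
    have hz' : π z ∈ (Spec (CommRingCat.of R)).basicOpen ((Scheme.ΓSpecIso (CommRingCat.of R)).inv p) :=
      (Scheme.preimage_basicOpen π ((Scheme.ΓSpecIso (CommRingCat.of R)).inv p)).ge hz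
    rw [basicOpen_eq_of_affine] at hz'
    refine hW _ fun h => hz' ?_
    show p ∈ (π z).asIdeal
    rw [h]
    exact hp.not_isUnit
  have hD' : ∀ z : P, z ∉ P.basicOpen ϖ → π z = IsLocalRing.closedPoint R := by
    intro z hz
    have hz' : π z ∉ (Spec (CommRingCat.of R)).basicOpen ((Scheme.ΓSpecIso (CommRingCat.of R)).inv p) := fun h =>
      hz ((Scheme.preimage_basicOpen π ((Scheme.ΓSpecIso (CommRingCat.of R)).inv p)).le h)
    rw [basicOpen_eq_of_affine] at hz'
    have hmem : p ∈ (π z).asIdeal := not_not.1 hz'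
    refine PrimeSpectrum.ext (le_antisymm (IsLocalRing.le_maximalIdeal (π z).isPrime.ne_top) ?_)
    show IsLocalRing.maximalIdeal R ≤ _
    rw [hm, Ideal.span_singleton_le_iff_mem]
    exact hmem
  -- flatness and the closed fibre
  have := flat_of_field X.hom
  have := flat_of_field Y.hom
  have hflat : Flat π := by
    have h1 : Flat (snd Y (Over.mk ψ)).left :=
      MorphismProperty.of_isPullback (IsPullback.of_hasPullback Y.hom ψ) (inferInstanceAs (Flat Y.hom))
    have h2 : Flat (snd X (Y ⊗ Over.mk ψ)).left :=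
      MorphismProperty.of_isPullback (IsPullback.of_hasPullback X.hom (Y ⊗ Over.mk ψ).hom) (inferInstanceAs (Flat X.hom))
    exact inferInstanceAs (Flat ((snd X (Y ⊗ Over.mk ψ)).left ≫ (snd Y (Over.mk ψ)).left))
  have : IsClosedImmersion (closedPtIncl R ψ).left :=
    IsClosedImmersion.spec_of_surjective _ IsLocalRing.residue_surjective
  let σ := (X ◁ (Y ◁ closedPtIncl R ψ)).left
  have H : IsPullback σ ((snd X (Y ⊗ closedPt R ψ)).left ≫ (snd Y (closedPt R ψ)).left) π (closedPtIncl R ψ).left :=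
    (isPullback_whiskerLeft X (Y ◁ closedPtIncl R ψ)).paste_vert (isPullback_whiskerLeft Y (closedPtIncl R ψ))
  have : IsClosedImmersion σ := MorphismProperty.of_isPullback H.flip inferInstance
  have := isIntegral_closed R ψ (X := X) (Y := Y)
  have : IsAffine (Over.mk ψ).left := inferInstanceAs (IsAffine (Spec (CommRingCat.of R)))
  have hres : ∀ U : P.Opens, resW ϖ U = π.appLE ⊤ U le_top ((Scheme.ΓSpecIso (CommRingCat.of R)).inv p) :=
    fun U => rfl
  have hker : ∀ U : P.Opens, IsAffineOpen U → ∀ c, σ.app U c = 0 ↔ resW ϖ U ∣ c := by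
    intro U hU c
    have hk : (closedPtIncl R ψ).left.ker.ideal ⟨⊤, isAffineOpen_top _⟩ =
        Ideal.span {(Scheme.ΓSpecIso (CommRingCat.of R)).inv p} := by
      rw [Scheme.Hom.ker_apply]
      ext z
      obtain ⟨r, rfl⟩ := (ConcreteCategory.bijective_of_isIso (Scheme.ΓSpecIso (CommRingCat.of R)).inv).2 z
      have e : (closedPtIncl R ψ).left.appTop ((Scheme.ΓSpecIso (CommRingCat.of R)).inv r) =
          (Scheme.ΓSpecIso (CommRingCat.of (IsLocalRing.ResidueField R))).inv (IsLocalRing.residue R r) :=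
        (congr($(Scheme.ΓSpecIso_inv_naturality (CommRingCat.ofHom (IsLocalRing.residue R))) r)).symm
      rw [RingHom.mem_ker]
      show (closedPtIncl R ψ).left.appTop _ = 0 ↔ _
      rw [e]
      show ((Scheme.ΓSpecIso (CommRingCat.of (IsLocalRing.ResidueField R))).inv (IsLocalRing.residue R r) :
        Γ(Spec (CommRingCat.of (IsLocalRing.ResidueField R)), ⊤)) = 0 ↔ _
      rw [map_eq_zero_iff _ (ConcreteCategory.bijective_of_isIso
        (Scheme.ΓSpecIso (CommRingCat.of (IsLocalRing.ResidueField R))).inv).1, IsLocalRing.residue_eq_zero_iff, hm,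
        Ideal.mem_span_singleton, Ideal.mem_span_singleton]
      refine ⟨fun h => map_dvd _ h, fun h => ?_⟩
      have h' := map_dvd (Scheme.ΓSpecIso (CommRingCat.of R)).hom.hom h
      simpa using h'
    have h1 : c ∈ σ.ker.ideal ⟨U, hU⟩ ↔ σ.app U c = 0 := by
      rw [Scheme.Hom.ker_apply, RingHom.mem_ker]
    rw [← h1, FSchLib.ker_of_isPullback H, FSchLib.ideal_comap_eq_map π _ ⟨U, hU⟩ ⟨⊤, isAffineOpen_top _⟩ le_top, hk,
      Ideal.map_span, Set.image_singleton, Ideal.mem_span_singleton, hres]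
  refine eq_one_of_gen_basicOpen (ϖ := ϖ) ?_ ?_ ?_ hL (ht.restrict hD)
  · intro U hU a ha
    let _ : Algebra Γ(Spec (CommRingCat.of R), ⊤) Γ(P, U) := (π.appLE ⊤ U le_top).hom.toAlgebra
    have hf : Module.Flat Γ(Spec (CommRingCat.of R), ⊤) Γ(P, U) := π.flat_appLE (isAffineOpen_top _) hU le_top
    have hp0 : (Scheme.ΓSpecIso (CommRingCat.of R)).inv p ≠ 0 := fun h => hp.ne_zero
      ((ConcreteCategory.bijective_of_isIso (Scheme.ΓSpecIso (CommRingCat.of R)).inv).1 (h.trans (map_zero _).symm))
    have hreg : IsSMulRegular Γ(Spec (CommRingCat.of R), ⊤) ((Scheme.ΓSpecIso (CommRingCat.of R)).inv p) := by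
      intro x y hxy
      obtain ⟨x, rfl⟩ := (ConcreteCategory.bijective_of_isIso (Scheme.ΓSpecIso (CommRingCat.of R)).inv).2 x
      obtain ⟨y, rfl⟩ := (ConcreteCategory.bijective_of_isIso (Scheme.ΓSpecIso (CommRingCat.of R)).inv).2 y
      simp only [smul_eq_mul, ← map_mul] at hxy
      rw [mul_left_cancel₀ hp.ne_zero ((ConcreteCategory.bijective_of_isIso (Scheme.ΓSpecIso (CommRingCat.of R)).inv).1 hxy)]
    have h := IsSMulRegular.of_flat (S := Γ(P, U)) hreg
    exact h (by show _ * a = _ * 0; rw [mul_zero]; exact ha)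
  · intro U hU a b hab
    rw [← hker U hU] at hab ⊢
    rw [← hker U hU]
    rw [map_mul] at hab
    rcases isEmpty_or_nonempty (σ ⁻¹ᵁ U : (X ⊗ (Y ⊗ closedPt R ψ)).left.Opens) with he | hne
    · left
      refine TopCat.Sheaf.eq_of_locally_eq' (X ⊗ (Y ⊗ closedPt R ψ)).left.sheaf (fun e : PEmpty.{u + 1} => e.elim)
        _ (fun e => e.elim) (fun z hz => (he.false ⟨z, hz⟩).elim) _ _ fun e => e.elim
    · exact mul_eq_zero.1 hab
  · intro U U' hU hU' hle
    obtain ⟨z, hz, hzD⟩ := SetLike.not_le_iff_exists.1 hU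
    obtain ⟨z', hz', hzD'⟩ := SetLike.not_le_iff_exists.1 hU'
    have hrange : ∀ z, π z = IsLocalRing.closedPoint R → z ∈ Set.range σ := by
      intro z hz
      rw [← H.isoPullback_hom_fst, Scheme.Hom.comp_base, TopCat.coe_comp, Set.range_comp,
        Set.range_eq_univ.2 H.isoPullback.hom.surjective, Set.image_univ, Scheme.Pullback.range_fst]
      exact ⟨IsLocalRing.closedPoint (IsLocalRing.ResidueField R), (IsLocalRing.comap_closedPoint (IsLocalRing.residue R)).trans hz.symm⟩
    obtain ⟨w, rfl⟩ := hrange z (hD' z hzD)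
    obtain ⟨w', rfl⟩ := hrange z' (hD' z' hzD')
    obtain ⟨v, hv⟩ := nonempty_preirreducible_inter (σ ⁻¹ᵁ U).isOpen (σ ⁻¹ᵁ U').isOpen
      ⟨w, hz⟩ ⟨w', hz'⟩
    have hvD : σ v ∈ P.basicOpen ϖ := hle ⟨hv.1, hv.2⟩
    have hvπ : π (σ v) = IsLocalRing.closedPoint R := by
      have e := congr($(H.w).base v)
      refine e.trans ?_
      show PrimeSpectrum.comap (IsLocalRing.residue R) _ = _
      exact (congrArg (PrimeSpectrum.comap (IsLocalRing.residue R)) (Subsingleton.elim
        (α := PrimeSpectrum (IsLocalRing.ResidueField R)) _ (IsLocalRing.closedPoint (IsLocalRing.ResidueField R)))).trans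
        (IsLocalRing.comap_closedPoint (IsLocalRing.residue R))
    have hv' : π (σ v) ∈ (Spec (CommRingCat.of R)).basicOpen ((Scheme.ΓSpecIso (CommRingCat.of R)).inv p) :=
      (Scheme.preimage_basicOpen π ((Scheme.ΓSpecIso (CommRingCat.of R)).inv p)).ge hvD
    rw [hvπ, basicOpen_eq_of_affine] at hv'
    exact hv' ((hm ▸ Ideal.mem_span_singleton_self p :) : p ∈ IsLocalRing.maximalIdeal R)

end Groth.Agent.CubeLib
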