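import Groth.Agent.CubeLib.CubePoints
import Groth.Agent.CubeLib.Special
import Groth.Agent.Stk19b.DvrImmersion

/-!
# The theorem of the cube over an algebraically closed field
-/

set_option autoImplicit false
set_option backward.isDefEq.respectTransparency.types false

universe u

open CategoryTheory CategoryTheory.Limits MonoidalCategory CartesianMonoidalCategory AlgebraicGeometry Opposite
  TopologicalSpace
open Groth.Agent.PicLib Groth.Agent.AmpleLib Groth.Agent.Coherent

namespace Groth.Agent.CubeLib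

variable {k : Type u} [Field k] {X Y Z : Over (Spec (CommRingCat.of k))}

theorem bijective_proj₃_app [CompactSpace X.left] [QuasiSeparatedSpace X.left] [CompactSpace Y.left]
    [QuasiSeparatedSpace Y.left] (hX : Function.Bijective X.hom.appTop) (hY : Function.Bijective Y.hom.appTop)
    (U : Z.left.Opens) : Function.Bijective ((proj₃ X Y Z).left.app U) := by
  rw [show (proj₃ X Y Z).left.app U = (snd Y Z).left.app U ≫ (snd X (Y ⊗ Z)).left.app ((snd Y Z).left ⁻¹ᵁ U) from
    Scheme.Hom.comp_app _ _ _]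
  exact (bijective_snd_app X (Y ⊗ Z) hX _).comp (bijective_snd_app Y Z hY U)

theorem geometricallyConnected_hom (X : Over (Spec (CommRingCat.of k))) [GeometricallyIrreducible X.hom] :
    GeometricallyConnected X.hom :=
  ⟨fun K _ y P a b h => by
    have := GeometricallyIrreducible.geometrically_irreducibleSpace (f := X.hom) y a b h
    infer_instance⟩

variable [IsProper X.hom] [IsProper Y.hom]

instance : IsProper (proj₃ X Y Z).left :=
  have h1 : IsProper (snd Y Z).left :=
    MorphismProperty.of_isPullback (IsPullback.of_hasPullback Y.hom Z.hom) (inferInstanceAs (IsProper Y.hom))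
  have h2 : IsProper (snd X (Y ⊗ Z)).left :=
    MorphismProperty.of_isPullback (IsPullback.of_hasPullback X.hom (Y ⊗ Z).hom) (inferInstanceAs (IsProper X.hom))
  inferInstanceAs (IsProper ((snd X (Y ⊗ Z)).left ≫ (snd Y Z).left))

/-- A module on `X × Y` over the base field, trivial after a field extension, is trivial. -/
theorem eq_one_of_extension (hX : Function.Bijective X.hom.appTop) (hY : Function.Bijective Y.hom.appTop)
    (K : Type u) [Field K] (s : Spec (CommRingCat.of K) ⟶ Spec (CommRingCat.of k))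
    (b : PicM (X ⊗ (Y ⊗ 𝟙_ (Over (Spec (CommRingCat.of k))))).left)
    (h : PicM.pull (X ◁ (Y ◁ toUnit (Over.mk s))).left b = 1) : b = 1 := by
  have : CompactSpace X.left := QuasiCompact.compactSpace_of_compactSpace X.hom
  have : CompactSpace Y.left := QuasiCompact.compactSpace_of_compactSpace Y.hom
  have : QuasiSeparatedSpace X.left := quasiSeparatedSpace_of_quasiSeparated X.hom
  have : QuasiSeparatedSpace Y.left := quasiSeparatedSpace_of_quasiSeparated Y.hom
  obtain ⟨L, hL, rfl⟩ := PicM.exists_eq_of b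
  let f := (proj₃ X Y (𝟙_ (Over (Spec (CommRingCat.of k))))).left
  let g := (toUnit (Over.mk s)).left
  have : Flat g := flat_of_field _
  have hsub : Subsingleton (𝟙_ (Over (Spec (CommRingCat.of k)))).left :=
    inferInstanceAs (Subsingleton (PrimeSpectrum k))
  have H : IsPullback (X ◁ (Y ◁ toUnit (Over.mk s))).left (proj₃ X Y (Over.mk s)).left f g :=
    (isPullback_whiskerLeft X (Y ◁ toUnit (Over.mk s))).paste_vert (isPullback_whiskerLeft Y (toUnit (Over.mk s)))
  obtain ⟨hN, hiso⟩ := exists_descend_of_flat_cover f (bijective_proj₃_app hX hY) hL (fun _ : PUnit.{1} => Spec (CommRingCat.of K))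
    (fun _ => g) (fun y => ⟨PUnit.unit, IsLocalRing.closedPoint K, Subsingleton.elim _ _⟩)
    (fun Z' _ => (Subsingleton.set_cases (p := IsOpen) isOpen_empty isOpen_univ Z'))
    (fun _ => 1) (fun _ => by
      rw [map_one]
      refine (congrArg (fun σ => PicM.pull σ (PicM.of hL)) H.isoPullback_inv_fst.symm).trans ?_
      exact (PicM.pull_pull _ _ _).symm.trans ((congrArg (PicM.pull _) h).trans (map_one _)))
  have e : PicM.of hL = PicM.pull f (PicM.of hN) := by
    rw [PicM.pull_of, PicM.of_eq_iff]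
    exact ⟨(asIso ((Scheme.Modules.pullbackPushforwardAdjunction f).counit.app L)).symm⟩
  have h1 : (PicM.of hN : PicM (𝟙_ (Over (Spec (CommRingCat.of k)))).left) = 1 := PicM.eq_one_of_field k _
  rw [e, h1, map_one]

variable [GeometricallyIntegral X.hom] [GeometricallyIntegral Y.hom]

/-- The theorem of the cube. -/
theorem eq_one_of_slices [IsAlgClosed k] [LocallyOfFiniteType Z.hom] [IrreducibleSpace Z.left]
    (x₀ : 𝟙_ (Over (Spec (CommRingCat.of k))) ⟶ X) (y₀ : 𝟙_ (Over (Spec (CommRingCat.of k))) ⟶ Y)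
    (z₀ : 𝟙_ (Over (Spec (CommRingCat.of k))) ⟶ Z)
    (a : PicM (X ⊗ (Y ⊗ Z)).left)
    (hx : PicM.pull (lift (toUnit (Y ⊗ Z) ≫ x₀) (𝟙 (Y ⊗ Z))).left a = 1)
    (hy : PicM.pull (lift (fst X Z) (lift (toUnit (X ⊗ Z) ≫ y₀) (snd X Z))).left a = 1)
    (hz : PicM.pull (lift (fst X Y) (lift (snd X Y) (toUnit (X ⊗ Y) ≫ z₀))).left a = 1) :
    a = 1 := by
  obtain ⟨L, hL, rfl⟩ := PicM.exists_eq_of a
  have : GeometricallyConnected X.hom := geometricallyConnected_hom X
  have : GeometricallyConnected Y.hom := geometricallyConnected_hom Y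
  have hX : Function.Bijective X.hom.appTop := bijective_hom_appTop X
  have hY : Function.Bijective Y.hom.appTop := bijective_hom_appTop Y
  have hy' : PicM.pull (X ◁ lift (toUnit Z ≫ y₀) (𝟙 Z)).left (PicM.of hL) = 1 := by
    rw [show X ◁ lift (toUnit Z ≫ y₀) (𝟙 Z) = lift (fst X Z) (lift (toUnit (X ⊗ Z) ≫ y₀) (snd X Z)) by
      ext1
      · simp
      · ext1 <;> simp]
    exact hy
  have hz' : PicM.pull (X ◁ (Y ◁ z₀)).left (PicM.of hL) = 1 := by
    rw [whisker_point, Over.comp_left, ← PicM.pull_pull, hz, map_one]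
  have : IsLocallyNoetherian Z.left := LocallyOfFiniteType.isLocallyNoetherian Z.hom
  let η := genericPoint Z.left
  have hη : Good L η := (isOpen_good L).stableUnderGeneralization
    ((genericPoint_spec Z.left).specializes trivial) (good_of_slice hX hY x₀ y₀ hL hx hy' z₀ hz')
  have hclosed : ∀ z : Z.left, IsClosed ({z} : Set Z.left) → Good L z := by
    intro z hzc
    by_cases hne : η = z
    · exact hne ▸ hη
    let q : 𝟙_ (Over (Spec (CommRingCat.of k))) ⟶ Z :=
      Over.homMk (pointOfClosedPoint Z.hom z hzc) (pointOfClosedPoint_comp _ _ _)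
    have hqz : q.left (IsLocalRing.closedPoint k) = z := pointOfClosedPoint_apply _ _ _ _
    obtain ⟨W, hηW, t, ht⟩ := hη
    obtain ⟨R, _, _, _, ψ, hψc, hψη⟩ :=
      Stk19b.exists_dvr_of_specializes ((genericPoint_spec Z.left).specializes (y := z) trivial) hne
    let g : Over.mk (ψ ≫ Z.hom) ⟶ Z := Over.homMk ψ rfl
    let σ := X ◁ (Y ◁ g)
    have H : IsPullback σ.left (toBase (X := X) (Y := Y) R (ψ ≫ Z.hom)).left (proj₃ X Y Z).left ψ :=
      (isPullback_whiskerLeft X (Y ◁ g)).paste_vert (isPullback_whiskerLeft Y g)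
    have hgen := (isGen_pullSec σ.left ht hL).restrict
      (V := (toBase (X := X) (Y := Y) R (ψ ≫ Z.hom)).left ⁻¹ᵁ (ψ ⁻¹ᵁ W)) (fun p hp => by
        show (proj₃ X Y Z).left (σ.left p) ∈ W
        exact (congr($(H.w).base p)).symm ▸ hp)
    have h1 : PicM.pull σ.left (PicM.of hL) = 1 := by
      rw [PicM.pull_of]
      refine eq_one_of_generic R (ψ ≫ Z.hom) _ (ψ ⁻¹ᵁ W) (fun p hp => ?_) hgen
      have hp0 : p.asIdeal = ⊥ := by
        by_contra hbot
        exact hp (PrimeSpectrum.ext (IsLocalRing.eq_maximalIdeal (p.isPrime.isMaximal hbot)))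
      have e : p = PrimeSpectrum.comap (algebraMap R (FractionRing R)) (IsLocalRing.closedPoint (FractionRing R)) := by
        refine PrimeSpectrum.ext ?_
        rw [hp0]
        show ⊥ = Ideal.comap (algebraMap R (FractionRing R)) (IsLocalRing.maximalIdeal (FractionRing R))
        rw [IsLocalRing.maximalIdeal_eq_bot, ← RingHom.ker_eq_comap_bot, (RingHom.injective_iff_ker_eq_bot _).1
          (IsFractionRing.injective R (FractionRing R))]
      show ψ p ∈ W
      rw [e, show ψ (PrimeSpectrum.comap (algebraMap R (FractionRing R)) (IsLocalRing.closedPoint (FractionRing R))) = η from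
        hψη _]
      exact hηW
    have hfac : closedPtIncl R (ψ ≫ Z.hom) ≫ g = toUnit (closedPt R (ψ ≫ Z.hom)) ≫ q := by
      refine eq_toUnit_comp (IsLocalRing.ResidueField R) _ _ q ?_
      rw [hqz]
      show ψ (PrimeSpectrum.comap (IsLocalRing.residue R) _) = z
      rw [IsLocalRing.comap_closedPoint]
      exact hψc
    refine hqz ▸ good_of_slice hX hY x₀ y₀ hL hx hy' q
      (eq_one_of_extension hX hY (IsLocalRing.ResidueField R)
        (Spec.map (CommRingCat.ofHom (IsLocalRing.residue R)) ≫ ψ ≫ Z.hom) _ ?_)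
    show PicM.pull (X ◁ (Y ◁ toUnit (closedPt R (ψ ≫ Z.hom)))).left (PicM.pull (X ◁ (Y ◁ q)).left (PicM.of hL)) = 1
    rw [PicM.pull_pull, ← Over.comp_left, ← whiskerLeft_comp, ← whiskerLeft_comp, ← hfac, whiskerLeft_comp,
      whiskerLeft_comp, Over.comp_left, ← PicM.pull_pull, h1, map_one]
  have hall : ∀ z : Z.left, Good L z := by
    have : JacobsonSpace Z.left := LocallyOfFiniteType.jacobsonSpace Z.hom
    by_contra hne
    simp only [not_forall] at hne
    obtain ⟨z, hz₁, hz₂⟩ := nonempty_inter_closedPoints (Z := {z | Good L z}ᶜ) hne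
      (isOpen_good L).isClosed_compl.isLocallyClosed
    exact hz₁ (hclosed z hz₂)
  choose W hzW t ht using hall
  let f := (proj₃ X Y Z).left
  have : CompactSpace X.left := QuasiCompact.compactSpace_of_compactSpace X.hom
  have : CompactSpace Y.left := QuasiCompact.compactSpace_of_compactSpace Y.hom
  have : QuasiSeparatedSpace X.left := quasiSeparatedSpace_of_quasiSeparated X.hom
  have : QuasiSeparatedSpace Y.left := quasiSeparatedSpace_of_quasiSeparated Y.hom
  obtain ⟨hN, hiso⟩ := exists_descend_of_flat_cover f (bijective_proj₃_app hX hY) hL (fun z : Z.left => (W z).toScheme)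
    (fun z => (W z).ι) (fun y => ⟨y, ⟨y, hzW y⟩, rfl⟩)
    (fun Z' hZ' => isOpen_iff_forall_mem_open.2 fun y hy => ⟨(W y).ι '' ((W y).ι ⁻¹' Z'), Set.image_preimage_subset _ _,
      (W y).ι.isOpenEmbedding.isOpenMap _ (hZ' y), ⟨⟨y, hzW y⟩, hy, rfl⟩⟩)
    (fun _ => 1) (fun z => by
      rw [map_one]
      refine pull_eq_one_of_isGen _ hL (ht z) (top_le_iff.1 fun p _ => ?_)
      show f (pullback.fst f (W z).ι p) ∈ W z
      have e := congr($(pullback.condition (f := f) (g := (W z).ι)).base p)
      exact e.symm ▸ (pullback.snd f (W z).ι p).2)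
  have e : PicM.of hL = PicM.pull f (PicM.of hN) := by
    rw [PicM.pull_of, PicM.of_eq_iff]
    exact ⟨(asIso ((Scheme.Modules.pullbackPushforwardAdjunction f).counit.app L)).symm⟩
  let σ₀ : Z ⟶ X ⊗ (Y ⊗ Z) := lift (toUnit Z ≫ x₀) (lift (toUnit Z ≫ y₀) (𝟙 Z))
  have hσ₀ : σ₀.left ≫ f = 𝟙 Z.left := by
    show σ₀.left ≫ (proj₃ X Y Z).left = _
    rw [← Over.comp_left, show σ₀ ≫ proj₃ X Y Z = 𝟙 Z by simp [σ₀]]
    rfl
  have hN1 : (PicM.of hN : PicM Z.left) = 1 := by
    have h2 : PicM.pull σ₀.left (PicM.of hL) = 1 := by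
      rw [show σ₀ = lift (toUnit Z ≫ y₀) (𝟙 Z) ≫ lift (toUnit (Y ⊗ Z) ≫ x₀) (𝟙 (Y ⊗ Z)) by
        ext1 <;> simp [σ₀], Over.comp_left, ← PicM.pull_pull, hx, map_one]
    rwa [e, PicM.pull_pull, hσ₀, PicM.pull_id] at h2
  rw [e, hN1, map_one]

end Groth.Agent.CubeLib
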