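import Groth.Agent.CubeLib.FieldChange
import Groth.Agent.CubeLib.FibrewiseTriv
import Groth.Agent.AbCubeLib.Subvariety
import Groth.Agent.AlgGrpLib.UnitsOnProducts
import Groth.Agent.AbCubeLib.FiniteQuotient

/-!
# The theorem of the cube with a connected reduced middle factor
-/

set_option autoImplicit false
set_option backward.isDefEq.respectTransparency.types false

universe u

open CategoryTheory CategoryTheory.Limits MonoidalCategory CartesianMonoidalCategory AlgebraicGeometry Opposite
  TopologicalSpace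
open Groth.Agent.PicLib Groth.Agent.AmpleLib Groth.Agent.Coherent

namespace Groth.Agent.CubeLib

variable {k : Type u} [Field k] [IsAlgClosed k] {X Y Z : Over (Spec (CommRingCat.of k))}

theorem toUnit_comp_eq {A B T : Over (Spec (CommRingCat.of k))} (f : A ⟶ B)
    (x : 𝟙_ (Over (Spec (CommRingCat.of k))) ⟶ T) : f ≫ toUnit B ≫ x = toUnit A ≫ x := by
  rw [← Category.assoc, toUnit_unique (f ≫ toUnit B) (toUnit A)]

/-- The theorem of the cube with a connected reduced middle factor. -/
theorem eq_one_of_slices_connected [IsProper X.hom] [GeometricallyIntegral X.hom] [IsProper Y.hom]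
    [IsReduced Y.left] [ConnectedSpace Y.left] [LocallyOfFiniteType Z.hom] [QuasiCompact Z.hom]
    [GeometricallyIntegral Z.hom]
    (x₀ : 𝟙_ (Over (Spec (CommRingCat.of k))) ⟶ X) (y₀ : 𝟙_ (Over (Spec (CommRingCat.of k))) ⟶ Y)
    (z₀ : 𝟙_ (Over (Spec (CommRingCat.of k))) ⟶ Z)
    (a : PicM (X ⊗ (Y ⊗ Z)).left)
    (hx : PicM.pull (lift (toUnit (Y ⊗ Z) ≫ x₀) (𝟙 (Y ⊗ Z))).left a = 1)
    (hy : PicM.pull (lift (fst X Z) (lift (toUnit (X ⊗ Z) ≫ y₀) (snd X Z))).left a = 1)
    (hz : PicM.pull (lift (fst X Y) (lift (snd X Y) (toUnit (X ⊗ Y) ≫ z₀))).left a = 1) :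
    a = 1 := by
  classical
  have : IsIntegral Z.left := GeometricallyIntegral.isIntegral_of_subsingleton Z.hom
  have : CompactSpace Y.left := QuasiCompact.compactSpace_of_compactSpace Y.hom
  have : IsLocallyNoetherian Y.left := LocallyOfFiniteType.isLocallyNoetherian Y.hom
  have : IsNoetherian Y.left := { }
  have : JacobsonSpace Y.left := LocallyOfFiniteType.jacobsonSpace Y.hom
  -- the components
  let J (C : Set Y.left) (hC : IsClosed C) : Y.left.IdealSheafData :=
    Scheme.IdealSheafData.vanishingIdeal ⟨C, hC⟩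
  let Cs (C : Set Y.left) (hC : IsClosed C) : Over (Spec (CommRingCat.of k)) :=
    Over.mk ((J C hC).subschemeι ≫ Y.hom)
  let iC (C : Set Y.left) (hC : IsClosed C) : Cs C hC ⟶ Y := Over.homMk (J C hC).subschemeι rfl
  have hrg : ∀ C hC, Set.range (iC C hC).left = C := fun C hC => by
    show Set.range (J C hC).subschemeι = C
    rw [Scheme.IdealSheafData.range_subschemeι]
    rfl
  let Good (C : Set Y.left) : Prop := ∃ hC : IsClosed C, PicM.pull (X ◁ (iC C hC ▷ Z)).left a = 1
  -- a component through a point with trivial slice is good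
  have step : ∀ C ∈ irreducibleComponents Y.left, ∀ y₁ : 𝟙_ (Over (Spec (CommRingCat.of k))) ⟶ Y,
      AbCubeLib.ptOf y₁ ∈ C →
      PicM.pull (lift (fst X Z) (lift (toUnit (X ⊗ Z) ≫ y₁) (snd X Z))).left a = 1 → Good C := by
    intro C hC y₁ hy₁ hy'
    have hCc : IsClosed C := isClosed_of_mem_irreducibleComponents C hC
    refine ⟨hCc, ?_⟩
    let B := Cs C hCc
    let i := iC C hCc
    have : IsClosedImmersion i.left := inferInstanceAs (IsClosedImmersion (J C hCc).subschemeι)
    have : IsReduced B.left := Props12.isReduced_subscheme_vanishingIdeal _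
    have : IrreducibleSpace B.left := by
      have hi : IsIrreducible (Set.range i.left) := by rw [hrg]; exact hC.1
      exact i.left.isClosedEmbedding.isEmbedding.toHomeomorph.irreducibleSpace_iff.2
        (Subtype.irreducibleSpace hi)
    have : IsIntegral B.left := isIntegral_of_irreducibleSpace_of_isReduced B.left
    have : IsProper B.hom := inferInstanceAs (IsProper ((J C hCc).subschemeι ≫ Y.hom))
    have : GeometricallyIntegral B.hom := AbVarLib.geometricallyIntegral_of_isAlgClosed B.hom
    obtain ⟨b, hb⟩ : y₁.left (IsLocalRing.closedPoint k) ∈ Set.range i.left := by rw [hrg]; exact hy₁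
    have hbc : IsClosed ({b} : Set B.left) := by
      have e : ({b} : Set B.left) = i.left ⁻¹' {y₁.left (IsLocalRing.closedPoint k)} :=
        Set.ext fun z => ⟨fun h => by rw [Set.mem_preimage, h]; exact hb,
          fun h => i.left.isClosedEmbedding.injective (h.trans hb.symm)⟩
      rw [e]
      exact (AbCubeLib.isClosed_point y₁).preimage i.left.continuous
    obtain ⟨c, hc⟩ := AbCubeLib.exists_ptOf hbc
    have hci : c ≫ i = y₁ := AbCubeLib.point_ext (by
      show i.left (AbCubeLib.ptOf c) = _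
      rw [hc, hb])
    refine eq_one_of_slices x₀ c z₀ _ ?_ ?_ ?_
    · rw [PicM.pull_pull, ← Over.comp_left, show lift (toUnit (B ⊗ Z) ≫ x₀) (𝟙 (B ⊗ Z)) ≫ (X ◁ (i ▷ Z)) =
        (i ▷ Z) ≫ lift (toUnit (Y ⊗ Z) ≫ x₀) (𝟙 (Y ⊗ Z)) by
          ext1
          · simp [B, toUnit_comp_eq]
          · simp [B], Over.comp_left, ← PicM.pull_pull, hx, map_one]
    · rw [PicM.pull_pull, ← Over.comp_left, show lift (fst X Z) (lift (toUnit (X ⊗ Z) ≫ c) (snd X Z)) ≫ (X ◁ (i ▷ Z)) =
        lift (fst X Z) (lift (toUnit (X ⊗ Z) ≫ y₁) (snd X Z)) by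
          ext1
          · simp
          · ext1 <;> simp [hci], hy']
    · rw [PicM.pull_pull, ← Over.comp_left, show lift (fst X B) (lift (snd X B) (toUnit (X ⊗ B) ≫ z₀)) ≫ (X ◁ (i ▷ Z)) =
        (X ◁ i) ≫ lift (fst X Y) (lift (snd X Y) (toUnit (X ⊗ Y) ≫ z₀)) by
          ext1
          · simp [B]
          · ext1 <;> simp [B, toUnit_comp_eq], Over.comp_left, ← PicM.pull_pull, hz, map_one]
  -- all components are good
  have hfin := NoetherianSpace.finite_irreducibleComponents (α := Y.left)
  let U : Set Y.left := ⋃₀ {C ∈ irreducibleComponents Y.left | Good C}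
  let V : Set Y.left := ⋃₀ {C ∈ irreducibleComponents Y.left | ¬ Good C}
  have hU : IsClosed U := by
    simp only [U, V, Set.sUnion_eq_biUnion]
    exact (hfin.subset (Set.sep_subset _ _)).isClosed_biUnion fun C hC => isClosed_of_mem_irreducibleComponents C hC.1
  have hV : IsClosed V := by
    simp only [U, V, Set.sUnion_eq_biUnion]
    exact (hfin.subset (Set.sep_subset _ _)).isClosed_biUnion fun C hC => isClosed_of_mem_irreducibleComponents C hC.1
  have hUV : Disjoint U V := by
    rw [Set.disjoint_iff_inter_eq_empty]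
    by_contra hne
    obtain ⟨y, hy12, hyc⟩ := nonempty_inter_closedPoints (Set.nonempty_iff_ne_empty.2 hne)
      (hU.inter hV).isLocallyClosed
    obtain ⟨C, ⟨hC, hCc, hCgood⟩, hyC⟩ := hy12.1
    obtain ⟨C', ⟨hC', hC'bad⟩, hyC'⟩ := hy12.2
    obtain ⟨y₁, rfl⟩ := AbCubeLib.exists_ptOf (A := Y) hyc
    refine hC'bad (step C' hC' y₁ hyC' ?_)
    let i := iC C hCc
    have : IsClosedImmersion i.left := inferInstanceAs (IsClosedImmersion (J C hCc).subschemeι)
    have : IsProper (Cs C hCc).hom := inferInstanceAs (IsProper ((J C hCc).subschemeι ≫ Y.hom))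
    obtain ⟨b, hb⟩ : y₁.left (IsLocalRing.closedPoint k) ∈ Set.range i.left := by rw [hrg]; exact hyC
    have hbc : IsClosed ({b} : Set (Cs C hCc).left) := by
      have e : ({b} : Set (Cs C hCc).left) = i.left ⁻¹' {y₁.left (IsLocalRing.closedPoint k)} :=
        Set.ext fun z => ⟨fun h => by rw [Set.mem_preimage, h]; exact hb,
          fun h => i.left.isClosedEmbedding.injective (h.trans hb.symm)⟩
      rw [e]
      exact (AbCubeLib.isClosed_point y₁).preimage i.left.continuous
    obtain ⟨c, hc⟩ := AbCubeLib.exists_ptOf hbc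
    have hci : c ≫ i = y₁ := AbCubeLib.point_ext (by
      show i.left (AbCubeLib.ptOf c) = _
      rw [hc, hb])
    rw [show lift (fst X Z) (lift (toUnit (X ⊗ Z) ≫ y₁) (snd X Z)) =
      lift (fst X Z) (lift (toUnit (X ⊗ Z) ≫ c) (snd X Z)) ≫ (X ◁ (i ▷ Z)) by
        ext1
        · simp
        · ext1 <;> simp [hci], Over.comp_left, ← PicM.pull_pull, hCgood, map_one]
  have hcov : U ∪ V = Set.univ := Set.eq_univ_of_forall fun y => by
    by_cases h : Good (irreducibleComponent y)
    · exact Or.inl ⟨_, ⟨irreducibleComponent_mem_irreducibleComponents y, h⟩, mem_irreducibleComponent⟩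
    · exact Or.inr ⟨_, ⟨irreducibleComponent_mem_irreducibleComponents y, h⟩, mem_irreducibleComponent⟩
  have hgood : ∀ y : Y.left, ∃ C, Good C ∧ y ∈ C := by
    have hne : U.Nonempty := ⟨AbCubeLib.ptOf y₀, _, ⟨irreducibleComponent_mem_irreducibleComponents _,
      step _ (irreducibleComponent_mem_irreducibleComponents _) y₀ mem_irreducibleComponent hy⟩,
        mem_irreducibleComponent⟩
    have hc : IsCompl U V := ⟨hUV, codisjoint_iff.2 hcov⟩
    have : U = Set.univ := by
      refine (IsClopen.eq_univ ⟨hU, ?_⟩ hne)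
      rw [← hc.symm.compl_eq]
      exact hV.isOpen_compl
    intro y
    obtain ⟨C, ⟨-, hC⟩, hyC⟩ : y ∈ U := this ▸ Set.mem_univ y
    exact ⟨C, hC, hyC⟩
  -- triviality on the fibres over `Y × Z`
  let π := (snd X (Y ⊗ Z)).left
  have hπ : IsPullback (fst X (Y ⊗ Z)).left π X.hom (Y ⊗ Z).hom := IsPullback.of_hasPullback X.hom (Y ⊗ Z).hom
  have : IsProper π := MorphismProperty.of_isPullback hπ (inferInstanceAs (IsProper X.hom))
  have : Flat π := MorphismProperty.of_isPullback hπ (flat_of_field X.hom)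
  have : GeometricallyConnected X.hom := geometricallyConnected_hom X
  have : GeometricallyConnected π := MorphismProperty.of_isPullback hπ ‹GeometricallyConnected X.hom›
  have : GeometricallyReduced π := MorphismProperty.of_isPullback hπ (inferInstanceAs (GeometricallyReduced X.hom))
  have : IsReduced (Y ⊗ Z).left := AlgGrpLib.isReduced_tensor Y Z
  have hft : LocallyOfFiniteType (snd Y Z).left :=
    MorphismProperty.of_isPullback (IsPullback.of_hasPullback Y.hom Z.hom) (inferInstanceAs (LocallyOfFiniteType Y.hom))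
  have : LocallyOfFiniteType (Y ⊗ Z).hom := by
    rw [← Over.w (snd Y Z)]
    infer_instance
  have : IsLocallyNoetherian (Y ⊗ Z).left := LocallyOfFiniteType.isLocallyNoetherian (Y ⊗ Z).hom
  obtain ⟨b, rfl⟩ := exists_pull_eq (bijective_algebraMap_fibre π) a fun t => by
    obtain ⟨C, ⟨hCc, hC⟩, htC⟩ := hgood ((fst Y Z).left t)
    let i := iC C hCc
    have : IsClosedImmersion i.left := inferInstanceAs (IsClosedImmersion (J C hCc).subschemeι)
    have : IsClosedImmersion (i ▷ Z).left :=
      MorphismProperty.of_isPullback (AbCubeLib.isPullback_whiskerRight i Z) ‹IsClosedImmersion i.left›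
    obtain ⟨t', ht'⟩ : t ∈ Set.range (i ▷ Z).left := by
      have H := (AbCubeLib.isPullback_whiskerRight i Z).flip
      obtain ⟨o, ho⟩ : (fst Y Z).left t ∈ Set.range i.left := by rw [hrg]; exact htC
      obtain ⟨z, hz1, -⟩ := Scheme.Pullback.exists_preimage_pullback t o ho.symm
      refine ⟨H.isoPullback.inv z, ?_⟩
      rw [← Scheme.Hom.comp_apply, IsPullback.isoPullback_inv_fst]
      exact hz1
    subst ht'
    let r := (i ▷ Z).left.residueFieldMap t'
    have : IsIso r := by
      refine (ConcreteCategory.isIso_iff_bijective r).2 ⟨RingHom.injective r.hom, fun x => ?_⟩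
      obtain ⟨s, rfl⟩ := IsLocalRing.residue_surjective x
      obtain ⟨s', rfl⟩ := (i ▷ Z).left.stalkMap_surjective t' s
      exact ⟨IsLocalRing.residue _ s', rfl⟩
    let m := π.fiberToSpecResidueField ((i ▷ Z).left t') ≫ Spec.map (inv r) ≫
      (Cs C hCc ⊗ Z).left.fromSpecResidueField t'
    have hm : m ≫ (i ▷ Z).left = π.fiberι ((i ▷ Z).left t') ≫ π := by
      rw [π.fiber_fac, Category.assoc, Category.assoc,
        ← Scheme.Hom.SpecMap_residueFieldMap_fromSpecResidueField, ← Spec.map_comp_assoc, IsIso.hom_inv_id,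
        Spec.map_id, Category.id_comp]
    have H : IsPullback (X ◁ (i ▷ Z)).left (snd X (Cs C hCc ⊗ Z)).left π (i ▷ Z).left :=
      isPullback_whiskerLeft X (i ▷ Z)
    rw [← H.lift_fst (π.fiberι _) m hm.symm, ← PicM.pull_pull, hC, map_one]
  let s := lift (toUnit (Y ⊗ Z) ≫ x₀) (𝟙 (Y ⊗ Z))
  rw [PicM.pull_pull, ← Over.comp_left, show s ≫ snd X (Y ⊗ Z) = 𝟙 _ from lift_snd _ _, Over.id_left, PicM.pull_id]
    at hx
  rw [hx, map_one]

end Groth.Agent.CubeLib
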