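import Groth.Agent.CubeLib.OpenLocus
import Groth.Agent.PicLib.FlatTriv
import Mathlib.AlgebraicGeometry.AlgClosed.Basic

/-!
# Fibres over rational points
-/

set_option autoImplicit false
set_option backward.isDefEq.respectTransparency.types false

universe u

open CategoryTheory CategoryTheory.Limits MonoidalCategory CartesianMonoidalCategory AlgebraicGeometry Opposite
  TopologicalSpace
open Groth.Agent.PicLib Groth.Agent.AmpleLib Groth.Agent.Coherent

namespace Groth.Agent.CubeLib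

/-- An invertible module has a generator where its inverse image along an open immersion has one. -/
theorem exists_isGen_image {P Q : Scheme.{u}} (σ : Q ⟶ P) [IsOpenImmersion σ] (L : P.Modules) {W : Q.Opens}
    {s : Γ((Scheme.Modules.pullback σ).obj L, W)} (hs : IsGen _ W s) :
    ∃ t : Γ(L, σ ''ᵁ W), IsGen L (σ ''ᵁ W) t := by
  obtain ⟨s', hs'⟩ : ∃ s' : Γ(L.restrict σ, W), IsGen (L.restrict σ) W s' :=
    ⟨_, isGen_app_iso ((Scheme.Modules.restrictFunctorIsoPullback σ).app L).symm hs⟩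
  refine ⟨(L.restrictAppIso σ W).hom s', fun V hV => ?_⟩
  obtain ⟨V', rfl⟩ : ∃ V' : Q.Opens, σ ''ᵁ V' = V := ⟨σ ⁻¹ᵁ V, by
    rw [σ.image_preimage_eq_opensRange_inf, inf_eq_right]
    exact hV.trans (σ.image_le_opensRange W)⟩
  have h' : V' ≤ W := (Scheme.Hom.image_le_image_iff σ V' W).1 hV
  have hb1 := ConcreteCategory.bijective_of_isIso (L.restrictAppIso σ V').hom
  have hb3 := ConcreteCategory.bijective_of_isIso (σ.appIso V').hom
  convert hb1.comp ((hs' V' h').comp hb3) using 1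
  funext r
  refine Eq.trans ?_ (Scheme.Modules.smul_restrictAppIso_hom_apply σ L V' _ _).symm
  rw [← ConcreteCategory.comp_apply (σ.appIso V').hom, Iso.hom_inv_id]
  rfl

variable {k : Type u} [Field k] {X Y Z : Over (Spec (CommRingCat.of k))}

/-- Projection to the last factor. -/
noncomputable abbrev proj₃ (X Y Z : Over (Spec (CommRingCat.of k))) : X ⊗ (Y ⊗ Z) ⟶ Z := snd X (Y ⊗ Z) ≫ snd Y Z

/-- The fibre over a rational point. -/
theorem whisker_point (q : 𝟙_ (Over (Spec (CommRingCat.of k))) ⟶ Z) :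
    X ◁ (Y ◁ q) = (X ◁ fst Y (𝟙_ _)) ≫ lift (fst X Y) (lift (snd X Y) (toUnit (X ⊗ Y) ≫ q)) := by
  ext1
  · simp
  · ext1
    · simp
    · simp only [Category.assoc, lift_snd, whiskerLeft_snd, whiskerLeft_snd_assoc, comp_toUnit_assoc]
      rw [← Category.assoc]
      exact congrArg (· ≫ q) (toUnit_unique (snd X (Y ⊗ 𝟙_ _) ≫ snd Y (𝟙_ _)) (toUnit _))

/-- A point over a field with closed image is the rational point of its image. -/
theorem eq_toUnit_comp [IsAlgClosed k] [LocallyOfFiniteType Z.hom] (K : Type u) [Field K]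
    (s : Spec (CommRingCat.of K) ⟶ Spec (CommRingCat.of k)) (f : Over.mk s ⟶ Z)
    (q : 𝟙_ (Over (Spec (CommRingCat.of k))) ⟶ Z)
    (h : f.left (IsLocalRing.closedPoint K) = q.left (IsLocalRing.closedPoint k)) :
    f = toUnit (Over.mk s) ≫ q := by
  obtain ⟨⟨z, α⟩, hf⟩ := (Scheme.SpecToEquivOfField K Z.left).symm.surjective f.left
  change Spec.map α ≫ Z.left.fromSpecResidueField z = f.left at hf
  have hz : f.left (IsLocalRing.closedPoint K) = z := by
    rw [← hf, Scheme.Hom.comp_apply]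
    exact Scheme.fromSpecResidueField_apply _ _
  have hq : q.left ≫ Z.hom = 𝟙 _ := Over.w q
  have hzc : IsClosed ({z} : Set Z.left) := by
    have := isClosedImmersion_of_comp_eq_id Z.hom q.left hq
    have := q.left.isClosedEmbedding.isClosed_range
    have : Nonempty (𝟙_ (Over (Spec (CommRingCat.of k)))).left := ⟨IsLocalRing.closedPoint k⟩
    rename IsClosed _ => hc
    rwa [Set.range_eq_singleton (y := z)] at hc
    exact fun p => by rw [← hz, h]; exact congr(q.left.base $(Subsingleton.elim (α := PrimeSpectrum k) _ _))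
  have hqp : q.left = pointOfClosedPoint Z.hom z hzc :=
    ext_of_apply_closedPoint_eq Z.hom hq (pointOfClosedPoint_comp _ _ _)
      ((h.symm.trans hz).trans (pointOfClosedPoint_apply _ _ _ _).symm)
  refine Over.OverMorphism.ext ?_
  show f.left = (toUnit (Over.mk s)).left ≫ q.left
  have hs : (toUnit (Over.mk s)).left = s := by
    have := Over.w (toUnit (Over.mk s))
    exact (Category.comp_id _).symm.trans this
  rw [hs, hqp, ← hf, pointOfClosedPoint]
  have e : s = Spec.map α ≫ Spec.map (residueFieldIsoBase Z.hom z hzc).inv := by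
    rw [SpecMap_residueFieldIsoBase_inv, ← Category.assoc, hf]
    exact (Over.w f).symm
  rw [e, Category.assoc, ← Category.assoc (Spec.map (residueFieldIsoBase Z.hom z hzc).inv), ← Spec.map_comp (residueFieldIsoBase Z.hom z hzc).hom,
    Iso.hom_inv_id, Spec.map_id, Category.id_comp]

/-- The locus of the base near which the module has a generator. -/
def Good (L : (X ⊗ (Y ⊗ Z)).left.Modules) (z : Z.left) : Prop :=
  ∃ W : Z.left.Opens, z ∈ W ∧ ∃ t : Γ(L, (proj₃ X Y Z).left ⁻¹ᵁ W), IsGen L _ t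

theorem isOpen_good (L : (X ⊗ (Y ⊗ Z)).left.Modules) : IsOpen {z | Good L z} :=
  isOpen_iff_forall_mem_open.2 fun _ ⟨W, hz, ht⟩ => ⟨W, fun _ hy => ⟨W, hy, ht⟩, W.isOpen, hz⟩

variable [IsProper X.hom] [IsProper Y.hom]

/-- Triviality on the fibre at a rational point implies triviality nearby. -/
theorem good_of_slice [LocallyOfFiniteType Z.hom]
    (hX : Function.Bijective X.hom.appTop) (hY : Function.Bijective Y.hom.appTop)
    (x₀ : 𝟙_ (Over (Spec (CommRingCat.of k))) ⟶ X) (y₀ : 𝟙_ (Over (Spec (CommRingCat.of k))) ⟶ Y)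
    {L : (X ⊗ (Y ⊗ Z)).left.Modules} (hL : PicF.IsInvertible L)
    (hx : PicM.pull (lift (toUnit (Y ⊗ Z) ≫ x₀) (𝟙 (Y ⊗ Z))).left (PicM.of hL) = 1)
    (hy : PicM.pull (X ◁ lift (toUnit Z ≫ y₀) (𝟙 Z)).left (PicM.of hL) = 1)
    (q : 𝟙_ (Over (Spec (CommRingCat.of k))) ⟶ Z)
    (hq : PicM.pull (X ◁ (Y ◁ q)).left (PicM.of hL) = 1) :
    Good L (q.left (IsLocalRing.closedPoint k)) := by
  obtain ⟨V, hV, hqV, -⟩ := exists_isAffineOpen_mem_and_subset (x := q.left (IsLocalRing.closedPoint k))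
    (U := ⊤) (Set.mem_univ _)
  let B := Γ(Z.left, V)
  have : IsLocallyNoetherian Z.left := LocallyOfFiniteType.isLocallyNoetherian Z.hom
  have : IsNoetherianRing B := IsLocallyNoetherian.component_noetherian ⟨V, hV⟩
  let s : Spec (CommRingCat.of B) ⟶ Spec (CommRingCat.of k) := hV.fromSpec ≫ Z.hom
  let g : Over.mk s ⟶ Z := Over.homMk hV.fromSpec rfl
  have hr : Set.range q.left ⊆ Set.range hV.fromSpec := by
    rintro _ ⟨p, rfl⟩
    rw [hV.range_fromSpec, Subsingleton.elim (α := PrimeSpectrum k) p (IsLocalRing.closedPoint k)]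
    exact hqV
  let q₁ : Spec (CommRingCat.of k) ⟶ Spec (CommRingCat.of B) := IsOpenImmersion.lift hV.fromSpec q.left hr
  have hq₁ : q₁ ≫ s = 𝟙 _ := by
    show q₁ ≫ hV.fromSpec ≫ Z.hom = 𝟙 _
    rw [IsOpenImmersion.lift_fac_assoc]
    exact Over.w q
  let φ := Spec.preimage q₁
  let I : Ideal B := RingHom.ker φ.hom
  have hsurj : Function.Surjective φ.hom := fun r => by
    have e : Spec.preimage s ≫ φ = 𝟙 _ := Spec.map_injective (by rw [Spec.map_comp, Spec.map_preimage, Spec.map_preimage, hq₁, Spec.map_id])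
    exact ⟨Spec.preimage s r, congr($e r)⟩
  have : I.IsMaximal := RingHom.ker_isMaximal_of_surjective φ.hom hsurj
  have hι : nbhdIncl B I s 0 ≫ g = toUnit (nbhd B I s 0) ≫ q := by
    refine Over.OverMorphism.ext ?_
    have hu : (toUnit (nbhd B I s 0)).left = Spec.map (CommRingCat.ofHom (Ideal.Quotient.mk (I ^ (0 + 1)))) ≫ s :=
      (Category.comp_id _).symm.trans (Over.w (toUnit (nbhd B I s 0)))
    refine Eq.trans ?_ (congrArg (· ≫ q.left) hu.symm)
    show Spec.map (CommRingCat.ofHom (Ideal.Quotient.mk (I ^ (0 + 1)))) ≫ hV.fromSpec = (Spec.map _ ≫ s) ≫ q.left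
    rw [ ← IsOpenImmersion.lift_fac hV.fromSpec q.left hr, ← Category.assoc (_ ≫ s)]
    congr 1
    have hφ : q₁ = Spec.map φ := (Spec.map_preimage q₁).symm
    show _ = (_ ≫ s) ≫ q₁
    rw [hφ, ← Spec.map_preimage s, ← Spec.map_comp, ← Spec.map_comp]
    refine congrArg Spec.map (CommRingCat.hom_ext (RingHom.ext fun b => ?_))
    show Ideal.Quotient.mk (I ^ (0 + 1)) b = Ideal.Quotient.mk (I ^ (0 + 1)) (Spec.preimage s (φ b))
    rw [Ideal.Quotient.eq, zero_add, pow_one, RingHom.mem_ker, map_sub, sub_eq_zero]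
    have e : Spec.preimage s ≫ φ = 𝟙 _ := Spec.map_injective (by rw [Spec.map_comp, Spec.map_preimage, Spec.map_preimage, hq₁, Spec.map_id])
    exact (congr($e (φ b))).symm
  let σ := X ◁ (Y ◁ g)
  have hL' := PicLoc.isInvertible_pullback σ.left hL
  have hxg : lift (toUnit (Y ⊗ Over.mk s) ≫ x₀) (𝟙 _) ≫ σ =
      (Y ◁ g) ≫ lift (toUnit (Y ⊗ Z) ≫ x₀) (𝟙 _) := by ext1 <;> simp [σ]
  have hyg : (X ◁ lift (toUnit (Over.mk s) ≫ y₀) (𝟙 _)) ≫ σ =
      (X ◁ g) ≫ (X ◁ lift (toUnit Z ≫ y₀) (𝟙 _)) := by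
    rw [← whiskerLeft_comp, ← whiskerLeft_comp]
    congr 1
    ext1 <;> simp
  obtain ⟨W, hzW, t, ht⟩ := exists_isGen_near B I s hX hY x₀ y₀ hL' (by
      rw [← PicM.pull_of σ.left hL, PicM.pull_pull, ← Over.comp_left, ← whiskerLeft_comp, ← whiskerLeft_comp, hι,
        whiskerLeft_comp, whiskerLeft_comp, Over.comp_left, ← PicM.pull_pull, hq, map_one])
    (by rw [← PicM.pull_of σ.left hL, PicM.pull_pull, ← Over.comp_left, hxg, Over.comp_left, ← PicM.pull_pull, hx, map_one])
    (by rw [← PicM.pull_of σ.left hL, PicM.pull_pull, ← Over.comp_left, hyg, Over.comp_left, ← PicM.pull_pull, hy, map_one])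
  have hg : IsOpenImmersion g.left := inferInstanceAs (IsOpenImmersion hV.fromSpec)
  have h1 : IsOpenImmersion (Y ◁ g).left := MorphismProperty.of_isPullback (isPullback_whiskerLeft Y g).flip hg
  have h2 : IsOpenImmersion σ.left := MorphismProperty.of_isPullback (isPullback_whiskerLeft X (Y ◁ g)).flip h1
  obtain ⟨t', ht'⟩ := exists_isGen_image σ.left L ht
  have H : IsPullback σ.left (toBase (X := X) (Y := Y) B s).left (proj₃ X Y Z).left g.left :=
    (isPullback_whiskerLeft X (Y ◁ g)).paste_vert (isPullback_whiskerLeft Y g)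
  have himg : σ.left ''ᵁ ((toBase (X := X) (Y := Y) B s).left ⁻¹ᵁ W) = (proj₃ X Y Z).left ⁻¹ᵁ (g.left ''ᵁ W) := by
    refine Opens.ext (Set.ext fun a => ⟨?_, ?_⟩)
    · rintro ⟨o, ho, rfl⟩
      exact ⟨_, ho, congr($(H.w).base o).symm⟩
    · rintro ⟨p, hp, hpa⟩
      obtain ⟨o, ho⟩ : a ∈ Set.range σ.left := by
        rw [← H.isoPullback_hom_fst, Scheme.Hom.comp_base, TopCat.coe_comp, Set.range_comp,
          Set.range_eq_univ.2 H.isoPullback.hom.surjective, Set.image_univ, Scheme.Pullback.range_fst]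
        exact ⟨p, hpa⟩
      refine ⟨o, ?_, ho⟩
      show (toBase (X := X) (Y := Y) B s).left o ∈ W
      have e := congr($(H.w).base o)
      rw [show (toBase (X := X) (Y := Y) B s).left o = p from g.left.isOpenEmbedding.injective
        (e.symm.trans ((congrArg (proj₃ X Y Z).left.base ho).trans hpa.symm))]
      exact hp
  refine ⟨g.left ''ᵁ W, ⟨_, hzW, ?_⟩, himg ▸ ⟨t', ht'⟩⟩
  show g.left ⟨I, _⟩ = _
  have : q₁ (IsLocalRing.closedPoint k) = (⟨I, inferInstance⟩ : PrimeSpectrum B) := by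
    rw [← Spec.map_preimage q₁]
    refine PrimeSpectrum.ext ?_
    show Ideal.comap φ.hom (IsLocalRing.maximalIdeal k) = I
    rw [IsLocalRing.maximalIdeal_eq_bot]
    rfl
  rw [← this]
  exact congr($(IsOpenImmersion.lift_fac hV.fromSpec q.left hr).base (IsLocalRing.closedPoint k))

end Groth.Agent.CubeLib
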