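import Groth.Agent.CubeLib.DeformCech

/-!
# The obstruction cocycle on the axes
-/

set_option autoImplicit false
set_option backward.isDefEq.respectTransparency.types false

universe u

open CategoryTheory CategoryTheory.Limits MonoidalCategory CartesianMonoidalCategory AlgebraicGeometry Opposite
  TopologicalSpace TensorProduct
open Groth.Agent.Coherent Groth.Agent.PicLib Groth.Agent.AmpleLib

namespace Groth.Agent.CubeLib

variable {k : Type u} [Field k] {X Y Y₀ T T₀ : Over (Spec (CommRingCat.of k))} {ιX ιY : Type u}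
  {U : ιX → X.left.Opens} {W : ιY → Y.left.Opens} {j : Y₀ ⟶ Y}

/-- An element is inverse to the restriction of a global function if it is so on a cover. -/
theorem exists_global_inverse {S : Scheme.{u}} {ι : Type*} (V : ι → S.Opens) (hV : ⊤ ≤ iSup V)
    (f : ∀ i, Γ(S, V i)) (hf : ∀ i, IsUnit (f i))
    (h : ∀ i i', S.presheaf.map (homOfLE (inf_le_left : V i ⊓ V i' ≤ V i)).op (f i) =
      S.presheaf.map (homOfLE (inf_le_right : V i ⊓ V i' ≤ V i')).op (f i')) :
    ∃ g : Γ(S, ⊤), ∀ i, S.presheaf.map (homOfLE (le_top (a := V i))).op g * f i = 1 := by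
  choose w hw using fun i => (hf i).exists_left_inv
  obtain ⟨g, hg⟩ := exists_glue_functions V ⊤ (fun _ => le_top) hV w (fun i i' => by
    refine left_inv_eq_right_inv (a := S.presheaf.map (homOfLE (inf_le_left : V i ⊓ V i' ≤ V i)).op (f i)) ?_ ?_
    · rw [← map_mul, hw, map_one]
    · rw [h, mul_comm, ← map_mul, hw, map_one])
  exact ⟨g, fun i => by rw [hg, hw]⟩

/-- `(X ◁ f)^*` of the products of functions. -/
theorem app_preimage_map {A B : Scheme.{u}} (f : A ⟶ B) {V V' : B.Opens} (h : V' ≤ V) (r : Γ(B, V)) :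
    f.app V' (B.presheaf.map (homOfLE h).op r) =
      A.presheaf.map (homOfLE ((Opens.map f.base).monotone h)).op (f.app V r) :=
  congr($(f.naturality (homOfLE h).op) r)

theorem kerBox_map_id (i : T₀ ⟶ T) {U₁ U₂ : X.left.Opens} {V : T.left.Opens} (h : U₂ ≤ U₁)
    (t : Γ(X.left, U₁) ⊗[k] Ker i V) :
    kerBox i U₂ V (TensorProduct.map (resₐ h).toLinearMap LinearMap.id t) =
      resₐ (box_mono h le_rfl) (kerBox i U₁ V t) := by
  rw [kerBox_res i h le_rfl t]
  congr 1
  induction t using TensorProduct.induction_on with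
  | zero => simp
  | add a b ha hb => simp only [map_add, ha, hb]
  | tmul a b =>
    rw [TensorProduct.map_tmul, TensorProduct.map_tmul]
    congr 1
    exact Subtype.ext (resₐ_self le_rfl _).symm

theorem map_proj_id {ι : Type*} {M : ι → Type*} [∀ i, AddCommGroup (M i)] [∀ i, Module k (M i)] {N M' : Type*}
    [AddCommGroup N] [Module k N] [AddCommGroup M'] [Module k M'] (i : ι) (φ : M i →ₗ[k] M') (x : (∀ i, M i) ⊗[k] N) :
    TensorProduct.map (φ ∘ₗ LinearMap.proj i) LinearMap.id x =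
      TensorProduct.map φ LinearMap.id ((LinearMap.proj i).rTensor N x) := by
  induction x using TensorProduct.induction_on with
  | zero => simp
  | add a b ha hb => simp only [map_add, ha, hb]
  | tmul a b => simp

namespace Lifts

variable {L : (X ⊗ Y).left.Modules} (Λ : Lifts U W j L)

/-- On the axis `{x₀} × Y` the cocycle is a coboundary. -/
theorem exists_axis_left [IsSeparated Y.hom] [Finite ιX] [Finite ιY]
    (hsq : ∀ (W : Y.left.Opens) (a b : Γ(Y.left, W)), a ∈ Ker j W → b ∈ Ker j W → a * b = 0)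
    (hW : ⊤ ≤ iSup W) (hliftY : Function.Surjective j.left.appTop) (hL : PicF.IsInvertible L)
    (x₀ : 𝟙_ (Over (Spec (CommRingCat.of k))) ⟶ X) (a₀ : ιX) (hx₀ : ⊤ ≤ x₀.left ⁻¹ᵁ U a₀)
    (ev : Γ(X.left, U a₀) →ₗ[k] k) (hev : ∀ r, appLEₐ x₀ (U a₀) ⊤ hx₀ r = algebraMap k _ (ev r))
    {g : Γ((Scheme.Modules.pullback (lift (toUnit Y ≫ x₀) (𝟙 Y)).left).obj L, ⊤)} (hg : IsGen _ ⊤ g)
    (q : cech0 U ⊗[k] kerCech1 W j)
    (hq : ∀ a bb, TensorProduct.map (LinearMap.proj a) (LinearMap.proj bb) q = Λ.q₁ a bb) :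
    ∃ f : kerCech0 W j,
      TensorProduct.lid k (kerCech1 W j) ((ev ∘ₗ LinearMap.proj a₀).rTensor _ q) = kerCechD W j f := by
  let ax := (lift (toUnit Y ≫ x₀) (𝟙 Y)).left
  have hax : ∀ W' : Y.left.Opens, W' ≤ ax ⁻¹ᵁ box (U a₀) W' := fun W' z hz => by
    have e1 : (fst X Y).left.base (ax.base z) = x₀.left.base ((toUnit Y).left.base z) :=
      congrArg (fun φ : Y ⟶ X => φ.left.base z) (lift_fst (toUnit Y ≫ x₀) (𝟙 Y))
    have e2 : (snd X Y).left.base (ax.base z) = z :=
      congrArg (fun φ : Y ⟶ Y => φ.left.base z) (lift_snd (toUnit Y ≫ x₀) (𝟙 Y))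
    exact ⟨show (fst X Y).left.base (ax.base z) ∈ U a₀ from e1 ▸ hx₀ trivial,
      show (snd X Y).left.base (ax.base z) ∈ W' from e2.symm ▸ hz⟩
  let v : ∀ b, Γ(Y.left, W b) := fun b =>
    hg.coef le_top (resM _ (hax (W b)) (pullSec ax (Λ.e (a₀, b))))
  have hv : ∀ b, IsUnit (v b) := fun b => by
    have h1 := (isGen_pullSec ax (Λ.gen (a₀, b)) hL).restrict (hax (W b))
    have h2 := (hg.restrict (le_top (a := W b))).isUnit_coef h1
    rwa [(hg.restrict (le_top (a := W b))).coef_eq le_rfl (r := v b)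
      (by rw [resM_self]; exact hg.coef_spec le_top _)] at h2
  let κ : ∀ b b', Ker j (W b ⊓ W b') := fun b b' =>
    TensorProduct.lid k _ (ev.rTensor _ (Λ.q₁ a₀ (b, b')))
  have hvv : ∀ b b', resₐ inf_le_left (v b) = (1 + (κ b b' : Γ(Y.left, W b ⊓ W b'))) * resₐ inf_le_right (v b') := by
    intro b b'
    refine (hg _ le_top).1 ?_
    show resₐ inf_le_left (v b) • _ = ((1 + (κ b b' : Γ(Y.left, W b ⊓ W b'))) * _) • _
    have hcv : ∀ (b₁ : ιY) (W' : Y.left.Opens) (h : W' ≤ W b₁),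
        resₐ h (v b₁) • resM _ (le_top (a := W')) g = resM _ (h.trans (hax (W b₁))) (pullSec ax (Λ.e (a₀, b₁))) := by
      intro b₁ W' h
      have h1 := congrArg (resM _ h) (hg.coef_spec (le_top (a := W b₁))
        (resM _ (hax (W b₁)) (pullSec ax (Λ.e (a₀, b₁)))))
      rw [resM_smul, resM_resM, resM_resM, ← resₐ_apply] at h1
      exact h1
    rw [mul_smul, hcv b _ inf_le_left, hcv b' _ inf_le_right]
    have h2 := congrArg (fun z => resM _ (hax (W b ⊓ W b')) (pullSec ax z))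
      (Λ.γ_spec (a₀, b) (a₀, b') (Λ.affX a₀) (isAffineOpen_inf_sec Y (Λ.affY b) (Λ.affY b')) le_rfl inf_le_left
        le_rfl inf_le_right)
    simp only [pullSec_smul, resM_smul, ← resM_pullSec, resM_resM] at h2
    rw [h2]
    congr 1
    rw [map_add, map_one, map_add, map_one]
    congr 1
    rw [← appLEₐ_axis j x₀ hx₀ ev hev (hax (W b ⊓ W b')), appLEₐ_apply, Scheme.Hom.appLE, ConcreteCategory.comp_apply]
    rfl
  -- the unit on `Y₀`
  obtain ⟨r₀, hr₀⟩ := exists_global_inverse (fun b => j.left ⁻¹ᵁ W b)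
    (fun z _ => Opens.mem_iSup.2 ((Opens.mem_iSup.1 (hW (Set.mem_univ (j.left.base z)))).imp fun _ h => h))
    (fun b => j.left.app (W b) (v b)) (fun b => (hv b).map _) (fun b b' => by
      have h := congrArg (j.left.app (W b ⊓ W b')) (hvv b b')
      rw [map_mul, map_add, map_one, (mem_Ker j _ _).1 (κ b b').2, add_zero, one_mul, resₐ_apply, resₐ_apply,
        app_preimage_map, app_preimage_map] at h
      exact h)
  obtain ⟨r, rfl⟩ := hliftY r₀
  have hG : ∀ b, v b * resₐ (le_top (a := W b)) r - 1 ∈ Ker j (W b) := fun b => by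
    rw [mem_Ker, map_sub, map_mul, map_one, resₐ_apply, app_preimage_map, sub_eq_zero, mul_comm]
    exact hr₀ b
  refine ⟨fun b => -⟨_, hG b⟩, funext fun bb => Subtype.ext ?_⟩
  obtain ⟨b, b'⟩ := bb
  rw [kerCechD_apply]
  have hκ : TensorProduct.lid k (kerCech1 W j) ((ev ∘ₗ LinearMap.proj a₀).rTensor _ q) (b, b') = κ b b' := by
    simp only [κ, ← hq a₀ (b, b')]
    generalize q = q'
    induction q' using TensorProduct.induction_on with
    | zero => simp
    | add c d hc hd => simp only [map_add, Pi.add_apply, hc, hd]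
    | tmul c d => simp
  rw [hκ]
  simp only [map_neg, AddSubgroupClass.coe_sub, coe_kerRes, map_sub, map_mul, map_one, resₐ_resₐ, neg_sub,
    NegMemClass.coe_neg, map_neg]
  have hκ' : (κ b b' : Γ(Y.left, W b ⊓ W b')) * (resₐ inf_le_right (v b') * resₐ le_top r - 1) = 0 := by
    refine hsq _ _ _ (κ b b').2 ?_
    have h := (kerRes j (inf_le_right : W b ⊓ W b' ≤ W b') ⟨_, hG b'⟩).2
    rwa [coe_kerRes, map_sub, map_mul, map_one, resₐ_resₐ] at h
  rw [hvv b b']
  linear_combination (-1 : Γ(Y.left, W b ⊓ W b')) * hκ'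

/-- On `X × T` the cocycle is a coboundary. -/
theorem exists_axis_right [IsSeparated X.hom] [IsAffine T.left] [Finite ιX] [Finite ιY]
    {i : T₀ ⟶ T} [IsClosedImmersion i.left]
    (hsqT : ∀ (W : T.left.Opens) (a b : Γ(T.left, W)), a ∈ Ker i W → b ∈ Ker i W → a * b = 0)
    (hU : ⊤ ≤ iSup U) (hliftT : Function.Surjective (X ◁ i).left.appTop) (hL : PicF.IsInvertible L)
    (y : T ⟶ Y) (y₀ : T₀ ⟶ Y₀) (hy₀ : y₀ ≫ j = i ≫ y) (b₀ : ιY) (hb₀ : ⊤ ≤ y.left ⁻¹ᵁ W b₀)
    {g : Γ((Scheme.Modules.pullback (X ◁ y).left).obj L, ⊤)} (hg : IsGen _ ⊤ g)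
    (p : cech1 U ⊗[k] kerCech0 W j)
    (hp : ∀ aa b, TensorProduct.map (LinearMap.proj aa) (LinearMap.proj b) p = Λ.p₁ aa b) :
    ∃ f : cech0 U ⊗[k] Ker i (⊤ : T.left.Opens),
      (kerMap y y₀ hy₀ hb₀ ∘ₗ LinearMap.proj b₀).lTensor _ p = (cechD U).rTensor _ f := by
  let ay := (X ◁ y).left
  have hay : ∀ U' : X.left.Opens, box U' (⊤ : T.left.Opens) ≤ ay ⁻¹ᵁ box U' (W b₀) := fun U' => by
    rw [show ay ⁻¹ᵁ box U' (W b₀) = box U' (y.left ⁻¹ᵁ W b₀) from preimage_box_whisker y U' (W b₀)]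
    exact box_mono le_rfl hb₀
  have hT : IsAffineOpen (⊤ : T.left.Opens) := isAffineOpen_top _
  have hU₂ : ∀ a a', IsAffineOpen (U a ⊓ U a') := fun a a' => isAffineOpen_inf_sec X (Λ.affX a) (Λ.affX a')
  let v : ∀ a, Γ((X ⊗ T).left, box (U a) ⊤) := fun a =>
    hg.coef le_top (resM _ (hay (U a)) (pullSec ay (Λ.e (a, b₀))))
  have hv : ∀ a, IsUnit (v a) := fun a => by
    have h1 := (isGen_pullSec ay (Λ.gen (a, b₀)) hL).restrict (hay (U a))
    have h2 := (hg.restrict (le_top (a := box (U a) ⊤))).isUnit_coef h1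
    rwa [(hg.restrict (le_top (a := box (U a) ⊤))).coef_eq le_rfl (r := v a)
      (by rw [resM_self]; exact hg.coef_spec le_top _)] at h2
  let κ : ∀ a a', Γ(X.left, U a ⊓ U a') ⊗[k] Ker i (⊤ : T.left.Opens) := fun a a' =>
    (kerMap y y₀ hy₀ hb₀).lTensor _ (Λ.p₁ (a, a') b₀)
  have hκ : ∀ a a', appLEₐ (X ◁ y) (box (U a ⊓ U a') (W b₀)) (box (U a ⊓ U a') ⊤) (hay _)
      (kerBox j (U a ⊓ U a') (W b₀) (Λ.p₁ (a, a') b₀)) = kerBox i _ ⊤ (κ a a') := by
    intro a a'
    refine Eq.trans ?_ (Eq.trans (kerBox_natural (𝟙 X) y y₀ hy₀ (le_refl (U a ⊓ U a')) hb₀ (Λ.p₁ (a, a') b₀)) ?_)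
    · congr 2
    · simp only [κ]
      congr 1
      generalize Λ.p₁ (a, a') b₀ = t
      induction t using TensorProduct.induction_on with
      | zero => simp
      | add c d hc hd => simp only [map_add, hc, hd]
      | tmul c d =>
        rw [TensorProduct.map_tmul, LinearMap.lTensor_tmul]
        congr 1
        exact resₐ_self le_rfl c
  have hle : ∀ a a', box (U a ⊓ U a') (⊤ : T.left.Opens) ≤ box (U a) ⊤ :=
    fun a a' => box_mono inf_le_left le_rfl
  have hle' : ∀ a a', box (U a ⊓ U a') (⊤ : T.left.Opens) ≤ box (U a') ⊤ :=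
    fun a a' => box_mono inf_le_right le_rfl
  have hvv : ∀ a a', resₐ (hle a a') (v a) = (1 + kerBox i _ ⊤ (κ a a')) * resₐ (hle' a a') (v a') := by
    intro a a'
    refine (hg _ le_top).1 ?_
    show resₐ (hle a a') (v a) • _ = ((1 + kerBox i _ ⊤ (κ a a')) * _) • _
    have hcv : ∀ (a₁ : ιX) (U' : X.left.Opens) (h : U' ≤ U a₁),
        resₐ (box_mono h (le_refl (⊤ : T.left.Opens))) (v a₁) • resM _ (le_top (a := box U' (⊤ : T.left.Opens))) g =
          resM _ ((box_mono h le_rfl).trans (hay (U a₁))) (pullSec ay (Λ.e (a₁, b₀))) := by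
      intro a₁ U' h
      have h1 := congrArg (resM _ (box_mono h (le_refl (⊤ : T.left.Opens))))
        (hg.coef_spec (le_top (a := box (U a₁) (⊤ : T.left.Opens))) (resM _ (hay (U a₁)) (pullSec ay (Λ.e (a₁, b₀)))))
      rw [resM_smul, resM_resM, resM_resM, ← resₐ_apply] at h1
      exact h1
    rw [mul_smul, hcv a _ inf_le_left, hcv a' _ inf_le_right]
    have h2 := congrArg (fun z => resM _ (hay (U a ⊓ U a')) (pullSec ay z))
      (Λ.γ_spec (a, b₀) (a', b₀) (hU₂ a a') (Λ.affY b₀) inf_le_left le_rfl inf_le_right le_rfl)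
    simp only [pullSec_smul, resM_smul, ← resM_pullSec, resM_resM] at h2
    rw [h2]
    congr 1
    rw [map_add, map_one, map_add, map_one, ← hκ a a', appLEₐ_apply, Scheme.Hom.appLE, ConcreteCategory.comp_apply]
    rfl
  have hcov : ⊤ ≤ ⨆ a, box (U a) (⊤ : T.left.Opens) := fun z _ =>
    Opens.mem_iSup.2 ((Opens.mem_iSup.1 (hU (Set.mem_univ ((fst X T).left.base z)))).imp fun _ h => ⟨h, trivial⟩)
  obtain ⟨r₀, hr₀⟩ := exists_global_inverse (fun a => (X ◁ i).left ⁻¹ᵁ box (U a) ⊤)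
    (fun z _ => Opens.mem_iSup.2 ((Opens.mem_iSup.1 (hcov (Set.mem_univ ((X ◁ i).left.base z)))).imp fun _ h => h))
    (fun a => (X ◁ i).left.app (box (U a) ⊤) (v a)) (fun a => (hv a).map _) (fun a a' => by
      have hinf : box (U a) (⊤ : T.left.Opens) ⊓ box (U a') ⊤ ≤ box (U a ⊓ U a') ⊤ :=
        fun z hz => ⟨⟨hz.1.1, hz.2.1⟩, trivial⟩
      have h := congrArg (fun c => (X ◁ i).left.app _ (resₐ hinf c)) (hvv a a')
      simp only [map_mul, map_add, map_one, resₐ_resₐ] at h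
      rw [resₐ_apply hinf, app_preimage_map _ hinf, app_kerBox, map_zero, add_zero, one_mul, resₐ_apply, resₐ_apply,
        app_preimage_map, app_preimage_map] at h
      exact h)
  obtain ⟨r, rfl⟩ := hliftT r₀
  have hG : ∀ a, ∃ f : Γ(X.left, U a) ⊗[k] Ker i (⊤ : T.left.Opens),
      kerBox i (U a) ⊤ f = v a * resₐ (le_top (a := box (U a) (⊤ : T.left.Opens))) r - 1 := fun a =>
    exists_kerBox i (Λ.affX a) hT (by
      rw [map_sub, map_mul, map_one, resₐ_apply, app_preimage_map, sub_eq_zero, mul_comm]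
      exact hr₀ a)
  choose f hf using hG
  obtain ⟨F, hF⟩ := (bijective_tensorPi_left (F := k) (fun a => Γ(X.left, U a)) (Ker i (⊤ : T.left.Opens))).2
    fun a => -f a
  refine ⟨F, (bijective_tensorPi_left (F := k) (fun aa : ιX × ιX => Γ(X.left, U aa.1 ⊓ U aa.2))
    (Ker i (⊤ : T.left.Opens))).1 (funext fun aa => ?_)⟩
  obtain ⟨a, a'⟩ := aa
  have hl : (LinearMap.proj (a, a')).rTensor _ ((kerMap y y₀ hy₀ hb₀ ∘ₗ LinearMap.proj b₀).lTensor _ p) = κ a a' := by
    simp only [κ, ← hp (a, a') b₀]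
    generalize p = p'
    induction p' using TensorProduct.induction_on with
    | zero => simp
    | add c d hc hd => simp only [map_add, hc, hd]
    | tmul c d => simp
  have hr : (LinearMap.proj (a, a')).rTensor _ ((cechD U).rTensor (Ker i (⊤ : T.left.Opens)) F) =
      TensorProduct.map (resₐ inf_le_left).toLinearMap LinearMap.id (f a) -
        TensorProduct.map (resₐ inf_le_right).toLinearMap LinearMap.id (f a') := by
    rw [← LinearMap.rTensor_comp_apply, cechD, LinearMap.proj_pi]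
    show TensorProduct.map _ LinearMap.id F = _
    rw [map_sub_left_apply]
    have e : ∀ (a₁ : ιX) (h : U a ⊓ U a' ≤ U a₁),
        TensorProduct.map ((resₐ h).toLinearMap ∘ₗ LinearMap.proj a₁) LinearMap.id F =
          -TensorProduct.map (resₐ h).toLinearMap LinearMap.id (f a₁) := fun a₁ h => by
      refine (map_proj_id (M := fun a => Γ(X.left, U a)) a₁ _ F).trans ?_
      rw [← map_neg]
      exact congrArg _ (congrFun hF a₁)
    rw [e a' inf_le_right, e a inf_le_left]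
    abel
  show (LinearMap.proj (a, a')).rTensor _ _ = (LinearMap.proj (a, a')).rTensor _ _
  rw [hl, hr]
  refine kerBox_injective i (hU₂ a a') hT ?_
  have hkr : ∀ (a₁ : ιX) (h : U a ⊓ U a' ≤ U a₁),
      kerBox i (U a ⊓ U a') ⊤ (TensorProduct.map (resₐ h).toLinearMap LinearMap.id (f a₁)) =
        resₐ (box_mono h le_rfl) (v a₁) * resₐ (le_top (a := box (U a ⊓ U a') (⊤ : T.left.Opens))) r - 1 := by
    intro a₁ h
    rw [kerBox_map_id, hf, map_sub, map_mul, map_one, resₐ_resₐ]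
  rw [map_sub (kerBox i (U a ⊓ U a') ⊤), hkr a inf_le_left, hkr a' inf_le_right]
  have hz := kerBox_mul i hsqT (κ a a') (TensorProduct.map (resₐ (inf_le_right : U a ⊓ U a' ≤ U a')).toLinearMap LinearMap.id (f a'))
  rw [hkr a' inf_le_right] at hz
  rw [hvv a a']
  linear_combination (-1 : Γ((X ⊗ T).left, box (U a ⊓ U a') ⊤)) * hz

end Lifts

end Groth.Agent.CubeLib
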