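import Mathlib.LinearAlgebra.TensorProduct.Quotient
import Mathlib.LinearAlgebra.DirectSum.Finsupp
import Mathlib.RingTheory.Flat.Basic
import Mathlib.LinearAlgebra.TensorProduct.Pi
import Mathlib.LinearAlgebra.Basis.VectorSpace

/-!
# Künneth formula for `H¹`, elementwise

A `1`-cocycle of a tensor product of two augmented complexes over a field which is a coboundary on both axes is a
coboundary.
-/

set_option autoImplicit false

open TensorProduct

namespace Groth.Agent.CubeLib

variable {k : Type*} [Field k] {A₀ A₁ A₂ B₀ B₁ J : Type*}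
  [AddCommGroup A₀] [Module k A₀] [AddCommGroup A₁] [Module k A₁] [AddCommGroup A₂] [Module k A₂]
  [AddCommGroup B₀] [Module k B₀] [AddCommGroup B₁] [Module k B₁] [AddCommGroup J] [Module k J]

/-- `p ⊗ q` with `d p = 0`, `d p = d q`, both trivial on the axes, is `d w`. -/
theorem exists_coboundary_of_axes (dA : A₀ →ₗ[k] A₁) (dA' : A₁ →ₗ[k] A₂) (hdd : dA' ∘ₗ dA = 0)
    (εA : k →ₗ[k] A₀) (hA : Function.Exact εA dA) (evx : A₀ →ₗ[k] k) (hx : evx ∘ₗ εA = LinearMap.id)
    (dB : B₀ →ₗ[k] B₁) (εB : J →ₗ[k] B₀) (hB : Function.Exact εB dB) (evy : B₀ →ₗ[k] J)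
    (hy : evy ∘ₗ εB = LinearMap.id)
    (p : A₁ ⊗[k] B₀) (q : A₀ ⊗[k] B₁) (hp : dA'.rTensor B₀ p = 0)
    (hpq : dB.lTensor A₁ p = dA.rTensor B₁ q)
    (hq : ∃ g : B₀, TensorProduct.lid k B₁ (evx.rTensor B₁ q) = dB g)
    (hp' : ∃ f : A₀ ⊗[k] J, evy.lTensor A₁ p = dA.rTensor J f) :
    ∃ w : A₀ ⊗[k] B₀, dA.rTensor B₀ w = p ∧ dB.lTensor A₀ w = q := by
  let Z := LinearMap.ker dA'
  let d : A₀ →ₗ[k] Z := dA.codRestrict Z fun a => LinearMap.congr_fun hdd a
  have hd : Z.subtype ∘ₗ d = dA := LinearMap.ext fun a => rfl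
  let H := Z ⧸ LinearMap.range d
  let π : Z →ₗ[k] H := (LinearMap.range d).mkQ
  have hπ : Function.Exact d π := LinearMap.exact_map_mkQ_range d
  have hπs : Function.Surjective π := Submodule.mkQ_surjective _
  have hinjB : Function.Injective (Z.subtype.rTensor B₁) :=
    Module.Flat.rTensor_preserves_injective_linearMap _ Z.injective_subtype
  have hinjJ : Function.Injective (Z.subtype.rTensor J) :=
    Module.Flat.rTensor_preserves_injective_linearMap _ Z.injective_subtype
  obtain ⟨z, hz⟩ := ((Module.Flat.rTensor_exact B₀ (LinearMap.exact_subtype_ker_map dA')) p).1 hp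
  -- the class of `p` is constant along the second factor
  have h1 : dB.lTensor H (π.rTensor B₀ z) = 0 := by
    have hzq : dB.lTensor Z z = d.rTensor B₁ q := hinjB (by
      rw [← LinearMap.rTensor_comp_apply, hd, ← hpq, ← hz, ← LinearMap.comp_apply, ← LinearMap.comp_apply,
        LinearMap.rTensor_comp_lTensor, LinearMap.lTensor_comp_rTensor])
    rw [← LinearMap.comp_apply, LinearMap.lTensor_comp_rTensor, ← LinearMap.rTensor_comp_lTensor, LinearMap.comp_apply,
      hzq]
    exact (rTensor_exact B₁ hπ hπs).apply_apply_eq_zero q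
  obtain ⟨h, hh⟩ := ((Module.Flat.lTensor_exact H hB) _).1 h1
  have h2 : π.rTensor B₀ z = 0 := by
    obtain ⟨f, hf⟩ := hp'
    have hzf : evy.lTensor Z z = d.rTensor J f := hinjJ (by
      rw [← LinearMap.rTensor_comp_apply, hd, ← hf, ← hz, ← LinearMap.comp_apply, ← LinearMap.comp_apply,
        LinearMap.rTensor_comp_lTensor, LinearMap.lTensor_comp_rTensor])
    have : evy.lTensor H (π.rTensor B₀ z) = 0 := by
      rw [← LinearMap.comp_apply, LinearMap.lTensor_comp_rTensor, ← LinearMap.rTensor_comp_lTensor,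
        LinearMap.comp_apply, hzf]
      exact (rTensor_exact J hπ hπs).apply_apply_eq_zero f
    rw [← hh, ← LinearMap.lTensor_comp_apply, hy, LinearMap.lTensor_id, LinearMap.id_apply] at this
    rw [← hh, this, map_zero]
  obtain ⟨w, hw⟩ := ((rTensor_exact B₀ hπ hπs) z).1 h2
  have hwp : dA.rTensor B₀ w = p := by rw [← hd, LinearMap.rTensor_comp_apply, hw, hz]
  -- the rest comes from the second axis
  have h3 : dA.rTensor B₁ (q - dB.lTensor A₀ w) = 0 := by
    rw [map_sub, ← hpq, ← hwp, ← LinearMap.comp_apply, ← LinearMap.comp_apply, LinearMap.lTensor_comp_rTensor,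
      LinearMap.rTensor_comp_lTensor, sub_self]
  obtain ⟨r, hr⟩ := ((Module.Flat.rTensor_exact B₁ hA) _).1 h3
  obtain ⟨g, hg⟩ := hq
  have h4 : TensorProduct.lid k B₁ r = dB (g - TensorProduct.lid k B₀ (evx.rTensor B₀ w)) := by
    have hxq : evx.rTensor B₁ (q - dB.lTensor A₀ w) = r := by
      rw [← hr, ← LinearMap.rTensor_comp_apply, hx, LinearMap.rTensor_id, LinearMap.id_apply]
    rw [← hxq, map_sub, map_sub, hg, map_sub, ← LinearMap.comp_apply, LinearMap.rTensor_comp_lTensor,
      ← LinearMap.lTensor_comp_rTensor, LinearMap.comp_apply]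
    congr 1
    generalize evx.rTensor B₀ w = t
    induction t using TensorProduct.induction_on with
    | zero => simp
    | tmul a b => simp
    | add a b ha hb => simp only [map_add, ha, hb]
  obtain ⟨g', hg'⟩ : ∃ g', TensorProduct.lid k B₁ r = dB g' := ⟨_, h4⟩
  refine ⟨w + εA 1 ⊗ₜ g', ?_, ?_⟩
  · rw [map_add, hwp, LinearMap.rTensor_tmul, hA.apply_apply_eq_zero, zero_tmul, add_zero]
  · have : r = (1 : k) ⊗ₜ dB g' := by rw [← hg', ← TensorProduct.lid_symm_apply, LinearEquiv.symm_apply_apply]
    rw [map_add, LinearMap.lTensor_tmul, show εA 1 ⊗ₜ[k] dB g' = q - dB.lTensor A₀ w by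
      rw [← hr, this, LinearMap.rTensor_tmul], add_sub_cancel]

/-- Elements of a tensor product of finite products are determined by, and built from, their components. -/
theorem bijective_tensorPi {ι κ : Type*} [Finite ι] [Finite κ] (M : ι → Type*) (N : κ → Type*)
    [∀ i, AddCommGroup (M i)] [∀ i, Module k (M i)] [∀ j, AddCommGroup (N j)] [∀ j, Module k (N j)] :
    Function.Bijective fun (x : (∀ i, M i) ⊗[k] (∀ j, N j)) (ij : ι × κ) =>
      TensorProduct.map (LinearMap.proj ij.1) (LinearMap.proj ij.2) x := by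
  classical
  have := Fintype.ofFinite ι
  have := Fintype.ofFinite κ
  let g : (∀ ij : ι × κ, M ij.1 ⊗[k] N ij.2) → (∀ i, M i) ⊗[k] (∀ j, N j) := fun y =>
    ∑ ij : ι × κ, TensorProduct.map (LinearMap.single k M ij.1) (LinearMap.single k N ij.2) (y ij)
  refine Function.bijective_iff_has_inverse.2 ⟨g, fun x => ?_, fun y => funext fun ab => ?_⟩
  · induction x using TensorProduct.induction_on with
    | zero => simp [g]
    | add x x' hx hx' =>
      simp only [g] at hx hx' ⊢
      simp only [map_add, Finset.sum_add_distrib, hx, hx']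
    | tmul a b =>
      simp only [g, TensorProduct.map_tmul, LinearMap.coe_proj, Function.eval]
      rw [Fintype.sum_prod_type]
      simp only [← TensorProduct.tmul_sum, ← TensorProduct.sum_tmul, LinearMap.coe_single, Finset.univ_sum_single]
  · simp only [g, map_sum]
    rw [Finset.sum_eq_single ab]
    · rw [← LinearMap.comp_apply, ← TensorProduct.map_comp, LinearMap.proj_comp_single_same,
        LinearMap.proj_comp_single_same, TensorProduct.map_id, LinearMap.id_apply]
    · intro ij _ h
      rw [← LinearMap.comp_apply, ← TensorProduct.map_comp]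
      rcases ne_or_eq ab.1 ij.1 with h1 | h1
      · rw [LinearMap.proj_comp_single_ne _ _ _ _ h1, TensorProduct.map_zero_left, LinearMap.zero_apply]
      · rw [LinearMap.proj_comp_single_ne _ _ _ _ fun h2 => h (Prod.ext h1.symm h2.symm), TensorProduct.map_zero_right,
          LinearMap.zero_apply]
    · exact fun h => absurd (Finset.mem_univ _) h

end Groth.Agent.CubeLib
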