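import Groth.Agent.CubeLib.KerBox
import Groth.Agent.CubeLib.Kunneth
import Groth.Agent.PicLib.LiftGen

/-!
# Lemmas for the deformation of trivialisations on a product
-/

set_option autoImplicit false
set_option backward.isDefEq.respectTransparency.types false

universe u

open CategoryTheory CategoryTheory.Limits MonoidalCategory CartesianMonoidalCategory AlgebraicGeometry Opposite
  TopologicalSpace TensorProduct
open Groth.Agent.Coherent Groth.Agent.PicLib

namespace Groth.Agent.CubeLib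

section Scheme

variable {S : Scheme.{u}} {ι : Type*}

theorem exists_glue_functions (V : ι → S.Opens) (U : S.Opens) (hV : ∀ i, V i ≤ U) (hU : U ≤ iSup V)
    (f : ∀ i, Γ(S, V i))
    (h : ∀ i i', S.presheaf.map (homOfLE (inf_le_left : V i ⊓ V i' ≤ V i)).op (f i) =
      S.presheaf.map (homOfLE (inf_le_right : V i ⊓ V i' ≤ V i')).op (f i')) :
    ∃ g : Γ(S, U), ∀ i, S.presheaf.map (homOfLE (hV i)).op g = f i :=
  (TopCat.Sheaf.existsUnique_gluing' S.sheaf V U (fun i => homOfLE (hV i)) hU f h).exists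

theorem eq_of_locally (V : ι → S.Opens) (U : S.Opens) (hV : ∀ i, V i ≤ U) (hU : U ≤ iSup V) {f g : Γ(S, U)}
    (h : ∀ i, S.presheaf.map (homOfLE (hV i)).op f = S.presheaf.map (homOfLE (hV i)).op g) : f = g :=
  TopCat.Sheaf.eq_of_locally_eq' S.sheaf V U (fun i => homOfLE (hV i)) hU f g h

/-- A finite affine open cover of a quasi-compact scheme. -/
theorem exists_finite_affine_cover (S : Scheme.{u}) [CompactSpace S] :
    ∃ (ι : Type u) (_ : Finite ι) (U : ι → S.Opens), (∀ i, IsAffineOpen (U i)) ∧ ∀ s : S, ∃ i, s ∈ U i := by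
  obtain ⟨I, hI, e⟩ := isCompact_iff_finite_and_eq_biUnion_affineOpens.mp
    (show IsCompact ((⊤ : S.Opens) : Set S) from isCompact_univ)
  have := hI.to_subtype
  refine ⟨I, inferInstance, fun i => i.1.1, fun i => i.1.2, fun s => ?_⟩
  have h : (s : S) ∈ (⨆ i ∈ I, (i : S.Opens)) := e.le trivial
  simp only [Opens.mem_iSup] at h
  obtain ⟨i, hiI, hs⟩ := h
  exact ⟨⟨i, hiI⟩, hs⟩

end Scheme

variable {k : Type u} [Field k] {X X' Y Y' Y₀ T T₀ : Over (Spec (CommRingCat.of k))}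

theorem resₐ_resₐ {U V W : X.left.Opens} (h : V ≤ U) (h' : W ≤ V) (r : Γ(X.left, U)) :
    resₐ h' (resₐ h r) = resₐ (h'.trans h) r := by
  rw [resₐ_apply, resₐ_apply, resₐ_apply, ← ConcreteCategory.comp_apply, ← Functor.map_comp]
  rfl

theorem resₐ_self {U : X.left.Opens} (h : U ≤ U) (r : Γ(X.left, U)) : resₐ h r = r := by
  rw [resₐ_apply]
  exact congr($(X.left.presheaf.map_id (op U)) r)

theorem resₐ_appLEₐ (f : X' ⟶ X) {U : X.left.Opens} {U' V' : X'.left.Opens} (h : U' ≤ f.left ⁻¹ᵁ U) (h' : V' ≤ U')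
    (r : Γ(X.left, U)) : resₐ h' (appLEₐ f U U' h r) = appLEₐ f U V' (h'.trans h) r := by
  rw [resₐ_apply, appLEₐ_apply, appLEₐ_apply, ← ConcreteCategory.comp_apply, Scheme.Hom.appLE_map]

theorem appLEₐ_resₐ (f : X' ⟶ X) {U V : X.left.Opens} {U' : X'.left.Opens} (h : V ≤ U) (h' : U' ≤ f.left ⁻¹ᵁ V)
    (r : Γ(X.left, U)) :
    appLEₐ f V U' h' (resₐ h r) = appLEₐ f U U' (h'.trans ((Opens.map f.left.base).monotone h)) r := by
  rw [resₐ_apply, appLEₐ_apply, appLEₐ_apply, ← ConcreteCategory.comp_apply, Scheme.Hom.map_appLE]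

theorem coe_kerRes (j : Y₀ ⟶ Y) {W W' : Y.left.Opens} (h : W' ≤ W) (b : Ker j W) :
    (kerRes j h b : Γ(Y.left, W')) = resₐ h b := rfl

theorem coe_kerMap {Y₀' : Over (Spec (CommRingCat.of k))} {j : Y₀ ⟶ Y} {j' : Y₀' ⟶ Y'} (g : Y' ⟶ Y) (g₀ : Y₀' ⟶ Y₀)
    (hsq : g₀ ≫ j = j' ≫ g) {W : Y.left.Opens} {W' : Y'.left.Opens} (h : W' ≤ g.left ⁻¹ᵁ W) (b : Ker j W) :
    (kerMap g g₀ hsq h b : Γ(Y'.left, W')) = appLEₐ g W W' h b := rfl

theorem kerRes_kerRes (j : Y₀ ⟶ Y) {W W' W'' : Y.left.Opens} (h : W' ≤ W) (h' : W'' ≤ W') (b : Ker j W) :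
    kerRes j h' (kerRes j h b) = kerRes j (h'.trans h) b := Subtype.ext (resₐ_resₐ h h' _)

/-- Products of two functions vanishing on `X × Y₀` vanish, if they do on `Y`. -/
theorem kerBox_mul (j : Y₀ ⟶ Y) (hsq : ∀ (W : Y.left.Opens) (a b : Γ(Y.left, W)), a ∈ Ker j W → b ∈ Ker j W → a * b = 0)
    {U : X.left.Opens} {W : Y.left.Opens} (s t : Γ(X.left, U) ⊗[k] Ker j W) :
    kerBox j U W s * kerBox j U W t = 0 := by
  induction s using TensorProduct.induction_on with
  | zero => simp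
  | add a b ha hb => rw [map_add, add_mul, ha, hb, add_zero]
  | tmul a b =>
    induction t using TensorProduct.induction_on with
    | zero => simp
    | add c d hc hd => rw [map_add, mul_add, hc, hd, add_zero]
    | tmul c d =>
      simp only [kerBox, LinearMap.comp_apply, AlgHom.toLinearMap_apply, LinearMap.lTensor_tmul, Submodule.coe_subtype]
      rw [← map_mul, Algebra.TensorProduct.tmul_mul_tmul, hsq W _ _ b.2 d.2, TensorProduct.tmul_zero, map_zero]

/-- `X ◁ j` annihilates the functions vanishing on `Y₀`. -/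
theorem app_kerBox (j : Y₀ ⟶ Y) {U : X.left.Opens} {W : Y.left.Opens} (t : Γ(X.left, U) ⊗[k] Ker j W) :
    (X ◁ j).left.app (box U W) (kerBox j U W t) = 0 := by
  induction t using TensorProduct.induction_on with
  | zero => simp
  | add a b ha hb => rw [map_add, map_add, ha, hb, add_zero]
  | tmul a b =>
    simp only [kerBox, LinearMap.comp_apply, AlgHom.toLinearMap_apply, LinearMap.lTensor_tmul, Submodule.coe_subtype]
    have hle : (X ◁ j).left ⁻¹ᵁ box U W ≤ box U (j.left ⁻¹ᵁ W) := (preimage_box_whisker j U W).le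
    have h := boxMap_natural (X ◁ j) U W ((X ◁ j).left ⁻¹ᵁ box U W) le_rfl (a ⊗ₜ (b : Γ(Y.left, W)))
    rw [appLEₐ_apply, Scheme.Hom.appLE_eq_app] at h
    rw [h, Algebra.TensorProduct.productMap_apply_tmul]
    have hb : appLEₐ j W (j.left ⁻¹ᵁ W) le_rfl (b : Γ(Y.left, W)) = 0 := b.2
    have h2 : ((X ◁ j) ≫ snd X Y) = snd X Y₀ ≫ j := whiskerLeft_snd X j
    have h3 : (X ◁ j).left ⁻¹ᵁ box U W ≤ (snd X Y₀ ≫ j).left ⁻¹ᵁ W := fun z hz => (hle hz).2
    have h4 : appLEₐ (snd X Y₀ ≫ j) W ((X ◁ j).left ⁻¹ᵁ box U W) h3 (b : Γ(Y.left, W)) = 0 := by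
      rw [← appLEₐ_comp (snd X Y₀) j W (j.left ⁻¹ᵁ W) _ le_rfl (fun z hz => (hle hz).2) h3, hb, map_zero]
    rw [show appLEₐ ((X ◁ j) ≫ snd X Y) W ((X ◁ j).left ⁻¹ᵁ box U W) _ (b : Γ(Y.left, W)) = 0 from by
      convert h4 using 2
      congr 1, mul_zero]

theorem kerBox_swap_eq (j : Y₀ ⟶ Y) {U : X.left.Opens} {W : Y.left.Opens} (a : Γ(X.left, U)) (b : Ker j W) :
    kerBox j U W (a ⊗ₜ b) = boxMap U W (a ⊗ₜ (b : Γ(Y.left, W))) := rfl

/-- Inverse image along `y ↦ (x₀, y)`. -/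
theorem appLEₐ_axis (j : Y₀ ⟶ Y) (x₀ : 𝟙_ (Over (Spec (CommRingCat.of k))) ⟶ X) {U : X.left.Opens} {W : Y.left.Opens}
    (hx₀ : ⊤ ≤ x₀.left ⁻¹ᵁ U) (ev : Γ(X.left, U) →ₗ[k] k)
    (hev : ∀ a, appLEₐ x₀ U ⊤ hx₀ a = algebraMap k _ (ev a))
    (h : W ≤ (lift (toUnit Y ≫ x₀) (𝟙 Y)).left ⁻¹ᵁ box U W) (t : Γ(X.left, U) ⊗[k] Ker j W) :
    appLEₐ (lift (toUnit Y ≫ x₀) (𝟙 Y)) (box U W) W h (kerBox j U W t) =
      (TensorProduct.lid k (Ker j W) (ev.rTensor (Ker j W) t) : Ker j W) := by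
  induction t using TensorProduct.induction_on with
  | zero => simp
  | add a b ha hb => simp only [map_add, ha, hb, Submodule.coe_add]
  | tmul a b =>
    rw [kerBox_swap_eq, boxMap_natural, Algebra.TensorProduct.productMap_apply_tmul, LinearMap.rTensor_tmul,
      TensorProduct.lid_tmul, Submodule.coe_smul, Algebra.smul_def]
    congr 1
    · have h1 : W ≤ (toUnit Y ≫ x₀).left ⁻¹ᵁ U := fun z _ => hx₀ trivial
      have h2 : appLEₐ (lift (toUnit Y ≫ x₀) (𝟙 Y) ≫ fst X Y) U W (fun z hz => (h hz).1) a =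
          appLEₐ (toUnit Y ≫ x₀) U W h1 a := by
        congr 2
        exact lift_fst _ _
      rw [h2, ← appLEₐ_comp (toUnit Y) x₀ U ⊤ W hx₀ (fun z _ => trivial) h1, hev, AlgHom.commutes]
    · have h2 : appLEₐ (lift (toUnit Y ≫ x₀) (𝟙 Y) ≫ snd X Y) W W (fun z hz => (h hz).2) (b : Γ(Y.left, W)) =
          appLEₐ (𝟙 Y) W W le_rfl (b : Γ(Y.left, W)) := by
        congr 2
        exact lift_snd _ _
      rw [h2]
      exact resₐ_self le_rfl _

/-- Elements of a tensor product with a finite product are determined by their components. -/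
theorem bijective_tensorPi_left {F : Type*} [Field F] {ι : Type*} [Finite ι] (M : ι → Type*) (N : Type*)
    [∀ i, AddCommGroup (M i)] [∀ i, Module F (M i)] [AddCommGroup N] [Module F N] :
    Function.Bijective fun (x : (∀ i, M i) ⊗[F] N) (i : ι) => (LinearMap.proj i).rTensor N x := by
  classical
  have := Fintype.ofFinite ι
  refine Function.bijective_iff_has_inverse.2 ⟨fun y => ∑ i, (LinearMap.single F M i).rTensor N (y i),
    fun x => ?_, fun y => funext fun a => ?_⟩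
  · induction x using TensorProduct.induction_on with
    | zero => simp
    | add x x' hx hx' =>
      simp only at hx hx' ⊢
      simp only [map_add, Finset.sum_add_distrib, hx, hx']
    | tmul a b =>
      simp only [LinearMap.rTensor_tmul, LinearMap.coe_proj, Function.eval, LinearMap.coe_single,
        ← TensorProduct.sum_tmul, Finset.univ_sum_single]
  · simp only [map_sum]
    rw [Finset.sum_eq_single a]
    · rw [← LinearMap.rTensor_comp_apply, LinearMap.proj_comp_single_same, LinearMap.rTensor_id, LinearMap.id_apply]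
    · intro i _ h
      rw [← LinearMap.rTensor_comp_apply, LinearMap.proj_comp_single_ne _ _ _ _ h.symm, LinearMap.rTensor_zero,
        LinearMap.zero_apply]
    · exact fun h => absurd (Finset.mem_univ _) h

end Groth.Agent.CubeLib
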