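import Groth.Agent.CubeLib.DeformBase

/-!
# The Čech cocycle of an infinitesimal deformation of a trivial invertible module on a product
-/

set_option autoImplicit false
set_option backward.isDefEq.respectTransparency.types false

universe u

open CategoryTheory CategoryTheory.Limits MonoidalCategory CartesianMonoidalCategory AlgebraicGeometry Opposite
  TopologicalSpace TensorProduct
open Groth.Agent.Coherent Groth.Agent.PicLib Groth.Agent.AmpleLib

namespace Groth.Agent.CubeLib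

variable {k : Type u} [Field k] {X Y Y₀ T T₀ : Over (Spec (CommRingCat.of k))} {ιX ιY : Type u}
  (U : ιX → X.left.Opens) (W : ιY → Y.left.Opens) (j : Y₀ ⟶ Y)

/-- Functions on the members of the cover. -/
abbrev cech0 : Type u := ∀ a, Γ(X.left, U a)

/-- Functions on the double intersections. -/
abbrev cech1 : Type u := ∀ aa : ιX × ιX, Γ(X.left, U aa.1 ⊓ U aa.2)

/-- Functions on the triple intersections. -/
abbrev cech2 : Type u := ∀ t : ιX × ιX × ιX, Γ(X.left, U t.1 ⊓ U t.2.1 ⊓ U t.2.2)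

/-- Functions vanishing on `Y₀` on the members of the cover. -/
abbrev kerCech0 : Type u := ∀ b, Ker j (W b)

/-- Functions vanishing on `Y₀` on the double intersections. -/
abbrev kerCech1 : Type u := ∀ bb : ιY × ιY, Ker j (W bb.1 ⊓ W bb.2)

noncomputable def cechD : cech0 U →ₗ[k] cech1 U :=
  LinearMap.pi fun aa => (resₐ inf_le_right).toLinearMap ∘ₗ LinearMap.proj aa.2 -
    (resₐ inf_le_left).toLinearMap ∘ₗ LinearMap.proj aa.1

noncomputable def cechD' : cech1 U →ₗ[k] cech2 U :=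
  LinearMap.pi fun t =>
    (resₐ (le_inf (inf_le_left.trans inf_le_right) inf_le_right)).toLinearMap ∘ₗ LinearMap.proj (t.2.1, t.2.2) -
      (resₐ (le_inf (inf_le_left.trans inf_le_left) inf_le_right)).toLinearMap ∘ₗ LinearMap.proj (t.1, t.2.2) +
      (resₐ inf_le_left).toLinearMap ∘ₗ LinearMap.proj (t.1, t.2.1)

noncomputable def kerCechD : kerCech0 W j →ₗ[k] kerCech1 W j :=
  LinearMap.pi fun bb => kerRes j inf_le_right ∘ₗ LinearMap.proj bb.2 - kerRes j inf_le_left ∘ₗ LinearMap.proj bb.1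

theorem cechD_apply (f : cech0 U) (aa : ιX × ιX) :
    cechD U f aa = resₐ inf_le_right (f aa.2) - resₐ inf_le_left (f aa.1) := rfl

theorem kerCechD_apply (f : kerCech0 W j) (bb : ιY × ιY) :
    kerCechD W j f bb = kerRes j inf_le_right (f bb.2) - kerRes j inf_le_left (f bb.1) := rfl

theorem map_sub_left_apply {A B C D : Type*} [AddCommGroup A] [Module k A] [AddCommGroup B] [Module k B] [AddCommGroup C]
    [Module k C] [AddCommGroup D] [Module k D] (f g : A →ₗ[k] B) (h : C →ₗ[k] D) (x : A ⊗[k] C) :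
    TensorProduct.map (f - g) h x = TensorProduct.map f h x - TensorProduct.map g h x := by
  induction x using TensorProduct.induction_on with
  | zero => simp
  | add a b ha hb => simp only [map_add, ha, hb]; abel
  | tmul a b => simp [TensorProduct.sub_tmul]

theorem map_sub_right_apply {A B C D : Type*} [AddCommGroup A] [Module k A] [AddCommGroup B] [Module k B] [AddCommGroup C]
    [Module k C] [AddCommGroup D] [Module k D] (f : A →ₗ[k] B) (g h : C →ₗ[k] D) (x : A ⊗[k] C) :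
    TensorProduct.map f (g - h) x = TensorProduct.map f g x - TensorProduct.map f h x := by
  induction x using TensorProduct.induction_on with
  | zero => simp
  | add a b ha hb => simp only [map_add, ha, hb]; abel
  | tmul a b => simp [TensorProduct.tmul_sub]

theorem cechD'_comp_cechD : cechD' U ∘ₗ cechD U = 0 := by
  refine LinearMap.ext fun f => funext fun t => ?_
  simp only [cechD, cechD', LinearMap.comp_apply, LinearMap.pi_apply, LinearMap.sub_apply, LinearMap.add_apply,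
    LinearMap.coe_proj, Function.eval, AlgHom.toLinearMap_apply, LinearMap.zero_apply, Pi.zero_apply, map_sub,
    resₐ_resₐ]
  ring

/-- Constants are the kernel of the first differential, if they are the global functions. -/
theorem exact_cechD (hU : ⊤ ≤ iSup U) (hX : Function.Bijective (algebraMap k Γ(X.left, ⊤))) :
    Function.Exact (LinearMap.pi fun a => Algebra.linearMap k Γ(X.left, U a)) (cechD U) := fun f => by
  constructor
  · intro h
    obtain ⟨g, hg⟩ := exists_glue_functions U ⊤ (fun _ => le_top) hU f (fun a a' => by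
      have h' := sub_eq_zero.1 (congrFun h (a, a'))
      simp only [LinearMap.comp_apply, LinearMap.coe_proj, Function.eval, AlgHom.toLinearMap_apply, resₐ_apply] at h'
      exact h'.symm)
    obtain ⟨r, rfl⟩ := hX.2 g
    refine ⟨r, funext fun a => ?_⟩
    show algebraMap k _ r = f a
    rw [← hg a, ← resₐ_apply, AlgHom.commutes]
  · rintro ⟨r, rfl⟩
    refine funext fun aa => ?_
    rw [cechD_apply]
    simp [AlgHom.commutes]

/-- Functions on the base vanishing on `T₀` are the kernel of the differential along the second factor. -/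
theorem exact_kerCechD {i : T₀ ⟶ T} (y : T ⟶ Y) (y₀ : T₀ ⟶ Y₀) (hy₀ : y₀ ≫ j = i ≫ y) (π : Y ⟶ T) (π₀ : Y₀ ⟶ T₀)
    (hπ₀ : π₀ ≫ i = j ≫ π) (hyπ : y ≫ π = 𝟙 T) (hW : ⊤ ≤ iSup W) (hπ : Function.Bijective π.left.appTop) :
    Function.Exact (LinearMap.pi fun b => kerMap (W := (⊤ : T.left.Opens)) (W' := W b) π π₀ hπ₀ le_top)
      (kerCechD W j) := fun f => by
  constructor
  · intro h
    obtain ⟨g, hg⟩ := exists_glue_functions W ⊤ (fun _ => le_top) hW (fun b => (f b : Γ(Y.left, W b)))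
      (fun b b' => by
        have h' := congrArg Subtype.val (sub_eq_zero.1 (congrFun h (b, b')))
        simp only [LinearMap.comp_apply, LinearMap.coe_proj, Function.eval, coe_kerRes, resₐ_apply] at h'
        exact h'.symm)
    have hgK : g ∈ Ker j ⊤ := by
      rw [mem_Ker]
      refine eq_of_locally (fun b => j.left ⁻¹ᵁ W b) _ (fun b => (Opens.map j.left.base).monotone le_top)
        (fun z _ => Opens.mem_iSup.2 ((Opens.mem_iSup.1 (hW (Set.mem_univ (j.left.base z)))).imp fun _ h => h)) fun b => ?_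
      rw [map_zero]
      refine Eq.trans ?_ ((mem_Ker j (W b) _).1 (f b).2)
      rw [← hg b]
      exact (congr($(j.left.naturality (homOfLE (le_top (a := W b))).op) g)).symm
    obtain ⟨t, rfl⟩ := hπ.2 g
    have htK : t ∈ Ker i ⊤ := by
      have h2 := appLE_mem_Ker y y₀ hy₀ (W := ⊤) (W' := ⊤) le_top hgK
      have e : appLEₐ y ⊤ ⊤ le_top (π.left.appTop t) = t := by
        have hπ' : π.left.appTop t = appLEₐ π ⊤ ⊤ le_top t := by
          rw [appLEₐ_apply]; simp [Scheme.Hom.appLE, Scheme.Hom.appTop]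
        rw [hπ', appLEₐ_comp _ _ _ _ _ _ _ (by exact le_top)]
        refine Eq.trans ?_ (resₐ_self (X := T) (le_refl ⊤) t)
        congr 2
      rwa [e] at h2
    refine ⟨⟨t, htK⟩, funext fun b => Subtype.ext ?_⟩
    show appLEₐ π ⊤ (W b) le_top t = f b
    rw [← hg b, appLEₐ_apply]
    rfl
  · rintro ⟨r, rfl⟩
    refine funext fun bb => Subtype.ext ?_
    rw [kerCechD_apply]
    simp only [LinearMap.pi_apply, AddSubgroupClass.coe_sub, coe_kerRes, coe_kerMap, resₐ_appLEₐ, sub_self,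
      Pi.zero_apply, ZeroMemClass.coe_zero]

/-- Lifts of a trivialisation to the boxes, with their transition functions. -/
structure Lifts (L : (X ⊗ Y).left.Modules) where
  affX : ∀ a, IsAffineOpen (U a)
  affY : ∀ b, IsAffineOpen (W b)
  e : ∀ p : ιX × ιY, Γ(L, box (U p.1) (W p.2))
  gen : ∀ p, IsGen L (box (U p.1) (W p.2)) (e p)
  trans : ∀ (p q : ιX × ιY) (U' : X.left.Opens) (W' : Y.left.Opens) (_ : IsAffineOpen U') (_ : IsAffineOpen W')
    (h₁ : U' ≤ U p.1) (h₂ : W' ≤ W p.2) (h₃ : U' ≤ U q.1) (h₄ : W' ≤ W q.2),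
    ∃ γ : Γ(X.left, U') ⊗[k] Ker j W',
      resM L (box_mono h₁ h₂) (e p) = (1 + kerBox j U' W' γ) • resM L (box_mono h₃ h₄) (e q)

/-- Lifts exist, for a module trivial on `X × Y₀`. -/
theorem exists_lifts [IsSeparated X.hom] [IsSeparated Y.hom] [IsClosedImmersion j.left]
    [IsClosedImmersion (X ◁ j).left] [Surjective (X ◁ j).left]
    {L : (X ⊗ Y).left.Modules} (hL : PicF.IsInvertible L) (hU : ∀ a, IsAffineOpen (U a)) (hW : ∀ b, IsAffineOpen (W b))
    {t : Γ((Scheme.Modules.pullback (X ◁ j).left).obj L, ⊤)} (ht : IsGen _ ⊤ t) :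
    Nonempty (Lifts U W j L) := by
  have : Coh.IsQCoh L := isQCoh_of_isInvertible hL
  choose e he using fun p : ιX × ιY =>
    surjective_pullSec (X ◁ j).left (L := L) (isAffineOpen_box (hU p.1) (hW p.2)) (resM _ le_top t)
  have hgen : ∀ p, IsGen L (box (U p.1) (W p.2)) (e p) := fun p =>
    isGen_of_pullSec (X ◁ j).left hL (by rw [he]; exact ht.restrict _)
  refine ⟨⟨hU, hW, e, hgen, fun p q U' W' hU' hW' h₁ h₂ h₃ h₄ => ?_⟩⟩
  have hg := (hgen q).restrict (box_mono h₃ h₄)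
  have hc := hg.coef_spec le_rfl (resM L (box_mono h₁ h₂) (e p))
  rw [resM_self] at hc
  generalize hg.coef le_rfl (resM L (box_mono h₁ h₂) (e p)) = c at hc
  have h := congrArg (pullSec (X ◁ j).left) hc
  rw [pullSec_smul, ← resM_pullSec, ← resM_pullSec, he, he, resM_resM, resM_resM] at h
  have hc1 : (X ◁ j).left.app (box U' W') c = 1 := by
    refine (ht _ le_top).1 ?_
    show _ • _ = (1 : Γ((X ⊗ Y₀).left, _)) • _
    rw [one_smul]
    exact h
  obtain ⟨γ, hγ⟩ := exists_kerBox j hU' hW' (r := c - 1) (by rw [map_sub, hc1, map_one, sub_self])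
  exact ⟨γ, by rw [hγ, add_sub_cancel, hc]⟩

namespace Lifts

variable {U W j} {L : (X ⊗ Y).left.Modules} (Λ : Lifts U W j L)

/-- The transition function on an affine box. -/
noncomputable def γ (p q : ιX × ιY) {U' : X.left.Opens} {W' : Y.left.Opens} (hU' : IsAffineOpen U')
    (hW' : IsAffineOpen W') (h₁ : U' ≤ U p.1) (h₂ : W' ≤ W p.2) (h₃ : U' ≤ U q.1) (h₄ : W' ≤ W q.2) :
    Γ(X.left, U') ⊗[k] Ker j W' :=
  (Λ.trans p q U' W' hU' hW' h₁ h₂ h₃ h₄).choose

variable (p q r : ιX × ιY) {U' : X.left.Opens} {W' : Y.left.Opens} (hU' : IsAffineOpen U') (hW' : IsAffineOpen W')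

theorem γ_spec (h₁ : U' ≤ U p.1) (h₂ : W' ≤ W p.2) (h₃ : U' ≤ U q.1) (h₄ : W' ≤ W q.2) :
    resM L (box_mono h₁ h₂) (Λ.e p) = (1 + kerBox j U' W' (Λ.γ p q hU' hW' h₁ h₂ h₃ h₄)) • resM L (box_mono h₃ h₄) (Λ.e q) :=
  (Λ.trans p q U' W' hU' hW' h₁ h₂ h₃ h₄).choose_spec

include hU' hW' in
theorem γ_unique (h₃ : U' ≤ U q.1) (h₄ : W' ≤ W q.2) {s s' : Γ(X.left, U') ⊗[k] Ker j W'}
    (h : (1 + kerBox j U' W' s) • resM L (box_mono h₃ h₄) (Λ.e q) =
      (1 + kerBox j U' W' s') • resM L (box_mono h₃ h₄) (Λ.e q)) : s = s' := by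
  refine kerBox_injective j hU' hW' (add_left_cancel (a := (1 : Γ((X ⊗ Y).left, box U' W'))) ?_)
  refine ((Λ.gen q).restrict (box_mono h₃ h₄) _ le_rfl).1 ?_
  simpa only [resM_self] using h

theorem γ_add (hsq : ∀ (W : Y.left.Opens) (a b : Γ(Y.left, W)), a ∈ Ker j W → b ∈ Ker j W → a * b = 0)
    (h₁ : U' ≤ U p.1) (h₂ : W' ≤ W p.2) (h₃ : U' ≤ U q.1) (h₄ : W' ≤ W q.2) (h₅ : U' ≤ U r.1) (h₆ : W' ≤ W r.2) :
    Λ.γ p r hU' hW' h₁ h₂ h₅ h₆ = Λ.γ p q hU' hW' h₁ h₂ h₃ h₄ + Λ.γ q r hU' hW' h₃ h₄ h₅ h₆ := by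
  refine Λ.γ_unique r hU' hW' h₅ h₆ ?_
  rw [← Λ.γ_spec p r hU' hW' h₁ h₂ h₅ h₆, Λ.γ_spec p q hU' hW' h₁ h₂ h₃ h₄, Λ.γ_spec q r hU' hW' h₃ h₄ h₅ h₆,
    smul_smul, map_add]
  congr 1
  linear_combination kerBox_mul j hsq (Λ.γ p q hU' hW' h₁ h₂ h₃ h₄) (Λ.γ q r hU' hW' h₃ h₄ h₅ h₆)

theorem γ_res {U'' : X.left.Opens} {W'' : Y.left.Opens} (hU'' : IsAffineOpen U'') (hW'' : IsAffineOpen W'')
    (hu : U'' ≤ U') (hw : W'' ≤ W') (h₁ : U' ≤ U p.1) (h₂ : W' ≤ W p.2) (h₃ : U' ≤ U q.1) (h₄ : W' ≤ W q.2) :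
    TensorProduct.map (resₐ hu).toLinearMap (kerRes j hw) (Λ.γ p q hU' hW' h₁ h₂ h₃ h₄) =
      Λ.γ p q hU'' hW'' (hu.trans h₁) (hw.trans h₂) (hu.trans h₃) (hw.trans h₄) := by
  refine Λ.γ_unique q hU'' hW'' (hu.trans h₃) (hw.trans h₄) ?_
  rw [← Λ.γ_spec p q hU'' hW'' (hu.trans h₁) (hw.trans h₂) (hu.trans h₃) (hw.trans h₄)]
  have h := congrArg (resM L (box_mono hu hw)) (Λ.γ_spec p q hU' hW' h₁ h₂ h₃ h₄)
  rw [resM_smul, resM_resM, resM_resM, ← resₐ_apply, map_add, map_one, kerBox_res j hu hw] at h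
  exact h.symm

/-- `γ` along the second factor, inside a fixed member of the cover of `X`. -/
noncomputable def q₁ [IsSeparated Y.hom] (a : ιX) (bb : ιY × ιY) : Γ(X.left, U a) ⊗[k] Ker j (W bb.1 ⊓ W bb.2) :=
  Λ.γ (a, bb.1) (a, bb.2) (Λ.affX a) (isAffineOpen_inf_sec Y (Λ.affY bb.1) (Λ.affY bb.2)) le_rfl inf_le_left le_rfl
    inf_le_right

/-- `γ` along the first factor, inside a fixed member of the cover of `Y`. -/
noncomputable def p₁ [IsSeparated X.hom] (aa : ιX × ιX) (b : ιY) : Γ(X.left, U aa.1 ⊓ U aa.2) ⊗[k] Ker j (W b) :=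
  Λ.γ (aa.1, b) (aa.2, b) (isAffineOpen_inf_sec X (Λ.affX aa.1) (Λ.affX aa.2)) (Λ.affY b) inf_le_left le_rfl
    inf_le_right le_rfl

/-- The obstruction cocycle. -/
theorem exists_cocycle [IsSeparated X.hom] [IsSeparated Y.hom] [Finite ιX] [Finite ιY]
    (hsq : ∀ (W : Y.left.Opens) (a b : Γ(Y.left, W)), a ∈ Ker j W → b ∈ Ker j W → a * b = 0) :
    ∃ (p : cech1 U ⊗[k] kerCech0 W j) (q : cech0 U ⊗[k] kerCech1 W j),
      (∀ aa b, TensorProduct.map (LinearMap.proj aa) (LinearMap.proj b) p = Λ.p₁ aa b) ∧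
      (∀ a bb, TensorProduct.map (LinearMap.proj a) (LinearMap.proj bb) q = Λ.q₁ a bb) ∧
      (cechD' U).rTensor _ p = 0 ∧ (kerCechD W j).lTensor _ p = (cechD U).rTensor _ q := by
  obtain ⟨p, hp⟩ := (bijective_tensorPi (k := k) (fun aa : ιX × ιX => Γ(X.left, U aa.1 ⊓ U aa.2))
    (fun b => Ker j (W b))).2 fun s => Λ.p₁ s.1 s.2
  obtain ⟨q, hq⟩ := (bijective_tensorPi (k := k) (fun a => Γ(X.left, U a))
    (fun bb : ιY × ιY => Ker j (W bb.1 ⊓ W bb.2))).2 fun s => Λ.q₁ s.1 s.2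
  have hp' : ∀ aa b, TensorProduct.map (LinearMap.proj aa) (LinearMap.proj b) p = Λ.p₁ aa b :=
    fun aa b => congrFun hp (aa, b)
  have hq' : ∀ a bb, TensorProduct.map (LinearMap.proj a) (LinearMap.proj bb) q = Λ.q₁ a bb :=
    fun a bb => congrFun hq (a, bb)
  refine ⟨p, q, hp', hq', ?_, ?_⟩
  · refine (bijective_tensorPi (k := k) (fun t : ιX × ιX × ιX => Γ(X.left, U t.1 ⊓ U t.2.1 ⊓ U t.2.2))
      (fun b => Ker j (W b))).1 (funext fun s => ?_)
    simp only [map_zero]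
    obtain ⟨⟨a, a', a''⟩, b⟩ := s
    have hU₃ : IsAffineOpen (U a ⊓ U a' ⊓ U a'') :=
      isAffineOpen_inf_sec X (isAffineOpen_inf_sec X (Λ.affX a) (Λ.affX a')) (Λ.affX a'')
    rw [← LinearMap.comp_apply, LinearMap.map_comp_rTensor]
    simp only [cechD', LinearMap.proj_pi]
    rw [TensorProduct.map_add_left]
    have key : ∀ (aa : ιX × ιX) (h : U a ⊓ U a' ⊓ U a'' ≤ U aa.1 ⊓ U aa.2),
        TensorProduct.map ((resₐ h).toLinearMap ∘ₗ LinearMap.proj aa) (LinearMap.proj b) p =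
          Λ.γ (aa.1, b) (aa.2, b) hU₃ (Λ.affY b) (h.trans inf_le_left) le_rfl (h.trans inf_le_right) le_rfl := by
      intro aa h
      have h2 : TensorProduct.map (resₐ h).toLinearMap (kerRes j le_rfl) (Λ.p₁ aa b) =
          Λ.γ (aa.1, b) (aa.2, b) hU₃ (Λ.affY b) (h.trans inf_le_left) le_rfl (h.trans inf_le_right) le_rfl :=
        Λ.γ_res (aa.1, b) (aa.2, b) _ _ hU₃ (Λ.affY b) h le_rfl _ _ _ _
      rw [← h2, ← hp' aa b, ← LinearMap.comp_apply, ← TensorProduct.map_comp]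
      congr 2
      exact LinearMap.ext fun z => Subtype.ext (resₐ_self le_rfl _).symm
    simp only [LinearMap.add_apply, map_sub_left_apply]
    rw [key (a', a'') _, key (a, a'') _, key (a, a') _,
      Λ.γ_add (a, b) (a', b) (a'', b) hU₃ (Λ.affY b) hsq (inf_le_left.trans inf_le_left) le_rfl
      (inf_le_left.trans inf_le_right) le_rfl inf_le_right le_rfl]
    abel
  · refine (bijective_tensorPi (k := k) (fun aa : ιX × ιX => Γ(X.left, U aa.1 ⊓ U aa.2))
      (fun bb : ιY × ιY => Ker j (W bb.1 ⊓ W bb.2))).1 (funext fun s => ?_)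
    obtain ⟨⟨a, a'⟩, b, b'⟩ := s
    have hU₂ := isAffineOpen_inf_sec X (Λ.affX a) (Λ.affX a')
    have hW₂ := isAffineOpen_inf_sec Y (Λ.affY b) (Λ.affY b')
    simp only
    rw [← LinearMap.comp_apply, ← LinearMap.comp_apply (TensorProduct.map _ _), LinearMap.map_comp_lTensor,
      LinearMap.map_comp_rTensor]
    simp only [cechD, kerCechD, LinearMap.proj_pi]
    have keyp : ∀ (b₁ : ιY) (h : W b ⊓ W b' ≤ W b₁),
        TensorProduct.map (LinearMap.proj (a, a')) (kerRes j h ∘ₗ LinearMap.proj b₁) p =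
          Λ.γ (a, b₁) (a', b₁) hU₂ hW₂ inf_le_left h inf_le_right h := by
      intro b₁ h
      have h2 : TensorProduct.map (resₐ le_rfl).toLinearMap (kerRes j h) (Λ.p₁ (a, a') b₁) =
          Λ.γ (a, b₁) (a', b₁) hU₂ hW₂ inf_le_left h inf_le_right h :=
        Λ.γ_res (a, b₁) (a', b₁) _ _ hU₂ hW₂ le_rfl h _ _ _ _
      rw [← h2, ← hp' (a, a') b₁, ← LinearMap.comp_apply, ← TensorProduct.map_comp]
      congr 2
      exact LinearMap.ext fun z => (resₐ_self le_rfl _).symm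
    have keyq : ∀ (a₁ : ιX) (h : U a ⊓ U a' ≤ U a₁),
        TensorProduct.map ((resₐ h).toLinearMap ∘ₗ LinearMap.proj a₁) (LinearMap.proj (b, b')) q =
          Λ.γ (a₁, b) (a₁, b') hU₂ hW₂ h inf_le_left h inf_le_right := by
      intro a₁ h
      have h2 : TensorProduct.map (resₐ h).toLinearMap (kerRes j le_rfl) (Λ.q₁ a₁ (b, b')) =
          Λ.γ (a₁, b) (a₁, b') hU₂ hW₂ h inf_le_left h inf_le_right :=
        Λ.γ_res (a₁, b) (a₁, b') _ _ hU₂ hW₂ h le_rfl _ _ _ _
      rw [← h2, ← hq' a₁ (b, b'), ← LinearMap.comp_apply, ← TensorProduct.map_comp]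
      congr 2
      exact LinearMap.ext fun z => Subtype.ext (resₐ_self le_rfl _).symm
    rw [map_sub_left_apply, map_sub_right_apply]
    rw [keyp b' inf_le_right, keyp b inf_le_left, keyq a' inf_le_right, keyq a inf_le_left]
    have e1 := Λ.γ_add (a, b) (a', b) (a', b') hU₂ hW₂ hsq inf_le_left inf_le_left inf_le_right inf_le_left
      inf_le_right inf_le_right
    have e2 := Λ.γ_add (a, b) (a, b') (a', b') hU₂ hW₂ hsq inf_le_left inf_le_left inf_le_left inf_le_right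
      inf_le_right inf_le_right
    rw [sub_eq_sub_iff_add_eq_add, add_comm, ← e2, e1, add_comm]

end Lifts

end Groth.Agent.CubeLib
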