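import Groth.Agent.CubeLib.Deform
import Groth.Agent.CubeLib.GlobalSec
import Groth.Agent.FSchLib.Systems

/-!
# Triviality on all infinitesimal neighbourhoods
-/

set_option autoImplicit false
set_option backward.isDefEq.respectTransparency.types false

universe u

open CategoryTheory CategoryTheory.Limits MonoidalCategory CartesianMonoidalCategory AlgebraicGeometry Opposite
  TopologicalSpace
open Groth.Agent.PicLib

namespace Groth.Agent.CubeLib

variable {k : Type u} [Field k]

theorem isPullback_whiskerLeft (X : Over (Spec (CommRingCat.of k))) {T₀ T : Over (Spec (CommRingCat.of k))} (i : T₀ ⟶ T) :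
    IsPullback (X ◁ i).left (snd X T₀).left (snd X T).left i.left := by
  have H : IsPullback (fst X T).left (snd X T).left X.hom T.hom := IsPullback.of_hasPullback X.hom T.hom
  have H₀ : IsPullback (fst X T₀).left (snd X T₀).left X.hom T₀.hom := IsPullback.of_hasPullback X.hom T₀.hom
  refine IsPullback.of_right (h₁₂ := (fst X T).left) (v₁₃ := X.hom) (h₂₂ := T.hom) ?_ ?_ H
  · rw [← Over.comp_left, whiskerLeft_fst, Over.w i]
    exact H₀
  · rw [← Over.comp_left, ← Over.comp_left, whiskerLeft_snd]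

theorem isClosedImmersion_whisker (X : Over (Spec (CommRingCat.of k))) {T₀ T : Over (Spec (CommRingCat.of k))}
    (i : T₀ ⟶ T) [IsClosedImmersion i.left] : IsClosedImmersion (X ◁ i).left :=
  MorphismProperty.of_isPullback (isPullback_whiskerLeft X i).flip inferInstance

theorem surjective_whisker (X : Over (Spec (CommRingCat.of k))) {T₀ T : Over (Spec (CommRingCat.of k))}
    (i : T₀ ⟶ T) [Surjective i.left] : Surjective (X ◁ i).left :=
  MorphismProperty.of_isPullback (isPullback_whiskerLeft X i).flip inferInstance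

/-- Square zero closed immersions are stable under base change. -/
theorem mul_eq_zero_of_isPullback {P₀ P T₀ T : Scheme.{u}} [IsAffine T] {iX : P₀ ⟶ P} {p₀ : P₀ ⟶ T₀} {f : P ⟶ T}
    {iY : T₀ ⟶ T} (H : IsPullback iX p₀ f iY) [IsClosedImmersion iY]
    (h : ∀ a b : Γ(T, ⊤), iY.appTop a = 0 → iY.appTop b = 0 → a * b = 0)
    (W : P.Opens) (a b : Γ(P, W)) (ha : iX.app W a = 0) (hb : iX.app W b = 0) : a * b = 0 := by
  have : IsClosedImmersion iX := MorphismProperty.of_isPullback H.flip inferInstance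
  let V : {V : P.affineOpens // V.1 ≤ W} → P.Opens := fun V => V.1.1
  refine TopCat.Sheaf.eq_of_locally_eq' P.sheaf V W (fun V => homOfLE V.2) (fun x hx => by
    obtain ⟨V, hV, hxV, hVW⟩ := exists_isAffineOpen_mem_and_subset (x := x) (U := W) hx
    exact Opens.mem_iSup.2 ⟨⟨⟨V, hV⟩, hVW⟩, hxV⟩) _ _ fun V => ?_
  show P.presheaf.map (homOfLE V.2).op (a * b) = P.presheaf.map (homOfLE V.2).op 0
  rw [map_mul, map_zero]
  have hmem : ∀ c : Γ(P, W), iX.app W c = 0 → P.presheaf.map (homOfLE V.2).op c ∈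
      (iY.ker.ideal ⟨⊤, isAffineOpen_top T⟩).map (f.appLE ⊤ V.1.1 le_top).hom := fun c hc => by
    rw [← FSchLib.ideal_comap_eq_map f _ V.1 ⟨⊤, isAffineOpen_top T⟩ le_top, ← FSchLib.ker_of_isPullback H,
      Scheme.Hom.ker_apply, RingHom.mem_ker]
    exact (congr($(iX.naturality (homOfLE V.2).op) c)).trans ((congrArg (P₀.presheaf.map _).hom hc).trans (map_zero (P₀.presheaf.map _).hom))
  have hK : iY.ker.ideal ⟨⊤, isAffineOpen_top T⟩ * iY.ker.ideal ⟨⊤, isAffineOpen_top T⟩ = ⊥ := by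
    refine le_antisymm (Ideal.mul_le.2 fun x hx y hy => ?_) bot_le
    rw [Scheme.Hom.ker_apply, RingHom.mem_ker] at hx hy
    exact h x y hx hy
  have := Ideal.mul_mem_mul (hmem a ha) (hmem b hb)
  rw [← Ideal.map_mul, hK, Ideal.map_bot] at this
  exact this

variable (B : Type u) [CommRing B] (I : Ideal B) [I.IsMaximal] (s : Spec (CommRingCat.of B) ⟶ Spec (CommRingCat.of k))

/-- The `n`-th neighbourhood. -/
noncomputable def nbhd (n : ℕ) : Over (Spec (CommRingCat.of k)) :=
  Over.mk (Spec.map (CommRingCat.ofHom (Ideal.Quotient.mk (I ^ (n + 1)))) ≫ s)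

/-- Inclusion of the neighbourhood. -/
noncomputable def nbhdIncl (n : ℕ) : nbhd B I s n ⟶ Over.mk s :=
  Over.homMk (Spec.map (CommRingCat.ofHom (Ideal.Quotient.mk (I ^ (n + 1))))) rfl

/-- Inclusion of consecutive neighbourhoods. -/
noncomputable def nbhdStep (n : ℕ) : nbhd B I s n ⟶ nbhd B I s (n + 1) :=
  Over.homMk (Spec.map (CommRingCat.ofHom (Ideal.Quotient.factor (Ideal.pow_le_pow_right (Nat.le_succ (n + 1)))))) (by
    refine (Category.assoc _ _ _).symm.trans (congrArg (· ≫ s) ?_)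
    refine (Spec.map_comp _ _).symm.trans (congrArg Spec.map ?_)
    rw [← CommRingCat.ofHom_comp, Ideal.Quotient.factor_comp_mk])

theorem nbhdStep_incl (n : ℕ) : nbhdStep B I s n ≫ nbhdIncl B I s (n + 1) = nbhdIncl B I s n := by
  refine Over.OverMorphism.ext ?_
  refine (Spec.map_comp _ _).symm.trans (congrArg Spec.map ?_)
  rw [← CommRingCat.ofHom_comp, Ideal.Quotient.factor_comp_mk]

theorem isClosedImmersion_nbhdStep (n : ℕ) : IsClosedImmersion (nbhdStep B I s n).left :=
  IsClosedImmersion.spec_of_surjective _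
    (Ideal.Quotient.factor_surjective (Ideal.pow_le_pow_right (I := I) (Nat.le_succ (n + 1))))

theorem nbhd_subsingleton (n : ℕ) : Subsingleton (nbhd B I s n).left ∧ Nonempty (nbhd B I s n).left := by
  constructor
  · refine ⟨fun p q => ?_⟩
    let c := PrimeSpectrum.comap (Ideal.Quotient.mk (I ^ (n + 1)))
    refine PrimeSpectrum.comap_injective_of_surjective _ Ideal.Quotient.mk_surjective ?_
    have : ∀ r : PrimeSpectrum (B ⧸ I ^ (n + 1)), (c r).asIdeal = I := fun r => by
      refine ((Ideal.IsMaximal.eq_of_le ‹I.IsMaximal› (c r).isPrime.ne_top fun x hx => ?_)).symm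
      refine (c r).isPrime.mem_of_pow_mem (n + 1) ?_
      show Ideal.Quotient.mk (I ^ (n + 1)) (x ^ (n + 1)) ∈ r.asIdeal
      rw [Ideal.Quotient.eq_zero_iff_mem.2 (Ideal.pow_mem_pow hx _)]
      exact zero_mem _
    exact PrimeSpectrum.ext ((this p).trans (this q).symm)
  · have : Nontrivial (B ⧸ I ^ (n + 1)) := Ideal.Quotient.nontrivial_iff.2 fun h =>
      ‹I.IsMaximal›.ne_top (top_le_iff.1 (h.ge.trans (Ideal.pow_le_self (Nat.succ_ne_zero n))))
    exact inferInstanceAs (Nonempty (PrimeSpectrum (B ⧸ I ^ (n + 1))))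

variable {X Y : Over (Spec (CommRingCat.of k))} [IsSeparated X.hom] [IsSeparated Y.hom] [CompactSpace X.left]
  [CompactSpace Y.left] [QuasiSeparatedSpace X.left] [QuasiSeparatedSpace Y.left]

/-- A module trivial over the closed point and on the axes is trivial over all its infinitesimal neighbourhoods. -/
theorem pull_nbhd_eq_one (hX : Function.Bijective X.hom.appTop) (hY : Function.Bijective Y.hom.appTop)
    (x₀ : 𝟙_ (Over (Spec (CommRingCat.of k))) ⟶ X) (y₀ : 𝟙_ (Over (Spec (CommRingCat.of k))) ⟶ Y)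
    (a : PicM (X ⊗ (Y ⊗ Over.mk s)).left)
    (h0 : PicM.pull (X ◁ (Y ◁ nbhdIncl B I s 0)).left a = 1)
    (hx : PicM.pull (lift (toUnit (Y ⊗ Over.mk s) ≫ x₀) (𝟙 (Y ⊗ Over.mk s))).left a = 1)
    (hy : PicM.pull (X ◁ lift (toUnit (Over.mk s) ≫ y₀) (𝟙 (Over.mk s))).left a = 1) :
    ∀ n, PicM.pull (X ◁ (Y ◁ nbhdIncl B I s n)).left a = 1 := by
  intro n
  induction n with
  | zero => exact h0
  | succ n ih =>
    let T := nbhd B I s (n + 1)
    let T₀ := nbhd B I s n
    let i : T₀ ⟶ T := nbhdStep B I s n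
    let ι : T ⟶ Over.mk s := nbhdIncl B I s (n + 1)
    have : IsClosedImmersion i.left := isClosedImmersion_nbhdStep B I s n
    have : Subsingleton T.left := (nbhd_subsingleton B I s (n + 1)).1
    have : Nonempty T.left := (nbhd_subsingleton B I s (n + 1)).2
    let _ : Unique T.left := uniqueOfSubsingleton (Classical.arbitrary _)
    have : IsAffine T.left := inferInstanceAs (IsAffine (Spec _))
    have : Surjective i.left := ⟨fun p => ⟨(nbhd_subsingleton B I s n).2.some, Subsingleton.elim _ _⟩⟩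
    have := isClosedImmersion_whisker Y i
    have := surjective_whisker Y i
    have := isClosedImmersion_whisker X (Y ◁ i)
    have := surjective_whisker X (Y ◁ i)
    have hTs : IsSeparated T.hom := inferInstance
    have : IsSeparated (Y ⊗ T).hom := by
      rw [show (Y ⊗ T).hom = (snd Y T).left ≫ T.hom from (Over.w (snd Y T)).symm]
      have : IsSeparated (snd Y T).left :=
        MorphismProperty.of_isPullback (IsPullback.of_hasPullback Y.hom T.hom) (inferInstanceAs (IsSeparated Y.hom))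
      infer_instance
    have : CompactSpace (Y ⊗ T).left := by
      have : QuasiCompact Y.hom := inferInstance
      have : QuasiCompact (snd Y T).left :=
        MorphismProperty.of_isPullback (IsPullback.of_hasPullback Y.hom T.hom) (inferInstanceAs (QuasiCompact Y.hom))
      exact QuasiCompact.compactSpace_of_compactSpace (snd Y T).left
    obtain ⟨L, hL, hLeq⟩ := PicM.exists_eq_of (PicM.pull (X ◁ (Y ◁ ι)).left a)
    rw [show nbhdIncl B I s (n + 1) = ι from rfl, hLeq]
    have hcomp : ∀ {R : Over (Spec (CommRingCat.of k))} (g : R ⟶ X ⊗ (Y ⊗ T)),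
        PicM.pull g.left (PicM.of hL) = PicM.pull (g ≫ (X ◁ (Y ◁ ι))).left a := fun g => by
      rw [← hLeq, PicM.pull_pull, Over.comp_left]
    -- square zero
    have hI : ∀ a b : Γ(T.left, ⊤), i.left.appTop a = 0 → i.left.appTop b = 0 → a * b = 0 := by
      intro a b ha hb
      obtain ⟨a, rfl⟩ := (ConcreteCategory.bijective_of_isIso (Scheme.ΓSpecIso (CommRingCat.of (B ⧸ I ^ (n + 1 + 1)))).inv).2 a
      obtain ⟨b, rfl⟩ := (ConcreteCategory.bijective_of_isIso (Scheme.ΓSpecIso (CommRingCat.of (B ⧸ I ^ (n + 1 + 1)))).inv).2 b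
      have hz : ∀ c : B ⧸ I ^ (n + 1 + 1), i.left.appTop ((Scheme.ΓSpecIso (CommRingCat.of (B ⧸ I ^ (n + 1 + 1)))).inv c) = 0 →
          Ideal.Quotient.factor (Ideal.pow_le_pow_right (Nat.le_succ (n + 1))) c = 0 := by
        intro c hc
        refine (ConcreteCategory.bijective_of_isIso (Scheme.ΓSpecIso (CommRingCat.of (B ⧸ I ^ (n + 1)))).inv).1 ?_
        rw [map_zero]
        exact (congr($(Scheme.ΓSpecIso_inv_naturality (CommRingCat.ofHom
          (Ideal.Quotient.factor (Ideal.pow_le_pow_right (I := I) (Nat.le_succ (n + 1)))))) c)).trans hc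
      have ha' := hz a ha
      have hb' := hz b hb
      obtain ⟨a, rfl⟩ := Ideal.Quotient.mk_surjective a
      obtain ⟨b, rfl⟩ := Ideal.Quotient.mk_surjective b
      rw [Ideal.Quotient.factor_mk, Ideal.Quotient.eq_zero_iff_mem] at ha' hb'
      show (Scheme.ΓSpecIso (CommRingCat.of (B ⧸ I ^ (n + 1 + 1)))).inv (Ideal.Quotient.mk (I ^ (n + 1 + 1)) a) *
        (Scheme.ΓSpecIso (CommRingCat.of (B ⧸ I ^ (n + 1 + 1)))).inv (Ideal.Quotient.mk (I ^ (n + 1 + 1)) b) =
        (0 : Γ(Spec (CommRingCat.of (B ⧸ I ^ (n + 1 + 1))), ⊤))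
      rw [← map_mul, ← map_mul, Ideal.Quotient.eq_zero_iff_mem.2 (Ideal.pow_le_pow_right (show n + 1 + 1 ≤ (n + 1) + (n + 1) by omega)
        (pow_add I (n + 1) (n + 1) ▸ Ideal.mul_mem_mul ha' hb')), map_zero]
    refine eq_one_of_axes (Y ◁ i) i (lift (toUnit T ≫ y₀) (𝟙 T)) (lift (toUnit T₀ ≫ y₀) (𝟙 T₀))
      (by ext1 <;> simp) (snd Y T) (snd Y T₀) (whiskerLeft_snd Y i).symm (lift_snd _ _)
      (bijective_algebraMap_of_appTop hX) (bijective_snd_app Y T hY ⊤) ?_ ?_ ?_ ?_ x₀ hL ?_ ?_ ?_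
    · -- lifting functions from `Y × T₀`
      intro r
      obtain ⟨c, rfl⟩ := (bijective_snd_app Y T₀ hY ⊤).2 r
      obtain ⟨d, rfl⟩ := i.left.app_surjective ⊤ (isAffineOpen_top _) c
      exact ⟨(snd Y T).left.app ⊤ d, congr($(congrArg Scheme.Hom.appTop (congrArg Over.Hom.left (whiskerLeft_snd Y i))) d)⟩
    · intro r
      obtain ⟨c, rfl⟩ := (bijective_snd_app X T₀ hX ⊤).2 r
      obtain ⟨d, rfl⟩ := i.left.app_surjective ⊤ (isAffineOpen_top _) c
      exact ⟨(snd X T).left.app ⊤ d, congr($(congrArg Scheme.Hom.appTop (congrArg Over.Hom.left (whiskerLeft_snd X i))) d)⟩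
    · intro W a b ha hb
      exact mul_eq_zero_of_isPullback (isPullback_whiskerLeft Y i) hI W a b ((mem_Ker _ _ _).1 ha) ((mem_Ker _ _ _).1 hb)
    · intro W a b ha hb
      exact mul_eq_zero_of_isPullback (IsPullback.of_id_snd (f := i.left)) hI W a b ((mem_Ker _ _ _).1 ha) ((mem_Ker _ _ _).1 hb)
    · rw [hcomp, ← whiskerLeft_comp, ← whiskerLeft_comp, nbhdStep_incl]
      exact ih
    · rw [hcomp, show lift (toUnit (Y ⊗ T) ≫ x₀) (𝟙 _) ≫ X ◁ (Y ◁ ι) =
        (Y ◁ ι) ≫ lift (toUnit (Y ⊗ Over.mk s) ≫ x₀) (𝟙 _) by ext1 <;> simp, Over.comp_left, ← PicM.pull_pull, hx,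
        map_one]
    · rw [hcomp, ← whiskerLeft_comp, show lift (toUnit T ≫ y₀) (𝟙 T) ≫ Y ◁ ι =
        ι ≫ lift (toUnit (Over.mk s) ≫ y₀) (𝟙 _) by ext1 <;> simp, whiskerLeft_comp, Over.comp_left, ← PicM.pull_pull,
        hy, map_one]

end Groth.Agent.CubeLib
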