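import Groth.Agent.DimLib.Algebra
import Mathlib.RingTheory.IntegralClosure.GoingDown
import Mathlib.Algebra.MvPolynomial.Division
import Mathlib.RingTheory.Valuation.LocalSubring
import Mathlib.RingTheory.NoetherNormalization
import Mathlib.FieldTheory.AlgebraicClosure
import Mathlib.RingTheory.KrullDimension.Polynomial

/-!
# A curve through a rational point and a given generic point

For a domain `A` of finite type over an algebraically closed field `k`, a rational point `a` and an embedding
`ξ : A → Ω` into an algebraically closed field, there are an algebraically closed `F ⊆ Ω` and a finite type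
`F`-subalgebra `B ⊆ Ω` of dimension one containing `ξ(A)` with an `F`-point extending `a`.
-/

set_option autoImplicit false
set_option backward.isDefEq.respectTransparency.types false

universe u

open MvPolynomial

namespace Groth.Agent.CubeLib

/-- `Xᵢ ↦ Yᵢ Y₀` for `i ≠ i₀`. -/
noncomputable def blowSubst (k : Type u) [CommRing k] {n : ℕ} (i₀ : Fin n) :
    MvPolynomial (Fin n) k →ₐ[k] MvPolynomial (Fin n) k :=
  aeval fun i => if i = i₀ then X i₀ else X i * X i₀

theorem exists_blowSubst_eq {k : Type u} [CommRing k] {n : ℕ} (i₀ : Fin n) (p : MvPolynomial (Fin n) k) :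
    ∃ N : ℕ, ∀ N', N ≤ N' → ∃ q, blowSubst k i₀ q = X i₀ ^ N' * p := by
  induction p using MvPolynomial.induction_on with
  | C c => exact ⟨0, fun N' _ => ⟨X i₀ ^ N' * C c, by simp [blowSubst]⟩⟩
  | add p q hp hq =>
    obtain ⟨N, hN⟩ := hp
    obtain ⟨M, hM⟩ := hq
    refine ⟨max N M, fun N' h => ?_⟩
    obtain ⟨a, ha⟩ := hN N' ((le_max_left _ _).trans h)
    obtain ⟨b, hb⟩ := hM N' ((le_max_right _ _).trans h)
    exact ⟨a + b, by rw [map_add, ha, hb, mul_add]⟩
  | mul_X p i hp =>
    obtain ⟨N, hN⟩ := hp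
    refine ⟨N + 1, fun N' h => ?_⟩
    by_cases hi : i = i₀
    · obtain ⟨a, ha⟩ := hN N' (by omega)
      exact ⟨a * X i, by rw [map_mul, ha, hi]; simp [blowSubst, mul_assoc]⟩
    · obtain ⟨a, ha⟩ := hN (N' - 1) (by omega)
      refine ⟨a * X i, ?_⟩
      rw [map_mul, ha]
      obtain ⟨m, rfl⟩ : ∃ m, N' = m + 1 := ⟨N' - 1, by omega⟩
      simp [blowSubst, hi, pow_succ]
      ring

theorem injective_aeval_of_blowSubst {k L : Type u} [CommRing k] [CommRing L] [IsDomain L] [Algebra k L] {n : ℕ}
    (i₀ : Fin n) (y x : Fin n → L) (h : (aeval y).comp (blowSubst k i₀) = aeval x)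
    (hx : Function.Injective (aeval (R := k) x)) : Function.Injective (aeval (R := k) y) := by
  rw [injective_iff_map_eq_zero]
  intro p hp
  obtain ⟨N, hN⟩ := exists_blowSubst_eq i₀ p
  obtain ⟨q, hq⟩ := hN N le_rfl
  have h0 : aeval x q = 0 := by
    rw [← h, AlgHom.comp_apply, hq, map_mul, hp, mul_zero]
  rw [(injective_iff_map_eq_zero _).1 hx q h0, map_zero] at hq
  by_contra hne
  have : Nontrivial k := by
    by_contra h'
    rw [not_nontrivial_iff_subsingleton] at h'
    exact hne (Subsingleton.elim _ _)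
  have hX : (X i₀ : MvPolynomial (Fin n) k) ^ N = monomial (Finsupp.single i₀ N) 1 := by
    rw [X_pow_eq_monomial]
  refine hne ?_
  ext d
  have := congrArg (coeff (Finsupp.single i₀ N + d)) hq.symm
  rw [hX, coeff_monomial_mul, one_mul, coeff_zero] at this
  rw [this, coeff_zero]

variable {k : Type u} [Field k] [IsAlgClosed k] {A : Type u} [CommRing A] [IsDomain A] [Algebra k A]
  [Algebra.FiniteType k A] {Ω : Type u} [Field Ω] [IsAlgClosed Ω] [Algebra k Ω]

/-- The curve through a rational point and a given generic point. -/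
theorem exists_curve_through (a : A →ₐ[k] k) (ξ : A →ₐ[k] Ω) (hξ : Function.Injective ξ) (hA : ¬ IsField A) :
    ∃ (F : IntermediateField k Ω) (B : Subalgebra F Ω), IsAlgClosed F ∧ Algebra.FiniteType F B ∧
      ringKrullDim B = 1 ∧ (∀ y, ξ y ∈ B) ∧
      ∃ ε : B →ₐ[F] F, ∀ y (h : ξ y ∈ B), ε ⟨ξ y, h⟩ = algebraMap k F (a y) := by
  classical
  obtain ⟨n, g₀, hg₀, hg₀fin⟩ := exists_finite_inj_algHom_of_fg k A
  -- centre the normalisation at `a`
  let sh : MvPolynomial (Fin n) k →ₐ[k] MvPolynomial (Fin n) k := aeval fun i => X i - C (a (g₀ (X i)))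
  let sh' : MvPolynomial (Fin n) k →ₐ[k] MvPolynomial (Fin n) k := aeval fun i => X i + C (a (g₀ (X i)))
  have hsh : ∀ p, sh (sh' p) = p := fun p => by
    have : sh.comp sh' = AlgHom.id k _ := MvPolynomial.algHom_ext fun i => by simp [sh, sh']
    exact DFunLike.congr_fun this p
  have hsh' : ∀ p, sh' (sh p) = p := fun p => by
    have : sh'.comp sh = AlgHom.id k _ := MvPolynomial.algHom_ext fun i => by simp [sh, sh']
    exact DFunLike.congr_fun this p
  let g := g₀.comp sh
  have hg : Function.Injective g := hg₀.comp (Function.LeftInverse.injective hsh')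
  have hgfin : g.Finite := hg₀fin.comp (RingHom.Finite.of_surjective sh.toRingHom fun p => ⟨sh' p, hsh p⟩)
  have hgint : g.toRingHom.IsIntegral := RingHom.IsIntegral.of_finite hgfin
  let x : Fin n → A := fun i => g (X i)
  have hax : ∀ i, a (x i) = 0 := fun i => by
    show a (g₀ (aeval _ (X i))) = 0
    rw [aeval_X, map_sub, map_sub, ← algebraMap_eq, AlgHom.commutes, AlgHom.commutes]
    simp
  have hn : Nonempty (Fin n) := by
    by_contra hn
    rw [not_nonempty_iff] at hn
    refine hA ?_
    let := g.toRingHom.toAlgebra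
    have : Algebra.IsIntegral (MvPolynomial (Fin n) k) A := ⟨hgint⟩
    exact isField_of_isIntegral_of_isField' ((MvPolynomial.isEmptyRingEquiv k (Fin n)).toMulEquiv.isField (Field.toIsField k))
  -- a valuation centred at `a`
  let m : Ideal ξ.range.toSubring := Ideal.comap (AlgEquiv.ofInjective ξ hξ).symm.toRingEquiv.toRingHom
    (RingHom.ker a.toRingHom)
  have hmne : m ≠ ⊤ := fun h => one_ne_zero (α := k) (by
    have h1 : (1 : ξ.range.toSubring) ∈ m := h ▸ Submodule.mem_top
    rw [Ideal.mem_comap, map_one, RingHom.mem_ker, map_one] at h1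
    exact h1)
  obtain ⟨V, hAV, hmV⟩ := Ideal.image_subset_nonunits_valuationSubring m hmne
  have hxV : ∀ y : A, a y = 0 → ξ y ∈ V.nonunits := fun y hy => hmV ⟨⟨ξ y, ⟨y, rfl⟩⟩, by
    rw [SetLike.mem_coe, Ideal.mem_comap]
    show a ((AlgEquiv.ofInjective ξ hξ).symm ⟨ξ y, _⟩) = 0
    rw [show (AlgEquiv.ofInjective ξ hξ).symm ⟨ξ y, _⟩ = y from
      (AlgEquiv.ofInjective ξ hξ).symm_apply_apply y]
    exact hy, rfl⟩
  have hkV : ∀ c : k, algebraMap k Ω c ∈ V := fun c => hAV ⟨algebraMap k A c, ξ.commutes c⟩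
  obtain ⟨i₀, -, hmax⟩ := Finset.exists_max_image Finset.univ (fun i => V.valuation (ξ (x i))) Finset.univ_nonempty
  have hxinj : Function.Injective (aeval (R := k) fun i => ξ (x i)) := by
    rw [show aeval (R := k) (fun i => ξ (x i)) = ξ.comp g from MvPolynomial.algHom_ext fun i => by simp [x]]
    exact hξ.comp hg
  have hx0 : ξ (x i₀) ≠ 0 := fun h => X_ne_zero i₀ (hxinj (by rw [aeval_X, h, map_zero]))
  let y : Fin n → Ω := fun i => if i = i₀ then ξ (x i₀) else ξ (x i) / ξ (x i₀)
  have hy0 : y i₀ = ξ (x i₀) := if_pos rfl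
  have hxy : ∀ i, ξ (x i) = if i = i₀ then y i₀ else y i * y i₀ := fun i => by
    split_ifs with hi
    · rw [hi, hy0]
    · rw [hy0, show y i = ξ (x i) / ξ (x i₀) from if_neg hi, div_mul_cancel₀ _ hx0]
  have hyinj : Function.Injective (aeval (R := k) y) :=
    injective_aeval_of_blowSubst i₀ y _ (MvPolynomial.algHom_ext fun i => by
      rw [AlgHom.comp_apply, blowSubst, aeval_X, aeval_X, hxy i]
      split_ifs <;> simp) hxinj
  have hyV : ∀ i, y i ∈ V := fun i => by
    by_cases hi : i = i₀
    · rw [hi, hy0]; exact hAV ⟨x i₀, rfl⟩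
    · rw [show y i = ξ (x i) / ξ (x i₀) from if_neg hi, ← V.valuation_le_one_iff, map_div₀]
      exact div_le_one_of_le₀ (hmax i (Finset.mem_univ _)) zero_le
  let P := MvPolynomial (Fin n) k
  letI : Algebra P Ω := (aeval (R := k) y).toRingHom.toAlgebra
  have : IsScalarTower k P Ω := IsScalarTower.of_algebraMap_eq fun c => ((aeval (R := k) y).commutes c).symm
  have hPV : ∀ p : P, algebraMap P Ω p ∈ V := fun p => by
    show aeval y p ∈ V
    induction p using MvPolynomial.induction_on with
    | C c => rw [aeval_C]; exact hkV c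
    | add p q hp hq => rw [map_add]; exact V.add_mem _ _ hp hq
    | mul_X p i hp => rw [map_mul, aeval_X]; exact V.mul_mem _ _ hp (hyV i)
  have hVint : ∀ {R : Type u} [CommRing R] (f : R →+* Ω), (∀ r, f r ∈ V) → ∀ z, f.IsIntegralElem z → z ∈ V := by
    intro R _ f hf z hz
    letI : Algebra R V := (f.codRestrict V.toSubring hf).toAlgebra
    letI : Algebra R Ω := f.toAlgebra
    have : IsScalarTower R V Ω := IsScalarTower.of_algebraMap_eq fun r => rfl
    have hz' : IsIntegral V z := IsIntegral.tower_top (R := R) hz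
    obtain ⟨w, hw⟩ := IsIntegrallyClosed.isIntegral_iff.1 hz'
    exact hw ▸ w.2
  let A' := integralClosure P Ω
  have hAA' : ∀ z, IsIntegral P (ξ z) := fun z => by
    obtain ⟨p, hp, hpz⟩ := hgint z
    refine ⟨p.map (blowSubst k i₀).toRingHom, hp.map _, ?_⟩
    rw [Polynomial.eval₂_map]
    have he : (algebraMap P Ω).comp (blowSubst k i₀).toRingHom = ξ.toRingHom.comp g.toRingHom := by
      refine congrArg AlgHom.toRingHom (show (aeval (R := k) y).comp (blowSubst k i₀) = ξ.comp g from
        MvPolynomial.algHom_ext fun i => ?_)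
      rw [AlgHom.comp_apply, AlgHom.comp_apply, blowSubst, aeval_X, show g (X i) = x i from rfl, hxy i]
      split_ifs <;> simp
    rw [he]
    have := Polynomial.hom_eval₂ p g.toRingHom ξ.toRingHom z
    rw [hpz, map_zero] at this
    exact this.symm
  have hA'V : ∀ z : A', (z : Ω) ∈ V := fun z => hVint _ hPV z z.2
  let φ : A' →+* V := A'.toSubring.subtype.codRestrict V.toSubring hA'V
  let Q : Ideal A' := (IsLocalRing.maximalIdeal V).comap φ
  have : Q.IsPrime := Ideal.IsPrime.comap φ
  have hQmem : ∀ z : A', z ∈ Q ↔ (z : Ω) ∈ V.nonunits := fun z =>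
    (Ideal.mem_comap).trans ((V.coe_mem_nonunits_iff (a := φ z)).symm)
  let K' : P →ₐ[k] P := aeval fun i => if i = i₀ then 0 else X i
  let p₀ : Ideal P := Ideal.span {X i₀}
  have : p₀.IsPrime := (Ideal.span_singleton_prime (X_ne_zero i₀)).2 MvPolynomial.X_prime
  have hp₀Q : p₀ ≤ Q.under P := by
    rw [Ideal.span_singleton_le_iff_mem, Ideal.mem_comap, hQmem]
    show aeval y (X i₀) ∈ V.nonunits
    rw [aeval_X, hy0]
    exact hxV _ (hax i₀)
  have : FaithfulSMul P A' := (faithfulSMul_iff_algebraMap_injective P A').2 fun p q h =>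
    hyinj (congrArg Subtype.val h)
  have : Algebra.IsIntegral P A' := inferInstance
  obtain ⟨P₀, hP₀Q, hP₀p, hP₀over⟩ := Ideal.exists_ideal_le_liesOver_of_le (R := P) (S := A') Q hp₀Q
  have hP₀X : (⟨y i₀, ⟨Polynomial.X - Polynomial.C (X i₀), Polynomial.monic_X_sub_C _, by
      show Polynomial.eval₂ _ _ _ = 0
      simp [show algebraMap P Ω (X i₀) = y i₀ from aeval_X _ _]⟩⟩ : A') ∈ P₀ := by
    have : algebraMap P A' (X i₀) ∈ P₀ := (Ideal.mem_of_liesOver P₀ p₀ (X i₀)).1 (Ideal.mem_span_singleton_self _)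
    convert this
    exact (aeval_X _ _).symm
  let ι : A →+* A' := ξ.toRingHom.codRestrict A'.toSubring hAA'
  have hPA : P₀.comap ι = RingHom.ker a.toRingHom := by
    refine (Ideal.IsMaximal.eq_of_le ?_ (RingHom.ker_isPrime _).ne_top fun z hz => ?_)
    · letI := g.toRingHom.toAlgebra
      have : Algebra.IsIntegral (MvPolynomial (Fin n) k) A := ⟨hgint⟩
      have := Ideal.IsPrime.comap (K := P₀) ι
      refine Ideal.isMaximal_of_isIntegral_of_isMaximal_comap (R := MvPolynomial (Fin n) k) _ ?_
      let ev : MvPolynomial (Fin n) k →ₐ[k] k := aeval fun _ => 0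
      have hmax : (RingHom.ker ev.toRingHom).IsMaximal :=
        RingHom.ker_isMaximal_of_surjective _ fun c => ⟨C c, by simp [ev]⟩
      suffices hle : RingHom.ker ev.toRingHom ≤ (P₀.comap ι).comap (algebraMap (MvPolynomial (Fin n) k) A) by
        have hne : (P₀.comap ι).comap (algebraMap (MvPolynomial (Fin n) k) A) ≠ ⊤ :=
          (Ideal.IsPrime.comap (K := P₀.comap ι) _).ne_top
        exact hmax.eq_of_le hne hle ▸ hmax
      intro p hp
      have hgen : ∀ q : MvPolynomial (Fin n) k, q - C (ev q) ∈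
          (P₀.comap ι).comap (algebraMap (MvPolynomial (Fin n) k) A) := by
        intro q
        induction q using MvPolynomial.induction_on with
        | C c => simp [ev]
        | add p q hp hq =>
          rw [map_add, map_add, add_sub_add_comm]
          exact add_mem hp hq
        | mul_X p i hp =>
          rw [map_mul, show ev (X i) = 0 from aeval_X _ _, mul_zero, map_zero, sub_zero]
          refine Ideal.mul_mem_left _ _ ?_
          show ι (g (X i)) ∈ P₀
          by_cases hi : i = i₀
          · subst hi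
            convert hP₀X using 1
            exact Subtype.ext hy0.symm
          · have hyi : IsIntegral P (y i) := by
              refine ⟨Polynomial.X - Polynomial.C (X i), Polynomial.monic_X_sub_C _, ?_⟩
              simp [show algebraMap P Ω (X i) = y i from aeval_X _ _]
            convert P₀.mul_mem_left (⟨y i, hyi⟩ : A') hP₀X using 1
            refine Subtype.ext ?_
            show ξ (x i) = y i * y i₀
            rw [hxy i, if_neg hi]
      have h := hgen p
      rw [show ev p = 0 from hp, map_zero, sub_zero] at h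
      exact h
    · show a z = 0
      by_contra h
      have hz' : (ι z : Ω) ∈ V.nonunits := (hQmem _).1 (hP₀Q hz)
      have h2 : ξ (z - algebraMap k A (a z)) ∈ V.nonunits := hxV _ (by simp)
      have h3 : algebraMap k Ω (a z) ∈ V.nonunits := by
        have h4 := sub_mem hz' h2
        rwa [show (ι z : Ω) = ξ z from rfl, map_sub, AlgHom.commutes, sub_sub_cancel] at h4
      rcases V.mem_nonunits_iff_or.1 h3 with h5 | h5
      · exact h ((algebraMap k Ω).injective (h5.trans (map_zero _).symm))
      · exact h5 (by rw [← map_inv₀]; exact hkV _)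
  -- a valuation centred at the lifted prime
  let P₁ : Ideal A'.toSubring := P₀
  have : P₁.IsPrime := ‹P₀.IsPrime›
  obtain ⟨W, hW⟩ := (LocalSubring.ofPrime A'.toSubring P₁).exists_le_valuationSubring
  have hA'W : ∀ z : A', (z : Ω) ∈ W := fun z => hW.1 (LocalSubring.le_ofPrime _ _ z.2)
  have hWout : ∀ z : A', z ∉ P₀ → (z : Ω)⁻¹ ∈ W := fun z hz => by
    obtain ⟨w, hw⟩ := (IsLocalization.map_units (LocalSubring.ofPrime A'.toSubring P₁).toSubring
      (⟨z, hz⟩ : P₁.primeCompl)).exists_left_inv
    have hw' : (w : Ω) * (z : Ω) = 1 := congrArg Subtype.val hw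
    rw [← eq_inv_of_mul_eq_one_left hw']
    exact hW.1 w.2
  have hWin : ∀ z : A', z ∈ P₀ → (z : Ω) ∈ W.nonunits := fun z hz => by
    obtain ⟨hle, hloc⟩ := hW
    have h1 : algebraMap A'.toSubring (LocalSubring.ofPrime A'.toSubring P₁).toSubring z ∈
        IsLocalRing.maximalIdeal _ := (IsLocalization.AtPrime.to_map_mem_maximal_iff _ P₁ z).2 hz
    have h2 := (map_mem_nonunits_iff (Subring.inclusion hle) _).2 h1
    exact (W.coe_mem_nonunits_iff (a := ⟨(z : Ω), hA'W z⟩)).2 h2
  have hPA' : ∀ p : P, IsIntegral P (algebraMap P Ω p) := fun p => isIntegral_algebraMap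
  have hkW : ∀ c : k, algebraMap k Ω c ∈ W := fun c => by
    rw [IsScalarTower.algebraMap_apply k P Ω c]
    exact hA'W ⟨_, hPA' _⟩
  -- the field of slopes
  let F₀ : IntermediateField k Ω := IntermediateField.adjoin k (Set.range fun i : {i // i ≠ i₀} => y i)
  have hF₀W : ∀ z ∈ F₀, z ∈ W := by
    intro z hz
    obtain ⟨r, t, rfl⟩ := (IntermediateField.mem_adjoin_range_iff k _ _).1 hz
    have hren : ∀ r : MvPolynomial {i // i ≠ i₀} k,
        aeval (fun i : {i // i ≠ i₀} => y i) r = aeval y (rename Subtype.val r) := fun r => by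
      rw [aeval_rename]
      rfl
    rw [hren, hren]
    by_cases ht : t = 0
    · simp [ht]
    rw [div_eq_mul_inv]
    refine W.mul_mem _ _ (hA'W ⟨algebraMap P Ω _, hPA' _⟩) (hWout ⟨algebraMap P Ω _, hPA' _⟩ fun hmem => ht ?_)
    have h1 : rename Subtype.val t ∈ p₀ := (Ideal.mem_of_liesOver P₀ p₀ (rename Subtype.val t)).2 hmem
    obtain ⟨q, hq⟩ := Ideal.mem_span_singleton'.1 h1
    let back : MvPolynomial (Fin n) k →ₐ[k] MvPolynomial {i // i ≠ i₀} k :=
      aeval fun i => if h : i = i₀ then 0 else X ⟨i, h⟩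
    have hb : back (rename Subtype.val t) = t := by
      rw [← AlgHom.comp_apply, show back.comp (rename Subtype.val) = AlgHom.id k _ from
        MvPolynomial.algHom_ext fun i => by simp [back, i.2]]
      rfl
    rw [← hb, ← hq, map_mul, show back (X i₀) = 0 by simp [back], mul_zero]
  let F : IntermediateField k Ω := (algebraicClosure F₀ Ω).restrictScalars k
  have hFalg : IsAlgClosed F :=
    (inferInstance : IsAlgClosure F₀ (algebraicClosure F₀ Ω)).isAlgClosed
  have hF₀F : ∀ z ∈ F₀, z ∈ F := fun z hz =>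
    mem_algebraicClosure_iff.2 (isAlgebraic_algebraMap (R := F₀) (A := Ω) ⟨z, hz⟩)
  have hFW : ∀ z ∈ F, z ∈ W := fun z hz => by
    have hz' : IsIntegral F₀ z := (mem_algebraicClosure_iff.1 hz).isIntegral
    letI : Algebra F₀ W := ((algebraMap F₀ Ω).codRestrict W.toSubring fun r => hF₀W _ r.2).toAlgebra
    have : IsScalarTower F₀ W Ω := IsScalarTower.of_algebraMap_eq fun r => rfl
    obtain ⟨w, hw⟩ := IsIntegrallyClosed.isIntegral_iff.1 (IsIntegral.tower_top (R := F₀) (A := W) hz')
    exact hw ▸ w.2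
  have hyF : ∀ i, i ≠ i₀ → y i ∈ F := fun i hi =>
    hF₀F _ (IntermediateField.subset_adjoin k _ ⟨⟨i, hi⟩, rfl⟩)
  -- the curve
  obtain ⟨s, hs⟩ := (inferInstance : Algebra.FiniteType k A).1
  let B : Subalgebra F Ω := Algebra.adjoin F (ξ '' (s : Set A))
  have hξB : ∀ z, ξ z ∈ B := fun z => by
    have : z ∈ Algebra.adjoin k (s : Set A) := hs ▸ Algebra.mem_top
    induction this using Algebra.adjoin_induction with
    | mem w hw => exact Algebra.subset_adjoin ⟨w, hw, rfl⟩
    | algebraMap c =>
      rw [AlgHom.commutes, IsScalarTower.algebraMap_apply k F Ω]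
      exact B.algebraMap_mem _
    | add _ _ _ _ h1 h2 => rw [map_add]; exact B.add_mem h1 h2
    | mul _ _ _ _ h1 h2 => rw [map_mul]; exact B.mul_mem h1 h2
  have hu : Transcendental F (y i₀) := by
    intro halg
    have hu0 : y i₀ ≠ 0 := hy0 ▸ hx0
    obtain ⟨c, hc⟩ := (IsAlgClosed.algebraMap_bijective_of_isIntegral (k := F)
      (K := ↥(integralClosure F Ω))).2 ⟨y i₀, halg.isIntegral⟩
    have hyc : y i₀ ∈ F := (show (c : Ω) = y i₀ from congrArg Subtype.val hc) ▸ c.2
    have hmem : (y i₀)⁻¹ ∈ F := F.inv_mem hyc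
    rcases W.mem_nonunits_iff_or.1 (hWin _ hP₀X) with h5 | h5
    · exact hu0 h5
    · exact h5 (hFW _ hmem)
  let ψ : P →+* Polynomial F := (aeval (R := k) fun i => if h : i = i₀ then (Polynomial.X : Polynomial F)
    else Polynomial.C ⟨y i, hyF i h⟩).toRingHom
  have hψ : (Polynomial.aeval (y i₀)).toRingHom.comp ψ = algebraMap P Ω := by
    refine MvPolynomial.ringHom_ext (fun c => ?_) fun i => ?_
    · show Polynomial.aeval (y i₀) (aeval (R := k) _ (C c)) = aeval y (C c)
      rw [aeval_C, aeval_C, IsScalarTower.algebraMap_apply k F (Polynomial F), Polynomial.algebraMap_eq,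
        Polynomial.aeval_C, ← IsScalarTower.algebraMap_apply]
    · show Polynomial.aeval (y i₀) (aeval (R := k) _ (X i)) = aeval y (X i)
      rw [aeval_X, aeval_X]
      split_ifs with h
      · rw [Polynomial.aeval_X, h]
      · rw [Polynomial.aeval_C]; rfl
  have huB : y i₀ ∈ B := by rw [hy0]; exact hξB _
  let ub : B := ⟨y i₀, huB⟩
  have hval : ∀ q : Polynomial F, ((Polynomial.aeval ub q : B) : Ω) = Polynomial.aeval (y i₀) q := fun q =>
    (Polynomial.aeval_algHom_apply B.val ub q).symm
  have hdim : ringKrullDim B = 1 := by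
    letI : Algebra (Polynomial F) B := (Polynomial.aeval ub).toRingHom.toAlgebra
    letI : Algebra (Polynomial F) Ω := (Polynomial.aeval (y i₀)).toRingHom.toAlgebra
    have : IsScalarTower (Polynomial F) B Ω := IsScalarTower.of_algebraMap_eq fun q => (hval q).symm
    have hinj : Function.Injective (algebraMap (Polynomial F) B) := fun p q h =>
      (transcendental_iff_injective.1 hu) (((hval p).symm.trans (congrArg Subtype.val h)).trans (hval q))
    have hint : ∀ z : B, IsIntegral (Polynomial F) z := by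
      intro z
      refine (isIntegral_algHom_iff (IsScalarTower.toAlgHom (Polynomial F) B Ω) Subtype.val_injective).1 ?_
      show IsIntegral (Polynomial F) (z : Ω)
      obtain ⟨z, hz⟩ := z
      induction hz using Algebra.adjoin_induction with
      | mem w hw =>
        obtain ⟨w, -, rfl⟩ := hw
        obtain ⟨q, hq, hq0⟩ := hAA' w
        refine ⟨q.map ψ, hq.map _, ?_⟩
        rw [Polynomial.eval₂_map]
        exact (congrArg (fun f => Polynomial.eval₂ f _ q) hψ).trans hq0
      | algebraMap c =>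
        show IsIntegral (Polynomial F) (algebraMap F Ω c)
        rw [← Polynomial.aeval_C (R := F) (y i₀) c]
        exact isIntegral_algebraMap
      | add _ _ _ _ h1 h2 => exact h1.add h2
      | mul _ _ _ _ h1 h2 => exact h1.mul h2
    have : Algebra.IsIntegral (Polynomial F) B := ⟨hint⟩
    rw [← DimLib.ringKrullDim_eq_of_isIntegral hinj, Polynomial.ringKrullDim_of_isNoetherianRing,
      ringKrullDim_eq_zero_of_field, zero_add]
  have hBW : ∀ z : B, (z : Ω) ∈ W := fun z => by
    obtain ⟨z, hz⟩ := z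
    induction hz using Algebra.adjoin_induction with
    | mem w hw =>
      obtain ⟨w, -, rfl⟩ := hw
      exact hA'W (ι w)
    | algebraMap c => exact hFW _ c.2
    | add _ _ _ _ h1 h2 => exact W.add_mem _ _ h1 h2
    | mul _ _ _ _ h1 h2 => exact W.mul_mem _ _ h1 h2
  let ρ : B →+* IsLocalRing.ResidueField W :=
    (IsLocalRing.residue W).comp (B.toSubring.subtype.codRestrict W.toSubring hBW)
  let σ : F →+* IsLocalRing.ResidueField W := ρ.comp (algebraMap F B)
  have hσ : ∀ z (h : ξ z ∈ B), ρ ⟨ξ z, h⟩ = σ (algebraMap k F (a z)) := by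
    intro z h
    refine (Ideal.Quotient.mk_eq_mk_iff_sub_mem _ _).2 ?_
    rw [← W.coe_mem_nonunits_iff]
    show ξ z - algebraMap F Ω (algebraMap k F (a z)) ∈ W.nonunits
    rw [← IsScalarTower.algebraMap_apply, ← ξ.commutes, ← map_sub]
    exact hWin (ι _) (by
      rw [← Ideal.mem_comap, hPA, RingHom.mem_ker]
      simp)
  have hrange : ∀ z : B, ρ z ∈ σ.range := by
    intro ⟨z, hz⟩
    induction hz using Algebra.adjoin_induction with
    | mem w hw =>
      obtain ⟨w, -, rfl⟩ := hw
      exact ⟨_, (hσ w _).symm⟩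
    | algebraMap c => exact ⟨c, rfl⟩
    | add u v hu hv h1 h2 => exact (map_add ρ ⟨u, hu⟩ ⟨v, hv⟩).symm ▸ σ.range.add_mem h1 h2
    | mul u v hu hv h1 h2 => exact (map_mul ρ ⟨u, hu⟩ ⟨v, hv⟩).symm ▸ σ.range.mul_mem h1 h2
  choose e he using fun z => RingHom.mem_range.1 (hrange z)
  have hσi : Function.Injective σ := σ.injective
  let ε : B →ₐ[F] F :=
    { toFun := e
      map_one' := hσi (by rw [he, map_one, map_one])
      map_mul' := fun u v => hσi (by rw [he, map_mul, map_mul, he, he])
      map_zero' := hσi (by rw [he, map_zero, map_zero])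
      map_add' := fun u v => hσi (by rw [he, map_add, map_add, he, he])
      commutes' := fun c => hσi (by rw [he]; rfl) }
  refine ⟨F, B, hFalg, ?_, hdim, hξB, ε, fun z h => hσi ((he _).trans (hσ z h))⟩
  exact (Subalgebra.fg_iff_finiteType B).1 (Subalgebra.fg_def.2 ⟨ξ '' (s : Set A), s.finite_toSet.image ξ, rfl⟩)


end Groth.Agent.CubeLib
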