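import Groth.Agent.CubeLib.FourPoint
import Groth.Agent.CubeLib.Parameters
import Groth.Agent.CubeLib.SmoothCurve
import Groth.Agent.AbVarLib.AlgClosedIntegral

/-!
# A rational point is joined to the generic point

After base change to an algebraically closed extension `Ω` containing the function field, a rational point and the
tautological generic point are joined by an open of a smooth proper connected curve.
-/

set_option autoImplicit false
set_option backward.isDefEq.respectTransparency.types false

universe u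

open CategoryTheory CategoryTheory.Limits MonoidalCategory CartesianMonoidalCategory AlgebraicGeometry

namespace Groth.Agent.CubeLib

variable {k : Type u} [Field k] {Ω : Type u} [Field Ω] (g : Spec (CommRingCat.of Ω) ⟶ Spec (CommRingCat.of k))

/-- A point over the extension, as a rational point of the base change. -/
noncomputable def bcGen {U : Over (Spec (CommRingCat.of k))} (η : Spec (CommRingCat.of Ω) ⟶ U.left)
    (hη : η ≫ U.hom = g) : 𝟙_ (Over (Spec (CommRingCat.of Ω))) ⟶ bc g U :=
  Over.homMk (pullback.lift η (𝟙 _) (hη.trans (Category.id_comp g).symm)) (pullback.lift_snd _ _ _)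

/-- The base change of a rational point. -/
noncomputable def bcPt {U : Over (Spec (CommRingCat.of k))} (x : 𝟙_ (Over (Spec (CommRingCat.of k))) ⟶ U) :
    𝟙_ (Over (Spec (CommRingCat.of Ω))) ⟶ bc g U :=
  bcGen g (g ≫ x.left) (by rw [Category.assoc, Over.w x]; exact Category.comp_id g)

theorem bcGen_congr {U : Over (Spec (CommRingCat.of k))} {η η' : Spec (CommRingCat.of Ω) ⟶ U.left}
    (hη : η ≫ U.hom = g) (hη' : η' ≫ U.hom = g) (h : η = η') : bcGen g η hη = bcGen g η' hη' := by
  subst h
  rfl

theorem joined_refl [IsAlgClosed k] {U : Over (Spec (CommRingCat.of k))} (a : 𝟙_ (Over (Spec (CommRingCat.of k))) ⟶ U) :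
    Joined a a :=
  ⟨𝟙_ _, 𝟙_ _, 𝟙 _, a, inferInstanceAs (IsProper (𝟙 _)), inferInstanceAs (Smooth (𝟙 _)),
    AbVarLib.geometricallyIntegral_of_isAlgClosed (𝟙 (Spec (CommRingCat.of k))), inferInstanceAs (IsOpenImmersion (𝟙 _)),
    𝟙 _, 𝟙 _, Category.id_comp _, Category.id_comp _⟩

variable [IsAlgClosed k] [IsAlgClosed Ω]

/-- A rational point is joined to the generic point. -/
theorem exists_joined_generic {U : Over (Spec (CommRingCat.of k))} [IsIntegral U.left] [LocallyOfFiniteType U.hom]
    (u : 𝟙_ (Over (Spec (CommRingCat.of k))) ⟶ U) (η : Spec (CommRingCat.of Ω) ⟶ U.left) (hη : η ≫ U.hom = g)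
    (hgen : η (IsLocalRing.closedPoint Ω) = genericPoint U.left) :
    Joined (bcPt g u) (bcGen g η hη) := by
  classical
  obtain ⟨U₀, hU₀, huU₀, -⟩ :=
    exists_isAffineOpen_mem_and_subset (x := u.left (IsLocalRing.closedPoint k)) (U := ⊤) trivial
  have hηU₀ : η (IsLocalRing.closedPoint Ω) ∈ U₀ := by
    rw [hgen]
    exact ((genericPoint_spec U.left).mem_open_set_iff U₀.isOpen).2 ⟨_, trivial, huU₀⟩
  let A : Type u := Γ(U.left, U₀)
  letI : CommRing A := inferInstanceAs (CommRing Γ(U.left, U₀))
  have : Nonempty U₀.toScheme := ⟨⟨_, huU₀⟩⟩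
  have : IsDomain A := inferInstanceAs (IsDomain Γ(U.left, U₀))
  let pA := hU₀.fromSpec ≫ U.hom
  letI : Algebra k A := (Spec.preimage pA).hom.toAlgebra
  have hpA : Spec.map (CommRingCat.ofHom (algebraMap k A)) = pA := Spec.map_preimage pA
  have : Algebra.FiniteType k A := by
    have h : LocallyOfFiniteType (Spec.map (CommRingCat.ofHom (algebraMap k A))) := hpA ▸ inferInstance
    rw [HasRingHomProperty.Spec_iff (P := @LocallyOfFiniteType)] at h
    exact (RingHom.finiteType_algebraMap).1 h
  letI : Algebra k Ω := (Spec.preimage g).hom.toAlgebra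
  have hg : Spec.map (CommRingCat.ofHom (algebraMap k Ω)) = g := Spec.map_preimage g
  let la : Spec (CommRingCat.of k) ⟶ Spec (CommRingCat.of A) := IsOpenImmersion.lift hU₀.fromSpec u.left (by
    rintro _ ⟨p, rfl⟩
    rw [hU₀.range_fromSpec, Subsingleton.elim (α := PrimeSpectrum k) p (IsLocalRing.closedPoint k)]
    exact huU₀)
  let lξ : Spec (CommRingCat.of Ω) ⟶ Spec (CommRingCat.of A) := IsOpenImmersion.lift hU₀.fromSpec η (by
    rintro _ ⟨p, rfl⟩
    rw [hU₀.range_fromSpec, Subsingleton.elim (α := PrimeSpectrum Ω) p (IsLocalRing.closedPoint Ω)]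
    exact hηU₀)
  have hla : la ≫ hU₀.fromSpec = u.left := IsOpenImmersion.lift_fac _ _ _
  have hlξ : lξ ≫ hU₀.fromSpec = η := IsOpenImmersion.lift_fac _ _ _
  let a : A →ₐ[k] k :=
    { (Spec.preimage la).hom with
      commutes' := fun c => by
        have e : CommRingCat.ofHom (algebraMap k A) ≫ Spec.preimage la = 𝟙 _ := Spec.map_injective (by
          rw [Spec.map_comp, Spec.map_preimage, hpA, Spec.map_id]
          exact (Category.assoc _ _ _).symm.trans ((congrArg (· ≫ U.hom) hla).trans (Over.w u)))
        exact congr($e c) }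
  let ξ : A →ₐ[k] Ω :=
    { (Spec.preimage lξ).hom with
      commutes' := fun c => by
        have e : CommRingCat.ofHom (algebraMap k A) ≫ Spec.preimage lξ = CommRingCat.ofHom (algebraMap k Ω) :=
          Spec.map_injective (by
            rw [Spec.map_comp, Spec.map_preimage, hpA, hg]
            exact (Category.assoc _ _ _).symm.trans ((congrArg (· ≫ U.hom) hlξ).trans hη))
        exact congr($e c) }
  have ha : Spec.map (CommRingCat.ofHom a.toRingHom) = la := Spec.map_preimage la
  have hξ' : Spec.map (CommRingCat.ofHom ξ.toRingHom) = lξ := Spec.map_preimage lξ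
  have hξ : Function.Injective ξ := by
    have hp : lξ (IsLocalRing.closedPoint Ω) = (⊥ : PrimeSpectrum A) := by
      refine hU₀.fromSpec.isOpenEmbedding.injective ?_
      refine (show hU₀.fromSpec (lξ (IsLocalRing.closedPoint Ω)) = η (IsLocalRing.closedPoint Ω) from
        congr($hlξ (IsLocalRing.closedPoint Ω))).trans (hgen.trans ?_)
      rw [← genericPoint_eq_of_isOpenImmersion hU₀.fromSpec, genericPoint_eq_bot_of_affine]
    rw [← hξ'] at hp
    have h := congrArg PrimeSpectrum.asIdeal hp
    change Ideal.comap ξ.toRingHom (IsLocalRing.maximalIdeal Ω) = ⊥ at h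
    rw [IsLocalRing.maximalIdeal_eq_bot] at h
    exact (RingHom.injective_iff_ker_eq_bot ξ.toRingHom).2 h
  by_cases hA : IsField A
  · letI := hA.toField
    have : Module.Finite k A := finite_of_finite_type_of_isJacobsonRing k _
    have hb : Function.Bijective (algebraMap k A) := IsAlgClosed.algebraMap_bijective_of_isIntegral
    have e : g ≫ u.left = η := by
      rw [← hla, ← hlξ, ← ha, ← hξ', ← hg, ← Category.assoc, ← Spec.map_comp]
      congr 2
      ext z
      obtain ⟨c, rfl⟩ := hb.2 z
      show algebraMap k Ω (a (algebraMap k A c)) = ξ (algebraMap k A c)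
      rw [AlgHom.commutes, AlgHom.commutes]
      rfl
    rw [bcPt, bcGen_congr g _ hη e]
    exact joined_refl _
  obtain ⟨F, B, hF, hBft, hdim, hξB, ε, hε⟩ := exists_curve_through a ξ hξ hA
  -- normalise
  let L := FractionRing B
  let B₁ := integralClosure B L
  have hN2 : CAlg.IsN2 B := CAlgH.isN2_of_ringEquiv (RingEquiv.quotientBot B)
    ((CAlgH.isNagata_of_finiteType (NormalizationLib.isNagata_field F) B).2 ⊥)
  have : Module.Finite B B₁ := hN2 L inferInstance
  have : Algebra.FiniteType F B₁ := Algebra.FiniteType.trans hBft inferInstance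
  have : IsIntegrallyClosed B₁ := integralClosure.isIntegrallyClosedOfFiniteExtension L
  have hBB₁ : Function.Injective (algebraMap B B₁) := fun p q h =>
    IsFractionRing.injective B L (congrArg Subtype.val h)
  have hdim₁ : ringKrullDim B₁ = 1 := by
    rw [← DimLib.ringKrullDim_eq_of_isIntegral hBB₁, hdim]
  have : IsNoetherianRing B₁ := Algebra.FiniteType.isNoetherianRing F B₁
  have hnf : ¬ IsField B₁ := fun h => by
    letI := h.toField
    rw [ringKrullDim_eq_zero_of_field] at hdim₁
    exact zero_ne_one hdim₁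
  have : Ring.KrullDimLE 1 B₁ := Ring.krullDimLE_iff.2 hdim₁.le
  have : Ring.DimensionLEOne B₁ :=
    ⟨fun {p} hp0 hp => Ring.krullDimLE_one_iff_of_noZeroDivisors.1 this p hp0 hp⟩
  have : IsDedekindDomain B₁ := {}
  let sX : Spec (CommRingCat.of B₁) ⟶ Spec (CommRingCat.of F) := Spec.map (CommRingCat.ofHom (algebraMap F B₁))
  have : LocallyOfFiniteType sX := (HasRingHomProperty.Spec_iff (P := @LocallyOfFiniteType)).2
    ((RingHom.finiteType_algebraMap).2 inferInstance)
  have hcurve : ∀ x : Spec (CommRingCat.of B₁), IsClosed ({x} : Set (Spec (CommRingCat.of B₁))) →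
      ringKrullDim ((Spec (CommRingCat.of B₁)).presheaf.stalk x) = 1 := by
    intro x hx
    have hxm : x.asIdeal.IsMaximal := (PrimeSpectrum.isClosed_singleton_iff_isMaximal x).1 hx
    have hne : x.asIdeal ≠ ⊥ := Ring.ne_bot_of_isMaximal_of_not_isField hxm hnf
    letI : Algebra B₁ ((Spec (CommRingCat.of B₁)).presheaf.stalk x) := StructureSheaf.stalkAlgebra B₁ x
    have : IsLocalization.AtPrime ((Spec (CommRingCat.of B₁)).presheaf.stalk x) x.asIdeal :=
      StructureSheaf.IsLocalization.to_stalk B₁ x
    have := IsLocalization.AtPrime.isDiscreteValuationRing_of_dedekind_domain B₁ hne (Localization.AtPrime x.asIdeal)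
    rw [← ringKrullDim_eq_of_ringEquiv (IsLocalization.algEquiv x.asIdeal.primeCompl (Localization.AtPrime x.asIdeal)
      ((Spec (CommRingCat.of B₁)).presheaf.stalk x)).toRingEquiv]
    exact IsPrincipalIdealRing.ringKrullDim_eq_one (Localization.AtPrime x.asIdeal) (IsDiscreteValuationRing.not_isField _)
  have hnorm : Pi1.IsNormalScheme (Spec (CommRingCat.of B₁)) := fun x => by
    letI : Algebra B₁ ((Spec (CommRingCat.of B₁)).presheaf.stalk x) := StructureSheaf.stalkAlgebra B₁ x
    have : IsLocalization.AtPrime ((Spec (CommRingCat.of B₁)).presheaf.stalk x) x.asIdeal :=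
      StructureSheaf.IsLocalization.to_stalk B₁ x
    let e := (IsLocalization.algEquiv x.asIdeal.primeCompl (Localization.AtPrime x.asIdeal)
      ((Spec (CommRingCat.of B₁)).presheaf.stalk x)).toRingEquiv
    have : IsIntegrallyClosed (Localization.AtPrime x.asIdeal) :=
      isIntegrallyClosed_of_isLocalization _ _ x.asIdeal.primeCompl_le_nonZeroDivisors
    exact ⟨e.symm.toMulEquiv.isDomain, IsIntegrallyClosed.of_equiv (R := Localization.AtPrime x.asIdeal) e⟩
  have hF' := hF
  obtain ⟨Y, sY, j, hj, hjd, hjs, hYp, hYn, hYd⟩ :=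
    CurveLib.exists_completion_integral (Spec (CommRingCat.of B₁)) sX hcurve hnorm
  have : Smooth sY := smooth_of_normal_curve sY hYn hYd
  have : AlgebraicGeometry.IsIntegral Y := by
    have : ∀ y : Y, _root_.IsReduced (Y.presheaf.stalk y) := fun y => by
      have := (hYn y).1
      infer_instance
    have := isReduced_of_isReduced_stalk Y
    have : IrreducibleSpace Y := by
      have h : IsIrreducible (closure (Set.range j)) :=
        (IrreducibleSpace.isIrreducible_univ (Spec (CommRingCat.of B₁))).image j j.continuous.continuousOn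
          |>.closure |> fun h => by rwa [Set.image_univ] at h
      rw [hjd.closure_eq] at h
      exact { toPreirreducibleSpace := ⟨h.2⟩, toNonempty := let ⟨y, _⟩ := h.1; ⟨y⟩ }
    exact isIntegral_of_irreducibleSpace_of_isReduced Y
  have : GeometricallyIntegral sY := AbVarLib.geometricallyIntegral_of_isAlgClosed sY
  let gF : Spec (CommRingCat.of Ω) ⟶ Spec (CommRingCat.of F) := Spec.map (CommRingCat.ofHom (algebraMap F Ω))
  let Xo : Over (Spec (CommRingCat.of Ω)) := Over.mk (pullback.snd sY gF)
  let Co : Over (Spec (CommRingCat.of Ω)) := Over.mk (pullback.snd sX gF)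
  let jo : Co ⟶ Xo := Over.homMk (pullback.map sX gF sY gF j (𝟙 _) (𝟙 _)
    (by rw [Category.comp_id, hjs]) (by rw [Category.comp_id, Category.id_comp])) (by
      show pullback.map _ _ _ _ _ _ _ _ _ ≫ pullback.snd sY gF = _
      rw [pullback.lift_snd, Category.comp_id]
      rfl)
  let χ : A →+* B₁ := (algebraMap B B₁).comp (ξ.toRingHom.codRestrict B.toSubring hξB)
  have hχ : ∀ c : k, χ (algebraMap k A c) = algebraMap F B₁ (algebraMap k F c) := fun c => by
    refine Subtype.ext ?_
    show algebraMap B L ⟨ξ (algebraMap k A c), _⟩ = algebraMap F L (algebraMap k F c)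
    rw [IsScalarTower.algebraMap_apply F B L]
    congr 1
    exact Subtype.ext (ξ.commutes c)
  let φ : Spec (CommRingCat.of B₁) ⟶ U.left := Spec.map (CommRingCat.ofHom χ) ≫ hU₀.fromSpec
  have hgk : gF ≫ Spec.map (CommRingCat.ofHom (algebraMap k F)) = g := by
    rw [← Spec.map_comp, ← hg]
    rfl
  have hφ : φ ≫ U.hom = sX ≫ Spec.map (CommRingCat.ofHom (algebraMap k F)) := by
    rw [Category.assoc, show hU₀.fromSpec ≫ U.hom = pA from rfl, ← hpA, ← Spec.map_comp, ← Spec.map_comp]
    congr 1
    ext c
    exact congrArg Subtype.val (hχ c)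
  let fo : Co ⟶ bc g U := Over.homMk (pullback.lift (pullback.fst sX gF ≫ φ) (pullback.snd sX gF) (by
      rw [Category.assoc, hφ, ← hgk, pullback.condition_assoc])) (pullback.lift_snd _ _ _)
  -- the point over `a`
  obtain ⟨M, hM, hεM⟩ : ∃ M : Ideal B₁, M.IsMaximal ∧ M.comap (algebraMap B B₁) = RingHom.ker ε.toRingHom := by
    have : (RingHom.ker ε.toRingHom).IsMaximal :=
      RingHom.ker_isMaximal_of_surjective ε.toRingHom fun c => ⟨algebraMap F B c, ε.commutes c⟩
    obtain ⟨M, hM, hMc⟩ := Ideal.exists_ideal_over_maximal_of_isIntegral (S := B₁) (RingHom.ker ε.toRingHom)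
      (by rw [(RingHom.injective_iff_ker_eq_bot _).1 hBB₁]; exact bot_le)
    exact ⟨M, hM, hMc⟩
  letI := Ideal.Quotient.field M
  have : Module.Finite F (B₁ ⧸ M) := finite_of_finite_type_of_isJacobsonRing F _
  have hbM : Function.Bijective (algebraMap F (B₁ ⧸ M)) := IsAlgClosed.algebraMap_bijective_of_isIntegral
  let eM : F ≃ₐ[F] B₁ ⧸ M := AlgEquiv.ofBijective (Algebra.ofId F (B₁ ⧸ M)) hbM
  let ε₁ : B₁ →ₐ[F] F := eM.symm.toAlgHom.comp (Ideal.Quotient.mkₐ F M)
  have hε₁ : ∀ z, ε₁ (algebraMap B B₁ z) = ε z := fun z => by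
    have h : z - algebraMap F B (ε z) ∈ M.comap (algebraMap B B₁) := by
      rw [hεM, RingHom.mem_ker]
      show ε (z - algebraMap F B (ε z)) = 0
      rw [map_sub, ε.commutes]
      exact sub_self _
    rw [Ideal.mem_comap, map_sub, ← IsScalarTower.algebraMap_apply, ← Ideal.Quotient.eq] at h
    refine eM.injective ?_
    show eM (eM.symm (Ideal.Quotient.mk M _)) = _
    rw [eM.apply_symm_apply, h]
    rfl
  have hv : Function.Injective B.val.toRingHom := Subtype.val_injective
  let δ : B₁ →+* Ω := (IsFractionRing.lift (K := L) hv).comp B₁.val.toRingHom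
  have hδ : ∀ z : B, δ (algebraMap B B₁ z) = (z : Ω) := fun z => IsFractionRing.lift_algebraMap hv z
  have hδF : ∀ c : F, δ (algebraMap F B₁ c) = algebraMap F Ω c := fun c => by
    rw [IsScalarTower.algebraMap_apply F B B₁, hδ]
    rfl
  let c₀ : 𝟙_ (Over (Spec (CommRingCat.of Ω))) ⟶ Co := Over.homMk (pullback.lift
    (gF ≫ Spec.map (CommRingCat.ofHom ε₁.toRingHom)) (𝟙 _) (by
      rw [Category.assoc, ← Spec.map_comp, Category.id_comp, ← CommRingCat.ofHom_comp,
        show ε₁.toRingHom.comp (algebraMap F B₁) = RingHom.id F from RingHom.ext ε₁.commutes, CommRingCat.ofHom_id,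
        Spec.map_id, Category.comp_id])) (pullback.lift_snd _ _ _)
  let c₁ : 𝟙_ (Over (Spec (CommRingCat.of Ω))) ⟶ Co := Over.homMk (pullback.lift
    (Spec.map (CommRingCat.ofHom δ)) (𝟙 _) (by
      rw [← Spec.map_comp, Category.id_comp, ← CommRingCat.ofHom_comp,
        show δ.comp (algebraMap F B₁) = algebraMap F Ω from RingHom.ext hδF])) (pullback.lift_snd _ _ _)
  refine ⟨Xo, Co, jo, fo, inferInstanceAs (IsProper (pullback.snd sY gF)), inferInstanceAs (Smooth (pullback.snd sY gF)),
    inferInstanceAs (GeometricallyIntegral (pullback.snd sY gF)), ?_, c₀, c₁, ?_, ?_⟩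
  · exact inferInstanceAs (IsOpenImmersion (pullback.map sX gF sY gF j (𝟙 _) (𝟙 _)
      (by rw [Category.comp_id, hjs]) (by rw [Category.comp_id, Category.id_comp])))
  · refine Over.OverMorphism.ext (pullback.hom_ext ?_ ?_)
    · show (pullback.lift _ _ _ ≫ pullback.lift _ _ _) ≫ pullback.fst _ _ = pullback.lift _ _ _ ≫ pullback.fst _ _
      rw [Category.assoc, pullback.lift_fst, pullback.lift_fst_assoc, pullback.lift_fst]
      rw [← hla, ← ha, ← hg]
      simp only [φ, gF, Category.assoc, ← Spec.map_comp_assoc]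
      congr 2
      ext z
      show algebraMap F Ω (ε₁ (χ z)) = algebraMap k Ω (a z)
      rw [show χ z = algebraMap B B₁ ⟨ξ z, hξB z⟩ from rfl, hε₁, hε, ← IsScalarTower.algebraMap_apply]
    · show (pullback.lift _ _ _ ≫ pullback.lift _ _ _) ≫ pullback.snd _ _ = pullback.lift _ _ _ ≫ pullback.snd _ _
      rw [Category.assoc, pullback.lift_snd, pullback.lift_snd, pullback.lift_snd]
  · refine Over.OverMorphism.ext (pullback.hom_ext ?_ ?_)
    · show (pullback.lift _ _ _ ≫ pullback.lift _ _ _) ≫ pullback.fst _ _ = pullback.lift _ _ _ ≫ pullback.fst _ _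
      rw [Category.assoc, pullback.lift_fst, pullback.lift_fst_assoc, pullback.lift_fst]
      rw [← hlξ, ← hξ', ← Category.assoc, ← Spec.map_comp]
      congr 2
      ext z
      show δ (χ z) = ξ z
      exact hδ _
    · show (pullback.lift _ _ _ ≫ pullback.lift _ _ _) ≫ pullback.snd _ _ = pullback.lift _ _ _ ≫ pullback.snd _ _
      rw [Category.assoc, pullback.lift_snd, pullback.lift_snd, pullback.lift_snd]

end Groth.Agent.CubeLib
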