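import Groth.Agent.CubeLib.Box
import Mathlib.RingTheory.Flat.Basic
import Mathlib.AlgebraicGeometry.Morphisms.ClosedImmersion
import Mathlib.AlgebraicGeometry.Morphisms.Separated

/-!
# Functions on a box vanishing on a closed sub-box
-/

set_option autoImplicit false
set_option backward.isDefEq.respectTransparency.types false

universe u

open CategoryTheory CategoryTheory.Limits MonoidalCategory CartesianMonoidalCategory AlgebraicGeometry Opposite
  TopologicalSpace TensorProduct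

namespace Groth.Agent.CubeLib

variable {k : Type u} [Field k] {X X' Y Y' Y₀ Y₀' : Over (Spec (CommRingCat.of k))}

theorem isAffineOpen_inf_sec (X : Over (Spec (CommRingCat.of k))) [IsSeparated X.hom] {U U' : X.left.Opens}
    (hU : IsAffineOpen U) (hU' : IsAffineOpen U') : IsAffineOpen (U ⊓ U') := by
  have : X.left.IsSeparated := ⟨by
    rw [← terminal.comp_from X.hom]
    infer_instance⟩
  exact hU.inf hU'

theorem preimage_box (f : X' ⟶ X) (g : Y' ⟶ Y) (U : X.left.Opens) (W : Y.left.Opens) :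
    (f ⊗ₘ g).left ⁻¹ᵁ box U W = box (f.left ⁻¹ᵁ U) (g.left ⁻¹ᵁ W) := by
  refine Opens.ext (Set.ext fun z => ?_)
  have e1 := congrArg (fun φ : X' ⊗ Y' ⟶ X => φ.left.base z) (tensorHom_fst f g)
  have e2 := congrArg (fun φ : X' ⊗ Y' ⟶ Y => φ.left.base z) (tensorHom_snd f g)
  show (fst X Y).left.base ((f ⊗ₘ g).left.base z) ∈ U ∧ (snd X Y).left.base ((f ⊗ₘ g).left.base z) ∈ W ↔
    f.left.base ((fst X' Y').left.base z) ∈ U ∧ g.left.base ((snd X' Y').left.base z) ∈ W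
  rw [show (fst X Y).left.base ((f ⊗ₘ g).left.base z) = f.left.base ((fst X' Y').left.base z) from e1,
    show (snd X Y).left.base ((f ⊗ₘ g).left.base z) = g.left.base ((snd X' Y').left.base z) from e2]

theorem preimage_box_whisker (g : Y' ⟶ Y) (U : X.left.Opens) (W : Y.left.Opens) :
    (X ◁ g).left ⁻¹ᵁ box U W = box U (g.left ⁻¹ᵁ W) := by
  rw [← id_tensorHom, preimage_box]
  rfl

/-- Functions on `W` vanishing on `Y₀`. -/
noncomputable def Ker (j : Y₀ ⟶ Y) (W : Y.left.Opens) : Submodule k Γ(Y.left, W) :=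
  LinearMap.ker (appLEₐ j W (j.left ⁻¹ᵁ W) le_rfl).toLinearMap

theorem mem_Ker (j : Y₀ ⟶ Y) (W : Y.left.Opens) (b : Γ(Y.left, W)) :
    b ∈ Ker j W ↔ j.left.app W b = 0 := by
  rw [Ker, LinearMap.mem_ker, AlgHom.toLinearMap_apply, appLEₐ_apply, Scheme.Hom.appLE_eq_app]

theorem appLE_mem_Ker {j : Y₀ ⟶ Y} {j' : Y₀' ⟶ Y'} (g : Y' ⟶ Y) (g₀ : Y₀' ⟶ Y₀) (hsq : g₀ ≫ j = j' ≫ g)
    {W : Y.left.Opens} {W' : Y'.left.Opens} (h : W' ≤ g.left ⁻¹ᵁ W) {b : Γ(Y.left, W)} (hb : b ∈ Ker j W) :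
    appLEₐ g W W' h b ∈ Ker j' W' := by
  rw [Ker, LinearMap.mem_ker, AlgHom.toLinearMap_apply] at hb ⊢
  have h1 : j'.left ⁻¹ᵁ W' ≤ (j' ≫ g).left ⁻¹ᵁ W := fun z hz => h hz
  have h3 : j'.left ⁻¹ᵁ W' ≤ g₀.left ⁻¹ᵁ (j.left ⁻¹ᵁ W) := fun z hz => by
    have e := congrArg (fun φ : Y₀' ⟶ Y => φ.left.base z) hsq
    exact (show (g₀ ≫ j).left.base z ∈ W from e ▸ h1 hz)
  rw [appLEₐ_comp _ _ _ _ _ _ _ h1]
  have h2 := appLEₐ_comp g₀ j W (j.left ⁻¹ᵁ W) (j'.left ⁻¹ᵁ W') le_rfl h3 h3 b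
  rw [hb, map_zero] at h2
  rw [h2]
  congr 2
  exact hsq.symm

/-- Inverse image of functions vanishing on the closed subscheme. -/
noncomputable def kerMap {j : Y₀ ⟶ Y} {j' : Y₀' ⟶ Y'} (g : Y' ⟶ Y) (g₀ : Y₀' ⟶ Y₀) (hsq : g₀ ≫ j = j' ≫ g)
    {W : Y.left.Opens} {W' : Y'.left.Opens} (h : W' ≤ g.left ⁻¹ᵁ W) : Ker j W →ₗ[k] Ker j' W' :=
  ((appLEₐ g W W' h).toLinearMap ∘ₗ (Ker j W).subtype).codRestrict (Ker j' W') fun b =>
    appLE_mem_Ker g g₀ hsq h b.2

/-- Restriction of functions vanishing on the closed subscheme. -/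
noncomputable def kerRes (j : Y₀ ⟶ Y) {W W' : Y.left.Opens} (h : W' ≤ W) : Ker j W →ₗ[k] Ker j W' :=
  kerMap (j := j) (j' := j) (𝟙 Y) (𝟙 Y₀) (by simp) h

/-- `a ⊗ b ↦ a · b` for `b` vanishing on `Y₀`. -/
noncomputable def kerBox (j : Y₀ ⟶ Y) (U : X.left.Opens) (W : Y.left.Opens) :
    Γ(X.left, U) ⊗[k] Ker j W →ₗ[k] Γ((X ⊗ Y).left, box U W) :=
  (boxMap U W).toLinearMap ∘ₗ (Ker j W).subtype.lTensor Γ(X.left, U)

theorem kerBox_natural {j : Y₀ ⟶ Y} {j' : Y₀' ⟶ Y'} (f : X' ⟶ X) (g : Y' ⟶ Y) (g₀ : Y₀' ⟶ Y₀)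
    (hsq : g₀ ≫ j = j' ≫ g) {U : X.left.Opens} {W : Y.left.Opens} {U' : X'.left.Opens} {W' : Y'.left.Opens}
    (h : U' ≤ f.left ⁻¹ᵁ U) (h' : W' ≤ g.left ⁻¹ᵁ W) (t : Γ(X.left, U) ⊗[k] Ker j W) :
    appLEₐ (f ⊗ₘ g) (box U W) (box U' W') (le_preimage_box f g h h') (kerBox j U W t) =
      kerBox j' U' W' (TensorProduct.map (appLEₐ f U U' h).toLinearMap (kerMap g g₀ hsq h') t) := by
  simp only [kerBox, LinearMap.comp_apply, AlgHom.toLinearMap_apply]
  rw [boxMap_map _ _ h h']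
  congr 1
  induction t using TensorProduct.induction_on with
  | zero => simp
  | add a b ha hb => simp only [map_add, ha, hb]
  | tmul a b => rfl

theorem kerBox_res (j : Y₀ ⟶ Y) {U U' : X.left.Opens} {W W' : Y.left.Opens} (h : U' ≤ U) (h' : W' ≤ W)
    (t : Γ(X.left, U) ⊗[k] Ker j W) :
    resₐ (box_mono h h') (kerBox j U W t) = kerBox j U' W' (TensorProduct.map (resₐ h).toLinearMap (kerRes j h') t) := by
  simp only [kerBox, LinearMap.comp_apply, AlgHom.toLinearMap_apply]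
  rw [boxMap_res h h']
  congr 1
  induction t using TensorProduct.induction_on with
  | zero => simp
  | add a b ha hb => simp only [map_add, ha, hb]
  | tmul a b => rfl

theorem kerBox_injective (j : Y₀ ⟶ Y) {U : X.left.Opens} {W : Y.left.Opens} (hU : IsAffineOpen U)
    (hW : IsAffineOpen W) : Function.Injective (kerBox j U W) :=
  (bijective_boxMap hU hW).1.comp
    (Module.Flat.lTensor_preserves_injective_linearMap _ (Ker j W).injective_subtype)

/-- Over affine boxes, the functions vanishing on `X × Y₀` are the sums of such products. -/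
theorem exists_kerBox (j : Y₀ ⟶ Y) [IsClosedImmersion j.left] {U : X.left.Opens} {W : Y.left.Opens}
    (hU : IsAffineOpen U) (hW : IsAffineOpen W) {r : Γ((X ⊗ Y).left, box U W)}
    (hr : (X ◁ j).left.app (box U W) r = 0) : ∃ t, kerBox j U W t = r := by
  obtain ⟨s, rfl⟩ := (bijective_boxMap hU hW).2 r
  have hW₀ : IsAffineOpen (j.left ⁻¹ᵁ W) := hW.preimage j.left
  have hexact : Function.Exact (Ker j W).subtype (appLEₐ j W (j.left ⁻¹ᵁ W) le_rfl).toLinearMap :=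
    LinearMap.exact_subtype_ker_map _
  have h0 : (appLEₐ j W (j.left ⁻¹ᵁ W) le_rfl).toLinearMap.lTensor Γ(X.left, U) s = 0 := by
    refine (bijective_boxMap hU hW₀).1 ?_
    rw [map_zero]
    have h1 : box U (j.left ⁻¹ᵁ W) ≤ (X ◁ j).left ⁻¹ᵁ box U W := (preimage_box_whisker j U W).ge
    have h2 : appLEₐ (X ◁ j) (box U W) (box U (j.left ⁻¹ᵁ W)) h1 (boxMap U W s) = 0 := by
      rw [appLEₐ_apply, Scheme.Hom.appLE, ConcreteCategory.comp_apply, hr, map_zero]
    rw [← h2]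
    have key := boxMap_map (𝟙 X) j (U := U) (W := W) (U' := U) (W' := j.left ⁻¹ᵁ W) le_rfl le_rfl s
    have hone : ∀ x : Γ(X.left, U), appLEₐ (𝟙 X) U U le_rfl x = x := fun x => by
      show resₐ (le_refl U) x = x
      rw [resₐ_apply]
      exact congr($(X.left.presheaf.map_id (op U)) x)
    have e : ∀ s' : Γ(X.left, U) ⊗[k] Γ(Y.left, W),
        Algebra.TensorProduct.map (appLEₐ (𝟙 X) U U le_rfl) (appLEₐ j W (j.left ⁻¹ᵁ W) le_rfl) s' =
          (appLEₐ j W (j.left ⁻¹ᵁ W) le_rfl).toLinearMap.lTensor Γ(X.left, U) s' := fun s' => by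
      induction s' using TensorProduct.induction_on with
      | zero => simp
      | add a b ha hb => simp only [map_add, ha, hb]
      | tmul a b => simp [hone]
    rw [← e, ← key]
    congr 2
  obtain ⟨t, rfl⟩ := ((Module.Flat.lTensor_exact Γ(X.left, U) hexact) s).1 h0
  exact ⟨t, rfl⟩

theorem surjective_whisker_app [IsSeparated X.hom] [IsSeparated Y.hom] (j : Y₀ ⟶ Y) [IsClosedImmersion j.left]
    [IsClosedImmersion (X ◁ j).left] {U : X.left.Opens} {W : Y.left.Opens}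
    (hU : IsAffineOpen U) (hW : IsAffineOpen W) : Function.Surjective ((X ◁ j).left.app (box U W)) :=
  (X ◁ j).left.app_surjective _ (isAffineOpen_box hU hW)

end Groth.Agent.CubeLib
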