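import Groth.Agent.CubeLib.PrimeStep
import Groth.Agent.CubeLib.FourPoint
import Groth.Agent.CubeLib.JoinGeneric

/-!
# Trivial on the geometric generic fibre: trivial over a cover of the base

`T` a smooth variety and `W` a variety over an algebraically closed field: an invertible module on `T × W` trivial on
the geometric generic fibre over `T` has generators over the members of an open cover of `T`.
-/

set_option autoImplicit false
set_option backward.isDefEq.respectTransparency.types false

universe u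

open CategoryTheory CategoryTheory.Limits MonoidalCategory CartesianMonoidalCategory AlgebraicGeometry Opposite
  TopologicalSpace
open Groth.Agent.PicLib Groth.Agent.AmpleLib Groth.Agent.Coherent

namespace Groth.Agent.CubeLib

/-- Near a prime with factorial local ring, an element is a product of prime elements up to a unit. -/
theorem exists_prime_product_near {R : Type u} [CommRing R] [IsDomain R] [IsNoetherianRing R] (Q : Ideal R)
    [Q.IsPrime] [UniqueFactorizationMonoid (Localization.AtPrime Q)] (h : R) (hh : h ≠ 0) :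
    ∃ (f : R), f ∉ Q ∧ ∃ (l : ℕ) (ϖ : Fin l → Localization.Away f),
      (∀ i, IsUnit (ϖ i) ∨ Prime (ϖ i)) ∧ Associated (∏ i, ϖ i) (algebraMap R (Localization.Away f) h) := by
  classical
  let S := Localization.AtPrime Q
  have hSinj : Function.Injective (algebraMap R S) :=
    IsLocalization.injective S Q.primeCompl_le_nonZeroDivisors
  obtain ⟨F, hFp, hFa⟩ := UniqueFactorizationMonoid.exists_prime_factors (algebraMap R S h)
    (fun h0 => hh (hSinj (h0.trans (map_zero _).symm)))
  let b : Fin F.toList.length → S := fun i => F.toList.get i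
  have hb : ∀ i, Prime (b i) := fun i => hFp _ (Multiset.mem_toList.1 (List.get_mem F.toList i))
  have hbprod : Associated (∏ i, b i) (algebraMap R S h) := by
    rw [show ∏ i, b i = F.prod by rw [← List.prod_ofFn, List.ofFn_get, Multiset.prod_toList]]
    exact hFa
  choose p s hps using fun i => IsLocalization.exists_mk'_eq Q.primeCompl (b i)
  have hp : ∀ i, Associated (b i) (algebraMap R S (p i)) := fun i => by
    refine ⟨(IsLocalization.map_units S (s i)).unit, ?_⟩
    rw [IsUnit.unit_spec, ← hps i, IsLocalization.mk'_spec]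
  have hp' : ∀ i, Prime (algebraMap R S (p i)) := fun i => (hp i).prime (hb i)
  obtain ⟨w, hw⟩ : Associated (∏ i, algebraMap R S (p i)) (algebraMap R S h) := by
    exact (Associated.prod Finset.univ _ _ fun i _ => (hp i).symm).trans hbprod
  obtain ⟨⟨c, d⟩, hcd⟩ := IsLocalization.surj Q.primeCompl (w : S)
  -- `d h = c ∏ p`
  have hmul : (d : R) * h = c * ∏ i, p i := hSinj (by
    rw [map_mul, map_mul, map_prod, ← hw, ← hcd]
    ring)
  have hcQ : c ∉ Q := fun hc => by
    have h1 : IsUnit (algebraMap R S c) := hcd ▸ w.isUnit.mul (IsLocalization.map_units S d)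
    exact (IsLocalization.AtPrime.isUnit_to_map_iff S Q c).1 h1 hc
  -- the primes near `Q`
  have hnear : ∀ i, ∃ g : R, g ∉ Q ∧ ∀ x ∈ (Ideal.span {algebraMap R S (p i)}).comap (algebraMap R S),
      p i ∣ g * x := by
    intro i
    obtain ⟨t, ht⟩ : ((Ideal.span {algebraMap R S (p i)}).comap (algebraMap R S)).FG :=
      (isNoetherian_def.1 ‹IsNoetherianRing R›) _
    have hone : ∀ x ∈ t, ∃ g : R, g ∉ Q ∧ p i ∣ g * x := by
      intro x hx
      have hmem : x ∈ (Ideal.span {algebraMap R S (p i)}).comap (algebraMap R S) := ht ▸ Ideal.subset_span hx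
      obtain ⟨z, hz⟩ := Ideal.mem_span_singleton'.1 (Ideal.mem_comap.1 hmem)
      obtain ⟨⟨u, v⟩, huv⟩ := IsLocalization.surj Q.primeCompl z
      refine ⟨v, v.2, u, hSinj ?_⟩
      rw [map_mul, map_mul, ← hz, ← huv]
      ring
    choose! g hgQ hg using hone
    refine ⟨∏ x ∈ t, g x, fun hmem => ?_, fun x hx => ?_⟩
    · obtain ⟨x, hx, hxQ⟩ := (Ideal.IsPrime.prod_mem_iff (hp := ‹Q.IsPrime›)).1 hmem
      exact hgQ x hx hxQ
    · rw [← ht] at hx
      induction hx using Submodule.span_induction with
      | mem y hy => exact (hg y hy).trans (mul_dvd_mul_right (Finset.dvd_prod_of_mem g hy) y)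
      | zero => simp
      | add a b _ _ ha hb => rw [mul_add]; exact dvd_add ha hb
      | smul r a _ ha => rw [smul_eq_mul, mul_left_comm]; exact ha.mul_left r
  choose g hgQ hg using hnear
  let f : R := (d : R) * c * ∏ i, g i
  have hfQ : f ∉ Q := by
    refine (‹Q.IsPrime›).mul_notMem ((‹Q.IsPrime›).mul_notMem d.2 hcQ) fun hmem => ?_
    obtain ⟨i, -, hi⟩ := (Ideal.IsPrime.prod_mem_iff (hp := ‹Q.IsPrime›)).1 hmem
    exact hgQ i hi
  refine ⟨f, hfQ, F.toList.length, fun i => algebraMap R (Localization.Away f) (p i), fun i => Or.inr ?_, ?_⟩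
  · let T := Localization.Away f
    have hf0 : f ≠ 0 := fun h0 => hfQ (h0 ▸ Q.zero_mem)
    let Pi := (Ideal.span {algebraMap R S (p i)}).comap (algebraMap R S)
    have hSp : (Ideal.span {algebraMap R S (p i)}).IsPrime := (Ideal.span_singleton_prime (hp' i).ne_zero).2 (hp' i)
    have hPi : Pi.IsPrime := Ideal.IsPrime.comap _
    have hfPi : f ∉ Pi := fun hmem => by
      obtain ⟨z, hz⟩ := Ideal.mem_span_singleton'.1 (Ideal.mem_comap.1 hmem)
      exact (hp' i).not_unit (isUnit_of_mul_isUnit_right (hz ▸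
        IsLocalization.map_units S (⟨f, hfQ⟩ : Q.primeCompl)))
    have hdisj : Disjoint ((Submonoid.powers f : Submonoid R) : Set R) (Pi : Set R) := by
      rw [Set.disjoint_left]
      rintro _ ⟨n, rfl⟩ hmem
      exact hfPi (hPi.mem_of_pow_mem n hmem)
    have hT := IsLocalization.isPrime_of_isPrime_disjoint (Submonoid.powers f) T Pi hPi hdisj
    have heq : Pi.map (algebraMap R T) = Ideal.span {algebraMap R T (p i)} := by
      refine le_antisymm (Ideal.map_le_iff_le_comap.2 fun x hx => ?_) ?_
      · rw [Ideal.mem_comap, Ideal.mem_span_singleton]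
        have hu : IsUnit (algebraMap R T (g i)) := isUnit_of_dvd_unit (map_dvd _ ((Finset.dvd_prod_of_mem g (Finset.mem_univ i)).mul_left _))
          (IsLocalization.Away.algebraMap_isUnit f)
        refine hu.dvd_mul_left.1 ?_
        rw [← map_mul]
        exact map_dvd _ (hg i x hx)
      · rw [Ideal.span_singleton_le_iff_mem]
        exact Ideal.mem_map_of_mem _ (Ideal.mem_comap.2 (Ideal.mem_span_singleton_self _))
    rw [heq] at hT
    refine (Ideal.span_singleton_prime fun h0 => (hp' i).ne_zero ?_).1 hT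
    rw [IsLocalization.injective T (powers_le_nonZeroDivisors_of_noZeroDivisors hf0) (h0.trans (map_zero _).symm),
      map_zero]
  · let T := Localization.Away f
    have hu : IsUnit (algebraMap R T f) := IsLocalization.Away.algebraMap_isUnit f
    have hud : IsUnit (algebraMap R T d) := isUnit_of_dvd_unit (map_dvd _ (((dvd_mul_right (d : R) c)).mul_right _)) hu
    have huc : IsUnit (algebraMap R T c) := isUnit_of_dvd_unit (map_dvd _ (((dvd_mul_left c (d : R))).mul_right _)) hu
    have e := congrArg (algebraMap R T) hmul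
    rw [map_mul, map_mul, map_prod] at e
    calc Associated (∏ i, algebraMap R T (p i)) (algebraMap R T c * ∏ i, algebraMap R T (p i)) := (associated_unit_mul_left _ _ huc).symm
      _ = algebraMap R T (d : R) * algebraMap R T h := e.symm
      Associated _ (algebraMap R T h) := associated_unit_mul_left _ _ hud

variable {k : Type u} [Field k] [IsAlgClosed k] {T W : Over (Spec (CommRingCat.of k))}

/-- The map from the geometric generic fibre. -/
noncomputable def genericFibreMap {Ω : Type u} [Field Ω] {g : Spec (CommRingCat.of Ω) ⟶ Spec (CommRingCat.of k)}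
    (η : Spec (CommRingCat.of Ω) ⟶ T.left) (hη : η ≫ T.hom = g) : (bc g W).left ⟶ (T ⊗ W).left :=
  (IsPullback.of_hasPullback T.hom W.hom : IsPullback (fst T W).left (snd T W).left T.hom W.hom).lift
    ((bc g W).hom ≫ η) (bcFst g W) (by rw [Category.assoc, hη]; exact (isPullback_bc g W).w.symm)

theorem genericFibreMap_fst {Ω : Type u} [Field Ω] {g : Spec (CommRingCat.of Ω) ⟶ Spec (CommRingCat.of k)}
    (η : Spec (CommRingCat.of Ω) ⟶ T.left) (hη : η ≫ T.hom = g) :
    genericFibreMap (W := W) η hη ≫ (fst T W).left = (bc g W).hom ≫ η := IsPullback.lift_fst _ _ _ _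

theorem genericFibreMap_snd {Ω : Type u} [Field Ω] {g : Spec (CommRingCat.of Ω) ⟶ Spec (CommRingCat.of k)}
    (η : Spec (CommRingCat.of Ω) ⟶ T.left) (hη : η ≫ T.hom = g) :
    genericFibreMap (W := W) η hη ≫ (snd T W).left = bcFst g W := IsPullback.lift_snd _ _ _ _

/-- Local generators. -/
theorem exists_local_gen [Smooth T.hom] [IsIntegral T.left] [LocallyOfFiniteType W.hom] [QuasiCompact W.hom]
    [GeometricallyIntegral W.hom] {L : (T ⊗ W).left.Modules} (hL : PicF.IsInvertible L)
    {Ω : Type u} [Field Ω] {g : Spec (CommRingCat.of Ω) ⟶ Spec (CommRingCat.of k)}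
    (η : Spec (CommRingCat.of Ω) ⟶ T.left) (hη : η ≫ T.hom = g)
    (hgen : η (IsLocalRing.closedPoint Ω) = genericPoint T.left)
    (h : PicM.pull (genericFibreMap (W := W) η hη) (PicM.of hL) = 1) (x : T.left) :
    ∃ V : T.left.Opens, x ∈ V ∧ ∃ s : Γ(L, (fst T W).left ⁻¹ᵁ V), IsGen L _ s := by
  classical
  obtain ⟨U₀, hU₀, hxU₀, -⟩ := exists_isAffineOpen_mem_and_subset (x := x) (U := ⊤) trivial
  have : IsLocallyNoetherian T.left := LocallyOfFiniteType.isLocallyNoetherian T.hom
  have : Nonempty U₀.toScheme := ⟨⟨x, hxU₀⟩⟩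
  let R : Type u := Γ(T.left, U₀)
  letI : CommRing R := inferInstanceAs (CommRing Γ(T.left, U₀))
  have : IsDomain R := inferInstanceAs (IsDomain Γ(T.left, U₀))
  have : IsNoetherianRing R := IsLocallyNoetherian.component_noetherian ⟨U₀, hU₀⟩
  let pR := hU₀.fromSpec ≫ T.hom
  letI : Algebra k R := (Spec.preimage pR).hom.toAlgebra
  have hpR : Spec.map (CommRingCat.ofHom (algebraMap k R)) = pR := Spec.map_preimage pR
  have hηU₀ : η (IsLocalRing.closedPoint Ω) ∈ U₀ := by
    rw [hgen]
    exact ((genericPoint_spec T.left).mem_open_set_iff U₀.isOpen).2 ⟨_, trivial, hxU₀⟩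
  let lη : Spec (CommRingCat.of Ω) ⟶ Spec (CommRingCat.of R) := IsOpenImmersion.lift hU₀.fromSpec η (by
    rintro _ ⟨p, rfl⟩
    rw [hU₀.range_fromSpec, Subsingleton.elim (α := PrimeSpectrum Ω) p (IsLocalRing.closedPoint Ω)]
    exact hηU₀)
  have hlη : lη ≫ hU₀.fromSpec = η := IsOpenImmersion.lift_fac _ _ _
  letI : Algebra R Ω := (Spec.preimage lη).hom.toAlgebra
  have hlη' : Spec.map (CommRingCat.ofHom (algebraMap R Ω)) = lη := Spec.map_preimage lη
  letI : Algebra k Ω := (Spec.preimage g).hom.toAlgebra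
  have hg : Spec.map (CommRingCat.ofHom (algebraMap k Ω)) = g := Spec.map_preimage g
  have : IsScalarTower k R Ω := IsScalarTower.of_algebraMap_eq fun c => by
    have e : CommRingCat.ofHom (algebraMap k Ω) = CommRingCat.ofHom (algebraMap k R) ≫ CommRingCat.ofHom (algebraMap R Ω) :=
      Spec.map_injective (by
        rw [hg, Spec.map_comp, hlη', hpR]
        exact (hη.symm.trans (congrArg (· ≫ T.hom) hlη.symm)).trans (Category.assoc _ _ _))
    exact congr($e c)
  have hp : lη (IsLocalRing.closedPoint Ω) = (⊥ : PrimeSpectrum R) := by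
    refine hU₀.fromSpec.isOpenEmbedding.injective ?_
    refine (show hU₀.fromSpec (lη (IsLocalRing.closedPoint Ω)) = η (IsLocalRing.closedPoint Ω) from
      congr($hlη (IsLocalRing.closedPoint Ω))).trans (hgen.trans ?_)
    rw [← genericPoint_eq_of_isOpenImmersion hU₀.fromSpec, genericPoint_eq_bot_of_affine]
  have : FaithfulSMul R Ω := by
    rw [faithfulSMul_iff_algebraMap_injective, RingHom.injective_iff_ker_eq_bot]
    rw [← hlη'] at hp
    have h1 := congrArg PrimeSpectrum.asIdeal hp
    change Ideal.comap (algebraMap R Ω) (IsLocalRing.maximalIdeal Ω) = ⊥ at h1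
    rwa [IsLocalRing.maximalIdeal_eq_bot] at h1
  -- the chart
  let P := pullback W.hom pR
  let π : P ⟶ Spec (CommRingCat.of R) := pullback.snd W.hom pR
  let q : P ⟶ W.left := pullback.fst W.hom pR
  have H : IsPullback q π W.hom (Spec.map (CommRingCat.ofHom (algebraMap k R))) := by
    rw [hpR]; exact IsPullback.of_hasPullback _ _
  have HT : IsPullback (fst T W).left (snd T W).left T.hom W.hom := IsPullback.of_hasPullback T.hom W.hom
  let j : P ⟶ (T ⊗ W).left := HT.lift (π ≫ hU₀.fromSpec) q (by
    rw [Category.assoc]; exact pullback.condition.symm)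
  have Hj : IsPullback j π (fst T W).left hU₀.fromSpec :=
    IsPullback.of_right (by rw [HT.lift_snd]; exact IsPullback.of_hasPullback W.hom pR) (HT.lift_fst _ _ _) HT.flip
  have : IsOpenImmersion j := MorphismProperty.of_isPullback Hj.flip inferInstance
  let gΩ : (bc g W).left ⟶ P := (IsPullback.of_hasPullback W.hom pR).lift (bcFst g W) ((bc g W).hom ≫ lη) (by
    rw [Category.assoc, show lη ≫ pR = g from (Category.assoc _ _ _).symm.trans ((congrArg (· ≫ T.hom) hlη).trans hη)]
    exact (isPullback_bc g W).w)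
  have hcomp : Spec.map (CommRingCat.ofHom (algebraMap R Ω)) ≫ Spec.map (CommRingCat.ofHom (algebraMap k R)) = g := by
    rw [← Spec.map_comp, ← CommRingCat.ofHom_comp, ← IsScalarTower.algebraMap_eq, hg]
  have HΩ : IsPullback gΩ (bc g W).hom π (Spec.map (CommRingCat.ofHom (algebraMap R Ω))) :=
    IsPullback.of_right (by rw [(IsPullback.of_hasPullback W.hom pR).lift_fst, hcomp]; exact isPullback_bc g W)
      (by rw [(IsPullback.of_hasPullback W.hom pR).lift_snd, hlη']) H
  have hgj : gΩ ≫ j = genericFibreMap (W := W) η hη := by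
    refine HT.hom_ext ?_ ?_
    · rw [Category.assoc, HT.lift_fst, genericFibreMap_fst, ← Category.assoc,
        (IsPullback.of_hasPullback W.hom pR).lift_snd, Category.assoc, hlη]
    · rw [Category.assoc, HT.lift_snd, genericFibreMap_snd, (IsPullback.of_hasPullback W.hom pR).lift_fst]
  obtain ⟨a, ha, t, ht⟩ := exists_gen_basicOpen_of_geometric_generic W.hom π q H (PicLoc.isInvertible_pullback j hL)
    (bc g W).hom gΩ HΩ (by rw [← PicM.pull_of j hL, PicM.pull_pull, hgj, h])
  -- clear the prime factors near `x`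
  let Q := (hU₀.primeIdealOf ⟨x, hxU₀⟩)
  have : UniqueFactorizationMonoid (Localization.AtPrime Q.asIdeal) := by
    letI := TopCat.Presheaf.algebra_section_stalk T.left.presheaf (⟨x, hxU₀⟩ : U₀)
    have := hU₀.isLocalization_stalk ⟨x, hxU₀⟩
    exact (IsLocalization.algEquiv Q.asIdeal.primeCompl (Localization.AtPrime Q.asIdeal)
      (T.left.presheaf.stalk x)).toRingEquiv.toMulEquiv.symm.uniqueFactorizationMonoid (ufd_of_smooth x)
  obtain ⟨f, hfQ, l, ϖ, hϖ, hassoc⟩ := exists_prime_product_near Q.asIdeal a ha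
  let R' := Localization.Away f
  have hf0 : f ≠ 0 := fun h0 => hfQ (h0 ▸ Q.asIdeal.zero_mem)
  have : IsDomain R' := IsLocalization.isDomain_localization (powers_le_nonZeroDivisors_of_noZeroDivisors hf0)
  have : IsNoetherianRing R' := IsLocalization.isNoetherianRing (Submonoid.powers f) R' inferInstance
  let e : Spec (CommRingCat.of R') ⟶ Spec (CommRingCat.of R) := Spec.map (CommRingCat.ofHom (algebraMap R R'))
  have : IsOpenImmersion e := IsOpenImmersion.of_isLocalization f
  let j' := pullback.fst π e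
  have He : IsPullback j' (pullback.snd π e) π e := IsPullback.of_hasPullback π e
  have : IsOpenImmersion j' := inferInstanceAs (IsOpenImmersion (pullback.fst π e))
  have hfun : j'.appTop (baseFun π a) = baseFun (pullback.snd π e) (algebraMap R R' a) := by
    show j'.appTop (π.appTop ((Scheme.ΓSpecIso (CommRingCat.of R)).inv a)) =
      (pullback.snd π e).appTop ((Scheme.ΓSpecIso (CommRingCat.of R')).inv (CommRingCat.ofHom (algebraMap R R') a))
    rw [← ConcreteCategory.comp_apply, ← Scheme.Hom.comp_appTop, He.w, Scheme.Hom.comp_appTop,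
      ConcreteCategory.comp_apply]
    exact congrArg _ congr($((Scheme.ΓSpecIso_inv_naturality (CommRingCat.ofHom (algebraMap R R'))).symm) a)
  obtain ⟨w, hw⟩ := hassoc
  have hpre : (pullback π e).basicOpen (baseFun (pullback.snd π e) (∏ i, ϖ i)) ≤
      j' ⁻¹ᵁ P.basicOpen (baseFun π a) := by
    refine le_trans (le_of_eq ?_) (Scheme.preimage_basicOpen_top j' (baseFun π a)).ge
    rw [hfun, ← hw, basicOpen_baseFun_mul (R := CommRingCat.of R'),
      basicOpen_baseFun_of_isUnit (R := CommRingCat.of R') _ _ w.isUnit, inf_top_eq]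
  have key := eq_one_of_gen_prod l (e ≫ pR) (pullback.snd π e) (j' ≫ q)
    (by rw [← hpR]; exact He.paste_horiz H) ϖ hϖ
    (PicLoc.isInvertible_pullback j' (PicLoc.isInvertible_pullback j hL)) ((isGen_pullSec j' ht (PicLoc.isInvertible_pullback j hL)).restrict hpre)
  obtain ⟨s, hs⟩ := exists_isGen_top key
  obtain ⟨s₁, hs₁⟩ := exists_isGen_image j' _ hs
  obtain ⟨s₂, hs₂⟩ := exists_isGen_image j L hs₁
  refine ⟨hU₀.fromSpec ''ᵁ (e ''ᵁ ⊤), ?_, ?_⟩
  · refine ⟨Q, ?_, hU₀.fromSpec_primeIdealOf ⟨x, hxU₀⟩⟩
    rw [Scheme.Hom.image_top_eq_opensRange]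
    show Q ∈ Set.range (PrimeSpectrum.comap (algebraMap R R'))
    rw [PrimeSpectrum.localization_away_comap_range R' f]
    exact hfQ
  · have himg : (fst T W).left ⁻¹ᵁ (hU₀.fromSpec ''ᵁ (e ''ᵁ ⊤)) ≤ j ''ᵁ (j' ''ᵁ ⊤) := by
      intro z hz
      obtain ⟨y, hy, hyz⟩ := hz
      obtain ⟨o, ho⟩ : z ∈ Set.range j := by
        rw [← Hj.isoPullback_hom_fst, Scheme.Hom.comp_base, TopCat.coe_comp, Set.range_comp,
          Set.range_eq_univ.2 Hj.isoPullback.hom.surjective, Set.image_univ, Scheme.Pullback.range_fst]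
        exact ⟨y, hyz⟩
      refine ⟨o, ?_, ho⟩
      have hπo : π o = y := hU₀.fromSpec.isOpenEmbedding.injective
        ((congr($(Hj.w) o)).symm.trans ((congrArg (fst T W).left.base ho).trans hyz.symm))
      obtain ⟨o', ho'⟩ : o ∈ Set.range j' := by
        rw [show j' = pullback.fst π e from rfl, Scheme.Pullback.range_fst]
        obtain ⟨y', -, hy'⟩ := hy
        exact ⟨y', hy'.trans hπo.symm⟩
      exact ⟨o', trivial, ho'⟩
    exact ⟨_, hs₂.restrict himg⟩

end Groth.Agent.CubeLib
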