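import Groth.Agent.CubeLib.Infinitesimal
import Groth.Agent.PicLib.FormalGen

/-!
# Triviality spreads from a closed fibre to a neighbourhood
-/

set_option autoImplicit false
set_option backward.isDefEq.respectTransparency.types false

universe u

open CategoryTheory CategoryTheory.Limits MonoidalCategory CartesianMonoidalCategory AlgebraicGeometry Opposite
  TopologicalSpace
open Groth.Agent.PicLib Groth.Agent.AmpleLib Groth.Agent.Coherent

namespace Groth.Agent.CubeLib

variable {k : Type u} [Field k] {X Y : Over (Spec (CommRingCat.of k))} [IsProper X.hom] [IsProper Y.hom]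
  (B : Type u) [CommRing B] [IsNoetherianRing B] (I : Ideal B) [I.IsMaximal]
  (s : Spec (CommRingCat.of B) ⟶ Spec (CommRingCat.of k))

/-- Projection to the affine base. -/
noncomputable abbrev toBase : X ⊗ (Y ⊗ Over.mk s) ⟶ Over.mk s := snd X (Y ⊗ Over.mk s) ≫ snd Y (Over.mk s)

/-- Near a closed fibre trivial together with the axes, the module has a generator. -/
theorem exists_isGen_near (hX : Function.Bijective X.hom.appTop) (hY : Function.Bijective Y.hom.appTop)
    (x₀ : 𝟙_ (Over (Spec (CommRingCat.of k))) ⟶ X) (y₀ : 𝟙_ (Over (Spec (CommRingCat.of k))) ⟶ Y)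
    {L : (X ⊗ (Y ⊗ Over.mk s)).left.Modules} (hL : PicF.IsInvertible L)
    (h0 : PicM.pull (X ◁ (Y ◁ nbhdIncl B I s 0)).left (PicM.of hL) = 1)
    (hx : PicM.pull (lift (toUnit (Y ⊗ Over.mk s) ≫ x₀) (𝟙 (Y ⊗ Over.mk s))).left (PicM.of hL) = 1)
    (hy : PicM.pull (X ◁ lift (toUnit (Over.mk s) ≫ y₀) (𝟙 (Over.mk s))).left (PicM.of hL) = 1) :
    ∃ W : (Spec (CommRingCat.of B)).Opens, (⟨I, inferInstance⟩ : PrimeSpectrum B) ∈ W ∧
      ∃ t : Γ(L, (toBase (X := X) (Y := Y) B s).left ⁻¹ᵁ W), IsGen L _ t := by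
  have : CompactSpace X.left := QuasiCompact.compactSpace_of_compactSpace X.hom
  have : CompactSpace Y.left := QuasiCompact.compactSpace_of_compactSpace Y.hom
  have : QuasiSeparatedSpace X.left := quasiSeparatedSpace_of_quasiSeparated X.hom
  have : QuasiSeparatedSpace Y.left := quasiSeparatedSpace_of_quasiSeparated Y.hom
  have hn := pull_nbhd_eq_one B I s hX hY x₀ y₀ (PicM.of hL) h0 hx hy
  let π := (toBase (X := X) (Y := Y) B s).left
  let _ : (X ⊗ (Y ⊗ Over.mk s)).left.Over (Spec (CommRingCat.of B)) := ⟨π⟩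
  have h1 : IsProper (snd Y (Over.mk s)).left :=
    MorphismProperty.of_isPullback (IsPullback.of_hasPullback Y.hom s) (inferInstanceAs (IsProper Y.hom))
  have h2 : IsProper (snd X (Y ⊗ Over.mk s)).left :=
    MorphismProperty.of_isPullback (IsPullback.of_hasPullback X.hom (Y ⊗ Over.mk s).hom) (inferInstanceAs (IsProper X.hom))
  have hπ : IsProper π := inferInstanceAs (IsProper ((snd X (Y ⊗ Over.mk s)).left ≫ (snd Y (Over.mk s)).left))
  have : IsProper ((X ⊗ (Y ⊗ Over.mk s)).left ↘ Spec (CommRingCat.of B)) := hπ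
  obtain ⟨m, hm⟩ := exists_glocus_of_formal (A := B) I hL fun n => by
    have H : IsPullback (X ◁ (Y ◁ nbhdIncl B I s n)).left
        ((snd X (Y ⊗ nbhd B I s n)).left ≫ (snd Y (nbhd B I s n)).left) π
        (Spec.map (CommRingCat.ofHom (Ideal.Quotient.mk (I ^ (n + 1))))) :=
      (isPullback_whiskerLeft X (Y ◁ nbhdIncl B I s n)).paste_vert (isPullback_whiskerLeft Y (nbhdIncl B I s n))
    show PicM.pull (pullback.fst π _) _ = 1
    refine (congrArg (fun σ => PicM.pull σ (PicM.of hL)) H.isoPullback_inv_fst.symm).trans ?_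
    exact (PicM.pull_pull _ _ _).symm.trans ((congrArg (PicM.pull _) (hn n)).trans (map_one _))
  have hcl : IsClosed (π.base '' (glocus L m : Set (X ⊗ (Y ⊗ Over.mk s)).left)ᶜ) :=
    π.isClosedMap _ (glocus L m).isOpen.isClosed_compl
  refine ⟨⟨_, hcl.isOpen_compl⟩, ?_, resM L le_top m, ?_⟩
  · rintro ⟨p, hp, hpz⟩
    refine hp (hm p ?_)
    show π.base p ∈ _
    rw [hpz]
    exact le_refl I
  · have hle : π ⁻¹ᵁ ⟨_, hcl.isOpen_compl⟩ ≤ glocus L m := fun p hp => not_not.1 fun h => hp ⟨p, h, rfl⟩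
    have := (isGen_glocus m).restrict hle
    rwa [resM_resM] at this

end Groth.Agent.CubeLib
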