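import Groth.Agent.CubeLib.Spreading
import Groth.Agent.CubeLib.CubePoints
import Groth.Agent.PicLib.GenericTriv

/-!
# Removing prime vertical divisors

`W` geometrically integral over a field, `R` a Noetherian domain: an invertible module on `W × Spec R` with a
generator outside a product of prime elements of `R` is trivial.
-/

set_option autoImplicit false
set_option backward.isDefEq.respectTransparency.types false

universe u

open CategoryTheory CategoryTheory.Limits AlgebraicGeometry Opposite TopologicalSpace TensorProduct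
open Groth.Agent.PicLib Groth.Agent.Coherent Groth.Agent.AmpleLib

namespace Groth.Agent.CubeLib

variable {k : Type u} [Field k] {W : Scheme.{u}} {πW : W ⟶ Spec (CommRingCat.of k)} [LocallyOfFiniteType πW]
  [QuasiCompact πW] [GeometricallyIntegral πW]

theorem isIntegral_total {R : Type u} [CommRing R] [IsDomain R] [IsNoetherianRing R]
    {r : Spec (CommRingCat.of R) ⟶ Spec (CommRingCat.of k)} {P : Scheme.{u}} {π : P ⟶ Spec (CommRingCat.of R)}
    {q : P ⟶ W} (H : IsPullback q π πW r) : IsIntegral P := by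
  have : Flat πW := flat_of_field _
  have : UniversallyOpen πW := inferInstance
  have h : IsIntegral (pullback πW r) := inferInstance
  exact IsIntegral.of_isIso (h := h) H.isoPullback.inv

theorem basicOpen_baseFun_mul {P : Scheme.{u}} {R : CommRingCat.{u}} (π : P ⟶ Spec R) (a b : R) :
    P.basicOpen (baseFun π (a * b)) = P.basicOpen (baseFun π a) ⊓ P.basicOpen (baseFun π b) := by
  simp only [baseFun, map_mul]
  exact P.basicOpen_mul _ _

theorem basicOpen_baseFun_of_isUnit {P : Scheme.{u}} {R : CommRingCat.{u}} (π : P ⟶ Spec R) (a : R) (h : IsUnit a) :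
    P.basicOpen (baseFun π a) = ⊤ :=
  P.basicOpen_of_isUnit ((h.map (Scheme.ΓSpecIso R).inv.hom).map π.appTop.hom)

/-- One prime element. -/
theorem eq_one_of_gen_prime {R : Type u} [CommRing R] [IsDomain R] [IsNoetherianRing R]
    (r : Spec (CommRingCat.of R) ⟶ Spec (CommRingCat.of k)) {P : Scheme.{u}} (π : P ⟶ Spec (CommRingCat.of R))
    (q : P ⟶ W) (H : IsPullback q π πW r) (ϖ : R) (hϖ : Prime ϖ) {L : P.Modules} (hL : PicF.IsInvertible L)
    {t : Γ(L, P.basicOpen (baseFun π ϖ))} (ht : IsGen L _ t) : PicM.of hL = 1 := by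
  have hP : IsIntegral P := isIntegral_total H
  let I : Ideal R := Ideal.span {ϖ}
  have : I.IsPrime := (Ideal.span_singleton_prime hϖ.ne_zero).2 hϖ
  let i : Spec (CommRingCat.of (R ⧸ I)) ⟶ Spec (CommRingCat.of R) :=
    Spec.map (CommRingCat.ofHom (algebraMap R (R ⧸ I)))
  let P₀ := pullback π i
  let σ : P₀ ⟶ P := pullback.fst π i
  let π₀ : P₀ ⟶ Spec (CommRingCat.of (R ⧸ I)) := pullback.snd π i
  have H₀ : IsPullback σ π₀ π i := IsPullback.of_hasPullback π i
  have hP₀ : IsIntegral P₀ := isIntegral_total (H₀.paste_horiz H)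
  let _ : P.Over (Spec (CommRingCat.of R)) := ⟨π⟩
  let _ : P₀.Over (Spec (CommRingCat.of (R ⧸ I))) := ⟨π₀⟩
  have H₀' : IsPullback σ (P₀ ↘ Spec (CommRingCat.of (R ⧸ I))) (P ↘ Spec (CommRingCat.of R))
      (Spec.map (CommRingCat.ofHom (algebraMap R (R ⧸ I)))) := H₀
  have : IsAffineHom σ := MorphismProperty.IsStableUnderBaseChange.of_isPullback
    (P := @IsAffineHom) H₀'.flip inferInstance
  have hker : ∀ U : P.Opens, IsAffineOpen U → ∀ c, σ.app U c = 0 ↔ resW (baseFun π ϖ) U ∣ c := by
    intro U hU c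
    let ρ : R →+* Γ(P, U) := (P.presheaf.map (homOfLE (le_top (a := U))).op).hom.comp
      (Coh.toGlobal (X := P) (A := R) π)
    letI : Algebra R Γ(P, U) := ρ.toAlgebra
    obtain ⟨Φ, hΦ⟩ := exists_ringEquiv_of_isPushout (isBCPushout_of_isPullback σ H₀' hU)
    have e : σ.app U c = Φ (c ⊗ₜ (1 : R ⧸ I)) := by
      rw [hΦ]
      exact ((congrArg (σ.app U c * ·) (map_one _)).trans (_root_.mul_one _)).symm
    rw [e, map_eq_zero_iff _ Φ.injective]
    have h1 : (c ⊗ₜ[R] (1 : R ⧸ I)) = 0 ↔ c ∈ I.map ρ := by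
      rw [← Ideal.Quotient.eq_zero_iff_mem (I := I.map ρ),
        ← (Algebra.TensorProduct.quotIdealMapEquivTensorQuot Γ(P, U) I).map_eq_zero_iff]
      exact Iff.of_eq (congrArg (· = 0) (Algebra.TensorProduct.quotIdealMapEquivTensorQuot_mk Γ(P, U) I c).symm)
    rw [h1, Ideal.map_span, Set.image_singleton, Ideal.mem_span_singleton]
    rfl
  refine eq_one_of_gen_basicOpen (ϖ := baseFun π ϖ) ?_ ?_ ?_ hL ht
  · intro U hU a ha
    rcases isEmpty_or_nonempty U with he | hne
    · refine TopCat.Sheaf.eq_of_locally_eq' P.sheaf (fun e : PEmpty.{u + 1} => e.elim)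
        _ (fun e => e.elim) (fun z hz => (he.false ⟨z, hz⟩).elim) _ _ fun e => e.elim
    · refine (mul_eq_zero.1 ha).resolve_left fun h0 => ?_
      have hinj := @AlgebraicGeometry.map_injective_of_isIntegral P _ _ _ (homOfLE (le_top (a := U))) hne
      have h1 : baseFun π ϖ = 0 := hinj (h0.trans (map_zero _).symm)
      have hs : Surjective π := MorphismProperty.of_isPullback H inferInstance
      obtain ⟨z, hz⟩ := π.surjective (⊥ : PrimeSpectrum R)
      have hzm : z ∈ P.basicOpen (baseFun π ϖ) := (mem_basicOpen_baseFun π ϖ z).2 (hz ▸ hϖ.ne_zero)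
      rw [h1, P.basicOpen_zero] at hzm
      exact hzm
  · intro U hU a b hab
    rw [← hker U hU] at hab ⊢
    rw [← hker U hU]
    rw [map_mul] at hab
    rcases isEmpty_or_nonempty (σ ⁻¹ᵁ U : P₀.Opens) with he | hne
    · left
      exact TopCat.Sheaf.eq_of_locally_eq' P₀.sheaf (fun e : PEmpty.{u + 1} => e.elim)
        _ (fun e => e.elim) (fun z hz => (he.false ⟨z, hz⟩).elim) _ _ fun e => e.elim
    · exact mul_eq_zero.1 hab
  · intro U U' hU hU' hle
    obtain ⟨z, hz, hzD⟩ := SetLike.not_le_iff_exists.1 hU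
    obtain ⟨z', hz', hzD'⟩ := SetLike.not_le_iff_exists.1 hU'
    have hrange : ∀ z, z ∉ P.basicOpen (baseFun π ϖ) → z ∈ Set.range σ := by
      intro z hz
      rw [show σ = pullback.fst π i from rfl, Scheme.Pullback.range_fst]
      rw [mem_basicOpen_baseFun, not_not] at hz
      have hle' : I ≤ (show PrimeSpectrum R from π z).asIdeal := (Ideal.span_singleton_le_iff_mem _).2 hz
      have := _root_.range_comap_of_surjective (R ⧸ I) (algebraMap R (R ⧸ I)) Ideal.Quotient.mk_surjective
      show π z ∈ Set.range (PrimeSpectrum.comap (algebraMap R (R ⧸ I)))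
      rw [this, Ideal.Quotient.algebraMap_eq, Ideal.mk_ker]
      exact hle'
    obtain ⟨w, rfl⟩ := hrange z hzD
    obtain ⟨w', rfl⟩ := hrange z' hzD'
    obtain ⟨v, hv⟩ := nonempty_preirreducible_inter (σ ⁻¹ᵁ U).isOpen (σ ⁻¹ᵁ U').isOpen ⟨w, hz⟩ ⟨w', hz'⟩
    have hvD : σ v ∈ P.basicOpen (baseFun π ϖ) := hle ⟨hv.1, hv.2⟩
    refine (mem_basicOpen_baseFun π ϖ _).1 hvD ?_
    rw [show π (σ v) = i (π₀ v) from congr($(H₀.w) v)]
    show ϖ ∈ Ideal.comap (algebraMap R (R ⧸ I)) _
    rw [Ideal.mem_comap, Ideal.Quotient.algebraMap_eq, Ideal.Quotient.eq_zero_iff_mem.2 (Ideal.mem_span_singleton_self ϖ)]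
    exact zero_mem _

/-- A product of prime elements and units. -/
theorem eq_one_of_gen_prod (l : ℕ) : ∀ {R : Type u} [CommRing R] [IsDomain R] [IsNoetherianRing R]
    (r : Spec (CommRingCat.of R) ⟶ Spec (CommRingCat.of k)) {P : Scheme.{u}} (π : P ⟶ Spec (CommRingCat.of R))
    (q : P ⟶ W) (_ : IsPullback q π πW r) (ϖ : Fin l → R) (_ : ∀ i, IsUnit (ϖ i) ∨ Prime (ϖ i))
    {L : P.Modules} (hL : PicF.IsInvertible L)
    {t : Γ(L, P.basicOpen (baseFun π (∏ i, ϖ i)))} (_ : IsGen L _ t), PicM.of hL = 1 := by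
  induction l with
  | zero =>
    intro R _ _ _ r P π q H ϖ hϖ L hL t ht
    have e : P.basicOpen (baseFun π (∏ i, ϖ i)) = ⊤ :=
      basicOpen_baseFun_of_isUnit π _ (by simp)
    exact eq_one_of_isGen_top hL (ht.restrict e.ge)
  | succ l ih =>
    intro R _ _ _ r P π q H ϖ hϖ L hL t ht
    have hsplit : P.basicOpen (baseFun π (∏ i, ϖ i)) =
        P.basicOpen (baseFun π (ϖ 0)) ⊓ P.basicOpen (baseFun π (∏ i : Fin l, ϖ i.succ)) := by
      rw [Fin.prod_univ_succ]
      exact basicOpen_baseFun_mul π _ _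
    rcases hϖ 0 with hu | hp
    · rw [basicOpen_baseFun_of_isUnit π _ hu, top_inf_eq] at hsplit
      exact ih r π q H _ (fun i => hϖ i.succ) hL (ht.restrict hsplit.ge)
    · let R' := Localization.Away (ϖ 0)
      have : IsDomain R' := IsLocalization.isDomain_localization (powers_le_nonZeroDivisors_of_noZeroDivisors hp.ne_zero)
      have : IsNoetherianRing R' := IsLocalization.isNoetherianRing (Submonoid.powers (ϖ 0)) R' inferInstance
      let e : Spec (CommRingCat.of R') ⟶ Spec (CommRingCat.of R) := Spec.map (CommRingCat.ofHom (algebraMap R R'))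
      have : IsOpenImmersion e := IsOpenImmersion.of_isLocalization (ϖ 0)
      let j := pullback.fst π e
      have Hj : IsPullback j (pullback.snd π e) π e := IsPullback.of_hasPullback π e
      have : IsOpenImmersion j := inferInstanceAs (IsOpenImmersion (pullback.fst π e))
      have hrange : j ''ᵁ ⊤ = P.basicOpen (baseFun π (ϖ 0)) := by
        refine Opens.ext ?_
        rw [Scheme.Hom.image_top_eq_opensRange, Scheme.Hom.coe_opensRange,
          show j = pullback.fst π e from rfl, Scheme.Pullback.range_fst]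
        ext z
        show π z ∈ Set.range (PrimeSpectrum.comap (algebraMap R R')) ↔ z ∈ P.basicOpen _
        rw [PrimeSpectrum.localization_away_comap_range R' (ϖ 0), mem_basicOpen_baseFun]
        rfl
      have hfun : ∀ a : R, j.appTop (baseFun π a) = baseFun (pullback.snd π e) (algebraMap R R' a) := fun a => by
        show j.appTop (π.appTop ((Scheme.ΓSpecIso (CommRingCat.of R)).inv a)) =
          (pullback.snd π e).appTop ((Scheme.ΓSpecIso (CommRingCat.of R')).inv (CommRingCat.ofHom (algebraMap R R') a))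
        rw [← ConcreteCategory.comp_apply, ← Scheme.Hom.comp_appTop, Hj.w, Scheme.Hom.comp_appTop,
          ConcreteCategory.comp_apply]
        exact congrArg _ congr($((Scheme.ΓSpecIso_inv_naturality (CommRingCat.ofHom (algebraMap R R'))).symm) a)
      have hϖ' : ∀ i : Fin l, IsUnit (algebraMap R R' (ϖ i.succ)) ∨ Prime (algebraMap R R' (ϖ i.succ)) := by
        intro i
        rcases hϖ i.succ with hu | hq
        · exact Or.inl (hu.map _)
        by_cases hd : ϖ i.succ ∣ ϖ 0
        · exact Or.inl (isUnit_of_dvd_unit (map_dvd _ hd) (IsLocalization.Away.algebraMap_isUnit (ϖ 0)))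
        · right
          have hprime : (Ideal.span {ϖ i.succ}).IsPrime := (Ideal.span_singleton_prime hq.ne_zero).2 hq
          have hdisj : Disjoint ((Submonoid.powers (ϖ 0) : Submonoid R) : Set R) (Ideal.span {ϖ i.succ} : Set R) := by
            rw [Set.disjoint_left]
            rintro _ ⟨n, rfl⟩ hmem
            exact hd (hq.dvd_of_dvd_pow (Ideal.mem_span_singleton.1 hmem))
          have h' := IsLocalization.isPrime_of_isPrime_disjoint (Submonoid.powers (ϖ 0)) R' _ hprime hdisj
          rw [Ideal.map_span, Set.image_singleton] at h'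
          refine (Ideal.span_singleton_prime ?_).1 h'
          exact fun h0 => hq.ne_zero (IsLocalization.injective R'
            (powers_le_nonZeroDivisors_of_noZeroDivisors hp.ne_zero) (h0.trans (map_zero _).symm))
      let w := ∏ i : Fin l, ϖ i.succ
      have hpre : (pullback π e).basicOpen (baseFun (pullback.snd π e) (∏ i : Fin l, algebraMap R R' (ϖ i.succ))) ≤
          j ⁻¹ᵁ P.basicOpen (baseFun π (∏ i, ϖ i)) := by
        rw [← map_prod (algebraMap R R'), ← hfun]
        erw [← Scheme.preimage_basicOpen_top]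
        rw [hsplit]
        intro z hz
        refine ⟨hrange.le ⟨z, trivial, rfl⟩, hz⟩
      have key := ih (e ≫ r) (pullback.snd π e) (j ≫ q) (Hj.paste_horiz H) _ hϖ'
        (PicLoc.isInvertible_pullback j hL) ((isGen_pullSec j ht hL).restrict hpre)
      obtain ⟨s, hs⟩ := exists_isGen_top key
      obtain ⟨s', hs'⟩ := exists_isGen_image j L hs
      exact eq_one_of_gen_prime r π q H (ϖ 0) hp hL (hs'.restrict hrange.ge)

end Groth.Agent.CubeLib
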