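import Groth.Agent.Coherent.CohBC.SectionSpread
import Groth.Agent.Coherent.CohBC.RankConst

/-!
# Sections of fibres extend over a reduced base when `h⁰` is constant
-/

set_option autoImplicit false
set_option backward.isDefEq.respectTransparency false

universe u

open CategoryTheory CategoryTheory.Limits AlgebraicGeometry Opposite TopologicalSpace TensorProduct
open HomologicalComplex Function
open Groth.Agent.Coherent Groth.Agent.PicLib Groth.Agent.FlatCxLib Groth.Agent.Coherent.CohBC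

namespace Groth.Agent.CubeLib

variable {X S : Scheme.{u}} (f : X ⟶ S) [IsProper f] [IsLocallyNoetherian S] [HasInjectiveResolutions X.Modules]
  (F : X.Modules)

/-- Over a reduced base, a section of a fibre extends to the inverse image of a neighbourhood when `h⁰` of the fibres
is constant. -/
theorem exists_section_extending_of_constant [IsReduced S] (hF : Coh.IsCoh F) (hfl : FlatMod.IsFlatOver f F) (y : S)
    {m : ℕ} (hm : ∀ z, CohIII.fiberRank f F 0 z = m) (σ : Γ(CohIII.fiberMod f F y, ⊤)) :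
    ∃ (U : S.Opens) (_ : y ∈ U) (t : Γ(F, f ⁻¹ᵁ U)),
      pullSec (f.fiberι y) t = resM (CohIII.fiberMod f F y) le_top σ := by
  obtain ⟨V₁, hV, hyV, -⟩ := Opens.isBasis_iff_nbhd.mp S.isBasis_affineOpens (Opens.mem_top y)
  let V : S.Opens := V₁
  replace hV : IsAffineOpen V := hV
  have : IsNoetherianRing Γ(S, V) := IsLocallyNoetherian.component_noetherian ⟨V, hV⟩
  let _ : (f ⁻¹ᵁ V).toScheme.Over (Spec (CommRingCat.of Γ(S, V))) := ⟨toSpecSections f hV⟩
  have hsq := isPullback_toSpecSections f hV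
  have : IsProper ((f ⁻¹ᵁ V).toScheme ↘ Spec (CommRingCat.of Γ(S, V))) :=
    MorphismProperty.IsStableUnderBaseChange.of_isPullback (P := @IsProper) hsq inferInstance
  have : Coh.IsQCoh F := hF.1
  let F' := (Scheme.Modules.pullback (f ⁻¹ᵁ V).ι).obj F
  have hc : Coh.IsCoh F' :=
    ⟨EGA43.InjFibre.isQCoh_pullback _ _, isFT_pullback_qcoh _ hF.1 hF.2⟩
  have hfl' : FlatMod.IsFlatOver ((f ⁻¹ᵁ V).toScheme ↘ Spec (CommRingCat.of Γ(S, V))) F' :=
    fun x => Desc19b.isFlatOverAt_baseChange f (toSpecSections f hV) (f ⁻¹ᵁ V).ι hV.fromSpec hsq F x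
      (hfl _)
  obtain ⟨D⟩ := nonempty_perfData F' hc hfl'
  have hT : (CohIII.TFun (cxA Γ(S, V) D.W F') 0).PreservesEpimorphisms := by
    rw [Functor.PreservesEpimorphisms.iso_iff (D.tIso 0)]
    refine (FlatCxLib.preservesEpi_iff_flat (-((0 : ℕ) : ℤ)) (-1) D.flat_P (by omega)).2
      (flat_cokers_of_isLocallyConstant_dRank D.P D.finite_flat_P 1 (-((0 : ℕ) : ℤ)) (-1) (by omega) (by omega) ?_).2
    refine (IsLocallyConstant.iff_eventually_eq _).2 fun x => Filter.Eventually.of_forall fun z => ?_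
    refine (D.fiberRank_eq hfl' z 0).symm.trans (Eq.trans ?_ (D.fiberRank_eq hfl' x 0))
    exact ((fiberRank_pullback hsq F 0 z).trans (hm _)).trans ((fiberRank_pullback hsq F 0 x).trans (hm _)).symm
  -- the fibre as a fibre of the restriction
  let φ : Γ(S, V) ⟶ S.residueField y := S.evaluation V y hyV
  have hφ : Spec.map φ ≫ hV.fromSpec = S.fromSpecResidueField y := by
    show Spec.map (S.presheaf.germ V y hyV ≫ S.residue y) ≫ hV.fromSpec = _
    rw [Spec.map_comp, Category.assoc]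
    show Spec.map (S.residue y) ≫ hV.fromSpecStalk hyV = _
    rw [hV.fromSpecStalk_eq_fromSpecStalk]
    rfl
  have hrange : Set.range (f.fiberι y) ⊆ (f ⁻¹ᵁ V : X.Opens) := by
    rintro _ ⟨z, rfl⟩
    show f.base ((f.fiberι y).base z) ∈ V
    rw [show f.base ((f.fiberι y).base z) = y from
      (f.range_fiberι y).le ⟨z, rfl⟩]
    exact hyV
  let j : f.fiber y ⟶ (f ⁻¹ᵁ V).toScheme :=
    IsOpenImmersion.lift (f ⁻¹ᵁ V).ι (f.fiberι y) (by rwa [Scheme.Opens.range_ι])
  have hj : j ≫ (f ⁻¹ᵁ V).ι = f.fiberι y := IsOpenImmersion.lift_fac _ _ _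
  let _ : (f.fiber y).Over (Spec (CommRingCat.of (S.residueField y))) := CohIII.fiberOver f y
  have hsq' : IsPullback j ((f.fiber y) ↘ Spec (CommRingCat.of (S.residueField y)))
      ((f ⁻¹ᵁ V).toScheme ↘ Spec (CommRingCat.of Γ(S, V))) (Spec.map (CommRingCat.ofHom φ.hom)) := by
    refine IsPullback.of_right (h₁₂ := (f ⁻¹ᵁ V).ι) ?_ ?_ hsq
    · rw [hj]
      show IsPullback (f.fiberι y) _ f (Spec.map φ ≫ hV.fromSpec)
      rw [hφ]
      exact IsPullback.of_hasPullback _ _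
    · refine (cancel_mono hV.fromSpec).1 ?_
      rw [Category.assoc, Category.assoc]
      erw [← hsq.w, reassoc_of% hj, hφ]
      exact pullback.condition
  obtain ⟨c, hc'⟩ := RelVALib.exists_compIso j (f ⁻¹ᵁ V).ι (f.fiberι y) hj F
  have hfr : ∀ k : S.residueField y, ∃ s a : Γ(S, V), φ s ≠ 0 ∧ φ s * k = φ a := by
    intro k
    obtain ⟨z, rfl⟩ := IsLocalRing.residue_surjective (R := S.presheaf.stalk y) k
    let _ := (S.presheaf.germ V y hyV).hom.toAlgebra
    have := hV.isLocalization_stalk ⟨y, hyV⟩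
    obtain ⟨⟨a, s⟩, hz⟩ := IsLocalization.surj (hV.primeIdealOf ⟨y, hyV⟩).asIdeal.primeCompl z
    refine ⟨s.1, a, ?_, ?_⟩
    · have hu : IsUnit (S.presheaf.germ V y hyV s.1) :=
        IsLocalization.map_units (S.presheaf.stalk y) s
      exact (hu.map (S.residue y).hom).ne_zero
    · show (S.residue y) (S.presheaf.germ V y hyV s.1) * (S.residue y) z = _
      rw [← map_mul, mul_comm]
      exact congrArg (S.residue y) hz
  obtain ⟨s, b, hs, hb⟩ := exists_pullSec_eq_smul j D hfl' hT φ.hom hfr hsq'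
    (resM _ le_top (c.hom.app ⊤ σ))
  obtain ⟨m, hm⟩ := exists_pullSec_ι F
    (resM F' (le_top (a := (f ⁻¹ᵁ V).ι ⁻¹ᵁ (f ⁻¹ᵁ V))) b)
  have hmem : y ∈ S.basicOpen s := (S.evaluation_ne_zero_iff_mem_basicOpen y hyV s).1 hs
  have hle : S.basicOpen s ≤ V := S.basicOpen_le s
  have hu : IsUnit (f.app (S.basicOpen s) (S.presheaf.map (homOfLE hle).op s)) :=
    (S.toRingedSpace.isUnit_res_basicOpen s).map _
  refine ⟨S.basicOpen s, hmem, (↑hu.unit⁻¹ : Γ(X, f ⁻¹ᵁ S.basicOpen s)) • resM F (f.preimage_mono hle) m, ?_⟩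
  let W : (f.fiber y).Opens := f.fiberι y ⁻¹ᵁ (f ⁻¹ᵁ S.basicOpen s)
  have hunit : IsUnit ((f.fiberι y).app _ (f.app (S.basicOpen s) (S.presheaf.map (homOfLE hle).op s))) :=
    hu.map _
  refine hunit.smul_left_cancel.1 ?_
  rw [← pullSec_smul, smul_smul, IsUnit.mul_val_inv, one_smul, ← resM_pullSec]
  -- compare through the composite
  have hpre : f.fiberι y ⁻¹ᵁ (f ⁻¹ᵁ V) ≤ j ⁻¹ᵁ ((f ⁻¹ᵁ V).ι ⁻¹ᵁ (f ⁻¹ᵁ V)) := by
    intro z hz
    show (j ≫ (f ⁻¹ᵁ V).ι).base z ∈ f ⁻¹ᵁ V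
    rw [hj]
    exact hz
  refine (app_injective_of_mono c.hom W) ?_
  rw [Scheme.Modules.Hom.app_smul, app_resM, app_resM, hc' _ m hpre, hm, ← resM_pullSec, hb]
  simp only [resM_smulA, resM_resM]
  erw [resM_resM]
  refine congrArg (fun r : Γ(f.fiber y, W) => r •
    resM ((Scheme.Modules.pullback j).obj ((Scheme.Modules.pullback (f ⁻¹ᵁ V).ι).obj F))
      (le_top : W ≤ ⊤) (c.hom.app ⊤ σ)) ?_
  have hg : ((f.fiber y) ↘ Spec (CommRingCat.of (S.residueField y))) ≫ Spec.map φ ≫ hV.fromSpec =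
      f.fiberι y ≫ f := by
    rw [hφ]
    exact pullback.condition.symm
  refine (toGlobal_map_evaluation hV _ φ _ hg hle W le_rfl s).trans ?_
  show (f.fiberι y ≫ f).appLE (S.basicOpen s) ((f.fiberι y ≫ f) ⁻¹ᵁ S.basicOpen s) le_rfl _ = _
  rw [Scheme.Hom.appLE_eq_app, Scheme.Hom.comp_app]
  rfl

end Groth.Agent.CubeLib
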