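import Groth.Agent.CubeLib.LocalTriv
import Groth.Agent.AlgGrpLib.UnitsOnProducts
import Groth.Agent.AbCubeLib.CubeRel

/-!
# See-saw for varieties: trivial on the geometric generic fibre and on a section

`T` a smooth variety, `W` a variety over an algebraically closed field, `w₀` a rational point of `W`: a class on
`T × W` trivial on `T × w₀` and on the geometric generic fibre over `T` is trivial.  No properness.
-/

set_option autoImplicit false
set_option backward.isDefEq.respectTransparency.types false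

universe u

open CategoryTheory CategoryTheory.Limits MonoidalCategory CartesianMonoidalCategory AlgebraicGeometry Opposite
  TopologicalSpace
open Groth.Agent.PicLib Groth.Agent.AmpleLib Groth.Agent.Coherent

namespace Groth.Agent.CubeLib

variable {k : Type u} [Field k] [IsAlgClosed k] {T W : Over (Spec (CommRingCat.of k))}

theorem app_app_of_comp_eq_id {X Y : Scheme.{u}} {f : X ⟶ Y} {σ : Y ⟶ X} (h : σ ≫ f = 𝟙 Y) {U : Y.Opens}
    (hle : U ≤ σ ⁻¹ᵁ (f ⁻¹ᵁ U)) (a : Γ(Y, U)) :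
    Y.presheaf.map (homOfLE hle).op (σ.app (f ⁻¹ᵁ U) (f.app U a)) = a := by
  have key : ∀ (φ : Y ⟶ Y) (_ : φ = 𝟙 Y) (hle' : U ≤ φ ⁻¹ᵁ U), φ.appLE U U hle' a = a := by
    intro φ hφ hle'
    subst hφ
    rw [Scheme.Hom.appLE, Scheme.Hom.id_app]
    erw [Category.id_comp]
    exact congr($(Y.presheaf.map_id (op U)) a)
  have := key (σ ≫ f) h hle
  rw [Scheme.Hom.appLE, Scheme.Hom.comp_app] at this
  exact this

/-- A unit on an open `fst⁻¹ O`, equal to one on the section, comes from `W`. -/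
theorem exists_unit_of_section [IsIntegral (T ⊗ W).left] [IsReduced T.left] [LocallyOfFiniteType T.hom] [IsReduced W.left]
    [LocallyOfFiniteType W.hom] [QuasiCompact W.hom] [ConnectedSpace ↥W.left] [IrreducibleSpace ↥T.left]
    (w₀ : 𝟙_ (Over (Spec (CommRingCat.of k))) ⟶ W) (O : T.left.Opens) (hO : O ≠ ⊥)
    {u : Γ((T ⊗ W).left, (fst T W).left ⁻¹ᵁ O)} (hu : IsUnit u)
    (h1 : ∀ (hle : O ≤ (lift (𝟙 T) (toUnit T ≫ w₀)).left ⁻¹ᵁ ((fst T W).left ⁻¹ᵁ O)),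
      T.left.presheaf.map (homOfLE hle).op ((lift (𝟙 T) (toUnit T ≫ w₀)).left.app _ u) = 1) :
    ∃ β : Γ(W.left, ⊤), IsUnit β ∧
      u = (T ⊗ W).left.presheaf.map (homOfLE le_top).op ((snd T W).left.appTop β) := by
  have : IsLocallyNoetherian T.left := LocallyOfFiniteType.isLocallyNoetherian T.hom
  obtain ⟨z₀, hz₀O⟩ : ∃ z₀, z₀ ∈ O := by
    by_contra hcon
    push Not at hcon
    exact hO (Opens.ext (Set.eq_empty_iff_forall_notMem.2 fun z hz => hcon z hz))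
  obtain ⟨O₁, hO₁, hz₀, hO₁O⟩ := exists_isAffineOpen_mem_and_subset (x := z₀) (U := O) hz₀O
  let Oo : Over (Spec (CommRingCat.of k)) := Over.mk (O₁.ι ≫ T.hom)
  let ι : Oo ⟶ T := Over.homMk O₁.ι rfl
  have : IsReduced Oo.left := inferInstanceAs (IsReduced O₁.toScheme)
  have : LocallyOfFiniteType Oo.hom := inferInstanceAs (LocallyOfFiniteType (O₁.ι ≫ T.hom))
  have : CompactSpace O₁.toScheme := isCompact_iff_compactSpace.1 hO₁.isCompact
  have : QuasiCompact Oo.hom := (quasiCompact_iff_compactSpace _).2 ‹_›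
  have : Nonempty O₁.toScheme := ⟨⟨z₀, hz₀⟩⟩
  have : IrreducibleSpace O₁.toScheme := Subtype.irreducibleSpace
    ⟨⟨z₀, hz₀⟩, (IrreducibleSpace.isIrreducible_univ T.left).isPreirreducible.open_subset O₁.isOpen (Set.subset_univ _)⟩
  have : ConnectedSpace ↥Oo.left := inferInstanceAs (ConnectedSpace O₁.toScheme)
  obtain ⟨t₁⟩ := AlgGrpLib.exists_point (X := Oo)
  let jW := (ι ▷ W).left
  have hj : IsOpenImmersion jW := by
    show IsOpenImmersion (ι ▷ W).left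
    rw [Over.whiskerRight_left]
    have : IsOpenImmersion ι.left := inferInstanceAs (IsOpenImmersion O₁.ι)
    infer_instance
  have hfst : jW ≫ (fst T W).left = (fst Oo W).left ≫ O₁.ι := by
    rw [← Over.comp_left, whiskerRight_fst]
    rfl
  have hle : (⊤ : (Oo ⊗ W).left.Opens) ≤ jW ⁻¹ᵁ ((fst T W).left ⁻¹ᵁ O) := fun z _ => by
    show (fst T W).left (jW z) ∈ O
    rw [show (fst T W).left (jW z) = O₁.ι ((fst Oo W).left z) from congr($hfst z)]
    exact hO₁O ((fst Oo W).left z).2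
  let f : Γ((Oo ⊗ W).left, ⊤) := jW.appLE _ ⊤ hle u
  have hf : IsUnit f := hu.map _
  let β : Γ(W.left, ⊤) := (lift (toUnit W ≫ t₁) (𝟙 W)).left.appTop f
  have hβ : IsUnit β := hf.map _
  refine ⟨β, hβ, ?_⟩
  have haxis : (lift (𝟙 Oo) (toUnit Oo ≫ w₀)).left.appTop f = 1 := by
    have hle' : O ≤ (lift (𝟙 T) (toUnit T ≫ w₀)).left ⁻¹ᵁ ((fst T W).left ⁻¹ᵁ O) := fun z hz => by
      show (fst T W).left ((lift (𝟙 T) (toUnit T ≫ w₀)).left z) ∈ O
      rw [← Scheme.Hom.comp_apply, ← Over.comp_left, lift_fst]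
      exact hz
    have h2 := congrArg (ι.left.appLE O ⊤ (fun z _ => hO₁O z.2)) (h1 hle')
    rw [map_one] at h2
    refine Eq.trans ?_ h2
    have e : lift (𝟙 Oo) (toUnit Oo ≫ w₀) ≫ (ι ▷ W) = ι ≫ lift (𝟙 T) (toUnit T ≫ w₀) := by
      ext1 <;> simp
    show (jW.appLE _ ⊤ hle ≫ (lift (𝟙 Oo) (toUnit Oo ≫ w₀)).left.appTop) u =
      ((lift (𝟙 T) (toUnit T ≫ w₀)).left.app _ ≫ T.left.presheaf.map (homOfLE hle').op ≫ ι.left.appLE O ⊤ _) u
    have key : ∀ {A B : (⊤ : Oo.left.Opens) ≤ ⊤} (φ ψ : Oo.left ⟶ (T ⊗ W).left) (_ : φ = ψ)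
        (p : (⊤ : Oo.left.Opens) ≤ φ ⁻¹ᵁ ((fst T W).left ⁻¹ᵁ O)) (p' : (⊤ : Oo.left.Opens) ≤ ψ ⁻¹ᵁ ((fst T W).left ⁻¹ᵁ O)),
        φ.appLE _ ⊤ p = ψ.appLE _ ⊤ p' := by
      intro _ _ φ ψ h p p'; subst h; rfl
    rw [show (lift (𝟙 Oo) (toUnit Oo ≫ w₀)).left.appTop =
        (lift (𝟙 Oo) (toUnit Oo ≫ w₀)).left.appLE ⊤ ⊤ le_top by simp [Scheme.Hom.appLE],
      Scheme.Hom.appLE_comp_appLE, Scheme.Hom.app_eq_appLE,
      ← Category.assoc, Scheme.Hom.appLE_map, Scheme.Hom.appLE_comp_appLE]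
    exact congr($(key (A := le_rfl) (B := le_rfl) _ _ ((Over.comp_left _ _ _ _ _).symm.trans ((congrArg (fun φ => φ.left) e).trans (Over.comp_left _ _ _ _ _))) _ _) u)
  have hfg : f = (snd Oo W).left.appTop β := by
    refine AlgGrpLib.unit_eq_of_axes t₁ w₀ hf (hβ.map _) ?_ ?_
    · rw [haxis, ← AlgGrpLib.appTop_comp, ← AlgGrpLib.appTop_comp, lift_snd, Category.assoc,
        show w₀ ≫ lift (toUnit W ≫ t₁) (𝟙 W) = t₁ ≫ lift (𝟙 Oo) (toUnit Oo ≫ w₀) by ext1 <;> simp]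
      simp only [AlgGrpLib.appTop_comp]
      rw [← AlgGrpLib.appTop_comp, haxis, map_one]
    · rw [← AlgGrpLib.appTop_comp, lift_snd, Over.id_left, Scheme.Hom.id_appTop]
      rfl
  -- `u` is determined by its restriction along the open immersion
  have hR : jW.appLE _ ⊤ hle ((T ⊗ W).left.presheaf.map (homOfLE le_top).op ((snd T W).left.appTop β)) =
      (snd Oo W).left.appTop β := by
    have e : jW ≫ (snd T W).left = (snd Oo W).left := by
      rw [← Over.comp_left, whiskerRight_snd]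
    rw [← ConcreteCategory.comp_apply, ← ConcreteCategory.comp_apply, Scheme.Hom.map_appLE]
    refine congr($(show (snd T W).left.appTop ≫ jW.appLE ⊤ ⊤ le_top = (snd Oo W).left.appTop from ?_) β)
    rw [← e, Scheme.Hom.comp_appTop]
    congr 1
    simp [Scheme.Hom.appLE]
  have hne : Nonempty ↥(jW ''ᵁ (⊤ : (Oo ⊗ W).left.Opens)) := by
    obtain ⟨p⟩ : Nonempty ↥(Oo ⊗ W).left :=
      ⟨(lift t₁ w₀).left (IsLocalRing.closedPoint k)⟩
    exact ⟨⟨jW p, p, trivial, rfl⟩⟩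
  have hle2 : jW ''ᵁ (⊤ : (Oo ⊗ W).left.Opens) ≤ (fst T W).left ⁻¹ᵁ O := by
    rintro _ ⟨p, -, rfl⟩
    exact hle (x := p) trivial
  refine @AlgebraicGeometry.map_injective_of_isIntegral (T ⊗ W).left _ _ _ (homOfLE hle2) hne _ _ ?_
  have h2 := congrArg (jW.appIso ⊤).inv (hfg.trans hR.symm)
  rw [← ConcreteCategory.comp_apply, ← ConcreteCategory.comp_apply] at h2
  erw [Scheme.Hom.appLE_appIso_inv] at h2
  exact h2

/-- See-saw without properness. -/
theorem eq_one_of_geometric_generic [Smooth T.hom] [IsIntegral T.left] [LocallyOfFiniteType W.hom]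
    [QuasiCompact W.hom] [GeometricallyIntegral W.hom] (w₀ : 𝟙_ (Over (Spec (CommRingCat.of k))) ⟶ W)
    (a : PicM (T ⊗ W).left) (hsec : PicM.pull (lift (𝟙 T) (toUnit T ≫ w₀)).left a = 1)
    {Ω : Type u} [Field Ω] {g : Spec (CommRingCat.of Ω) ⟶ Spec (CommRingCat.of k)}
    (η : Spec (CommRingCat.of Ω) ⟶ T.left) (hη : η ≫ T.hom = g)
    (hgen : η (IsLocalRing.closedPoint Ω) = genericPoint T.left)
    (h : PicM.pull (genericFibreMap (W := W) η hη) a = 1) : a = 1 := by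
  classical
  obtain ⟨L, hL, rfl⟩ := PicM.exists_eq_of a
  have : IsIntegral W.left := GeometricallyIntegral.isIntegral_of_subsingleton W.hom
  have hTn : IsLocallyNoetherian T.left := LocallyOfFiniteType.isLocallyNoetherian T.hom
  have : Flat W.hom := flat_of_field _
  have hP : IsIntegral (T ⊗ W).left := inferInstanceAs (IsIntegral (pullback T.hom W.hom))
  choose V hxV s hs using fun x => exists_local_gen hL η hη hgen h x
  rw [PicM.pull_of] at hsec
  obtain ⟨e, he⟩ := exists_isGen_top hsec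
  let σ := (lift (𝟙 T) (toUnit T ≫ w₀)).left
  let π := (fst T W).left
  have hσπ : σ ≫ π = 𝟙 T.left := by
    show (lift (𝟙 T) (toUnit T ≫ w₀)).left ≫ (fst T W).left = _
    rw [← Over.comp_left, lift_fst]
    rfl
  have hle : ∀ U : T.left.Opens, U ≤ σ ⁻¹ᵁ (π ⁻¹ᵁ U) := fun U z hz => by
    show π (σ z) ∈ U
    rw [show π (σ z) = z from congr($hσπ z)]
    exact hz
  -- normalise along the section
  have hnorm : ∀ x, ∃ s₁ : Γ(L, π ⁻¹ᵁ V x), IsGen L _ s₁ ∧
      resM _ (hle (V x)) (pullSec σ s₁) = resM ((Scheme.Modules.pullback σ).obj L) le_top e := by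
    intro x
    have hp := isGen_pullSec σ (hs x) hL
    let a₀ := hp.coef le_rfl (resM ((Scheme.Modules.pullback σ).obj L) le_top e)
    have ha₀ : IsUnit a₀ := hp.isUnit_coef (he.restrict le_top)
    have hspec : a₀ • pullSec σ (s x) = resM ((Scheme.Modules.pullback σ).obj L) le_top e := by
      have := hp.coef_spec le_rfl (resM ((Scheme.Modules.pullback σ).obj L) le_top e)
      rwa [resM_self] at this
    let a' := T.left.presheaf.map (homOfLE (hle (V x))).op a₀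
    let α := π.app (V x) a'
    refine ⟨α • s x, ?_, ?_⟩
    · have := (hs x).smul_unit ((ha₀.map (T.left.presheaf.map (homOfLE (hle (V x))).op).hom).map (π.app (V x)).hom).unit
      rwa [IsUnit.unit_spec] at this
    · rw [pullSec_smul, resM_smul, app_app_of_comp_eq_id hσπ (hle (V x)) a', ← resM_smul, hspec, resM_resM]
  choose s₁ hs₁ hs₁e using hnorm
  -- adjust against a fixed member
  let x₀ : T.left := genericPoint T.left
  have hmem : ∀ x, x₀ ∈ V x := fun x =>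
    ((genericPoint_spec T.left).mem_open_set_iff (V x).isOpen).2 ⟨_, trivial, hxV x⟩
  have hadj : ∀ x, ∃ s₂ : Γ(L, π ⁻¹ᵁ V x), IsGen L _ s₂ ∧
      resM L (π.preimage_mono inf_le_left : π ⁻¹ᵁ (V x ⊓ V x₀) ≤ π ⁻¹ᵁ V x) s₂ =
        resM L (π.preimage_mono inf_le_right) (s₁ x₀) := by
    intro x
    let O := V x ⊓ V x₀
    have hgx := (hs₁ x).restrict (π.preimage_mono inf_le_left : π ⁻¹ᵁ O ≤ π ⁻¹ᵁ V x)
    let u := hgx.coef le_rfl (resM L (π.preimage_mono inf_le_right) (s₁ x₀))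
    have hu : IsUnit u := hgx.isUnit_coef ((hs₁ x₀).restrict _)
    have huspec : u • resM L (π.preimage_mono inf_le_left) (s₁ x) = resM L (π.preimage_mono inf_le_right) (s₁ x₀) := by
      have := hgx.coef_spec le_rfl (resM L (π.preimage_mono inf_le_right) (s₁ x₀))
      rwa [resM_self] at this
    have hO : O ≠ ⊥ := fun h0 => (h0 ▸ (⟨hmem x, hmem x₀⟩ : x₀ ∈ O) : x₀ ∈ (⊥ : T.left.Opens))
    obtain ⟨β, hβ, hβu⟩ := exists_unit_of_section w₀ O hO hu (fun hle' => by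
      refine (he O le_top).1 ?_
      show _ • resM _ _ e = 1 • resM _ _ e
      rw [_root_.one_smul]
      have hx := congrArg (resM _ (inf_le_left : O ≤ V x)) (hs₁e x)
      have hx₀ := congrArg (resM _ (inf_le_right : O ≤ V x₀)) (hs₁e x₀)
      rw [resM_resM, resM_resM] at hx hx₀
      have h2 := congrArg (fun z => resM ((Scheme.Modules.pullback σ).obj L) hle' (pullSec σ z)) huspec
      simp only [pullSec_smul, resM_smul, ← resM_pullSec, resM_resM] at h2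
      rw [hx, hx₀] at h2
      exact h2)
    let b := (T ⊗ W).left.presheaf.map (homOfLE (le_top : π ⁻¹ᵁ V x ≤ ⊤)).op ((snd T W).left.appTop β)
    have hb : IsUnit b := (hβ.map (snd T W).left.appTop.hom).map ((T ⊗ W).left.presheaf.map (homOfLE (le_top : π ⁻¹ᵁ V x ≤ ⊤)).op).hom
    refine ⟨b • s₁ x, ?_, ?_⟩
    · have := (hs₁ x).smul_unit hb.unit
      rwa [IsUnit.unit_spec] at this
    · rw [resM_smul, ← huspec, hβu]
      refine congrArg (· • _) ?_
      show ((T ⊗ W).left.presheaf.map _ ≫ (T ⊗ W).left.presheaf.map _) _ = _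
      rw [← Functor.map_comp]
      rfl
  choose s₂ hs₂ hagree using hadj
  -- the members agree
  have hcompat : ∀ x y, resM L (inf_le_left : π ⁻¹ᵁ V x ⊓ π ⁻¹ᵁ V y ≤ π ⁻¹ᵁ V x) (s₂ x) =
      resM L (inf_le_right : π ⁻¹ᵁ V x ⊓ π ⁻¹ᵁ V y ≤ π ⁻¹ᵁ V y) (s₂ y) := by
    intro x y
    have hgy := (hs₂ y).restrict (inf_le_right : π ⁻¹ᵁ V x ⊓ π ⁻¹ᵁ V y ≤ π ⁻¹ᵁ V y)
    let c := hgy.coef le_rfl (resM L inf_le_left (s₂ x))
    have hc := hgy.coef_spec le_rfl (resM L (inf_le_left : π ⁻¹ᵁ V x ⊓ π ⁻¹ᵁ V y ≤ π ⁻¹ᵁ V x) (s₂ x))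
    rw [resM_self] at hc
    let D := π ⁻¹ᵁ V x ⊓ π ⁻¹ᵁ V y ⊓ π ⁻¹ᵁ V x₀
    have hDne : Nonempty ↥D := ⟨⟨σ x₀, ⟨⟨hle _ (hmem x), hle _ (hmem y)⟩, hle _ (hmem x₀)⟩⟩⟩
    suffices h1 : c = 1 by
      rw [← hc, show hgy.coef le_rfl (resM L inf_le_left (s₂ x)) = 1 from h1, _root_.one_smul]
    refine @AlgebraicGeometry.map_injective_of_isIntegral (T ⊗ W).left _ _ _
      (homOfLE (inf_le_left : D ≤ π ⁻¹ᵁ V x ⊓ π ⁻¹ᵁ V y)) hDne _ _ ?_
    refine (hgy.restrict (inf_le_left : D ≤ π ⁻¹ᵁ V x ⊓ π ⁻¹ᵁ V y) D le_rfl).1 ?_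
    show _ • resM L _ _ = _ • resM L _ _
    rw [resM_self, map_one, _root_.one_smul, ← resM_smul, hc, resM_resM, resM_resM]
    have ex := congrArg (resM L (fun z hz => ⟨hz.1.1, hz.2⟩ : D ≤ π ⁻¹ᵁ (V x ⊓ V x₀))) (hagree x)
    have ey := congrArg (resM L (fun z hz => ⟨hz.1.2, hz.2⟩ : D ≤ π ⁻¹ᵁ (V y ⊓ V x₀))) (hagree y)
    rw [resM_resM, resM_resM] at ex ey
    exact ex.trans ey.symm
  have hcov : (⊤ : (T ⊗ W).left.Opens) ≤ ⨆ x, π ⁻¹ᵁ V x := fun z _ =>
    Opens.mem_iSup.2 ⟨π z, hxV (π z)⟩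
  obtain ⟨S, hS, -⟩ := TopCat.Sheaf.existsUnique_gluing' (⟨L.presheaf, L.isSheaf⟩ : TopCat.Sheaf Ab (T ⊗ W).left)
    (fun x => π ⁻¹ᵁ V x) ⊤ (fun x => homOfLE le_top) hcov s₂ hcompat
  refine eq_one_of_isGen_top hL (t := S) (isGen_of_cover (fun x => π ⁻¹ᵁ V x) (fun x => le_top) hcov fun x => ?_)
  have : resM L (le_top : π ⁻¹ᵁ V x ≤ ⊤) S = s₂ x := hS x
  rw [this]
  exact hs₂ x

end Groth.Agent.CubeLib
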