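import Groth.Agent.CubeLib.FieldTriv
import Groth.Agent.CubeLib.GlobalSec
import Mathlib.AlgebraicGeometry.Geometrically.Integral
import Mathlib.AlgebraicGeometry.Morphisms.UniversallyOpen

/-!
# Triviality on the geometric generic fibre spreads out

`W` a variety over an algebraically closed field, `R` a domain: an invertible module on `W × Spec R` trivial on the
geometric generic fibre has a generator over a nonempty basic open of the base.
-/

set_option autoImplicit false
set_option backward.isDefEq.respectTransparency.types false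

universe u

open CategoryTheory CategoryTheory.Limits AlgebraicGeometry Opposite TopologicalSpace TensorProduct
open Groth.Agent.PicLib Groth.Agent.Coherent Groth.Agent.AmpleLib

namespace Groth.Agent.CubeLib

/-- A function on the base, on the total space. -/
noncomputable abbrev baseFun {P : Scheme.{u}} {R : CommRingCat.{u}} (π : P ⟶ Spec R) (h : R) : Γ(P, ⊤) :=
  π.appTop ((Scheme.ΓSpecIso R).inv h)

theorem mem_basicOpen_baseFun {P : Scheme.{u}} {R : CommRingCat.{u}} (π : P ⟶ Spec R) (h : R) (z : P) :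
    z ∈ P.basicOpen (baseFun π h) ↔ h ∉ (show PrimeSpectrum R from π z).asIdeal := by
  erw [← Scheme.preimage_basicOpen_top]
  rw [Scheme.Hom.mem_preimage, basicOpen_eq_of_affine h]
  rfl

variable {k : Type u} [Field k] [IsAlgClosed k]

/-- Spreading out of triviality on the geometric generic fibre. -/
theorem exists_gen_basicOpen_of_geometric_generic {W : Scheme.{u}} (πW : W ⟶ Spec (CommRingCat.of k))
    [LocallyOfFiniteType πW] [QuasiCompact πW] [GeometricallyIntegral πW] {R Ω : Type u} [CommRing R] [IsDomain R]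
    [Field Ω] [Algebra k R] [Algebra R Ω] [Algebra k Ω] [IsScalarTower k R Ω] [FaithfulSMul R Ω]
    {P : Scheme.{u}} (π : P ⟶ Spec (CommRingCat.of R)) (q : P ⟶ W)
    (H : IsPullback q π πW (Spec.map (CommRingCat.ofHom (algebraMap k R)))) {L : P.Modules} (hL : PicF.IsInvertible L)
    {PΩ : Scheme.{u}} (πΩ : PΩ ⟶ Spec (CommRingCat.of Ω)) (gΩ : PΩ ⟶ P)
    (HΩ : IsPullback gΩ πΩ π (Spec.map (CommRingCat.ofHom (algebraMap R Ω))))
    (htriv : PicM.pull gΩ (PicM.of hL) = 1) :
    ∃ (h : R), h ≠ 0 ∧ ∃ t : Γ(L, P.basicOpen (baseFun π h)), IsGen L _ t := by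
  classical
  let F := FractionRing R
  letI : Algebra F Ω := FractionRing.liftAlgebra R Ω
  have : IsScalarTower R F Ω := inferInstance
  have : IsScalarTower k F Ω := IsScalarTower.of_algebraMap_eq fun c => by
    rw [IsScalarTower.algebraMap_apply k R Ω, IsScalarTower.algebraMap_apply k R F,
      ← IsScalarTower.algebraMap_apply R F Ω]
  let hF : Spec (CommRingCat.of F) ⟶ Spec (CommRingCat.of R) := Spec.map (CommRingCat.ofHom (algebraMap R F))
  let X := pullback π hF
  let g : X ⟶ P := pullback.fst π hF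
  let πX : X ⟶ Spec (CommRingCat.of F) := pullback.snd π hF
  have HF : IsPullback g πX π hF := IsPullback.of_hasPullback π hF
  have hcomp : Spec.map (CommRingCat.ofHom (algebraMap F Ω)) ≫ hF = Spec.map (CommRingCat.ofHom (algebraMap R Ω)) := by
    rw [← Spec.map_comp, ← CommRingCat.ofHom_comp, ← IsScalarTower.algebraMap_eq]
  let g' : PΩ ⟶ X := HF.lift gΩ (πΩ ≫ Spec.map (CommRingCat.ofHom (algebraMap F Ω))) (by
    rw [Category.assoc, hcomp]
    exact HΩ.w)
  have HP : IsPullback g' πΩ πX (Spec.map (CommRingCat.ofHom (algebraMap F Ω))) :=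
    IsPullback.of_right (by rw [HF.lift_fst, hcomp]; exact HΩ) (HF.lift_snd _ _ _) HF
  have HX : IsPullback (g ≫ q) πX πW (Spec.map (CommRingCat.ofHom (algebraMap k F))) := by
    rw [IsScalarTower.algebraMap_eq k R F, CommRingCat.ofHom_comp, Spec.map_comp]
    exact HF.paste_horiz H
  have hsW : IsIntegral W := GeometricallyIntegral.isIntegral_of_subsingleton πW
  have : IsIntegral X := GeometricallyIntegral.geometrically_isIntegral (f := πW) _ _ _ HX
  have HPW : IsPullback (g' ≫ g ≫ q) πΩ πW (Spec.map (CommRingCat.ofHom (algebraMap k Ω))) := by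
    rw [IsScalarTower.algebraMap_eq k F Ω, CommRingCat.ofHom_comp, Spec.map_comp]
    exact HP.paste_horiz HX
  have : IsIntegral PΩ := GeometricallyIntegral.geometrically_isIntegral (f := πW) _ _ _ HPW
  have hqcX : QuasiCompact πX := MorphismProperty.of_isPullback HX inferInstance
  have : IsLocallyNoetherian W := LocallyOfFiniteType.isLocallyNoetherian πW
  have hqsW : QuasiSeparated πW := inferInstance
  have : CompactSpace X := QuasiCompact.compactSpace_of_compactSpace πX
  have : QuasiSeparated πX := MorphismProperty.of_isPullback HX inferInstance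
  have : QuasiSeparatedSpace X := quasiSeparatedSpace_of_quasiSeparated πX
  have hqc : QuasiCompact π := MorphismProperty.of_isPullback H inferInstance
  have : CompactSpace P := QuasiCompact.compactSpace_of_compactSpace π
  have : QuasiSeparated π := MorphismProperty.of_isPullback H inferInstance
  have : QuasiSeparatedSpace P := quasiSeparatedSpace_of_quasiSeparated π
  -- trivial on the generic fibre
  have hX : PicM.pull g (PicM.of hL) = 1 :=
    eq_one_of_pull_field πW πX πΩ (g ≫ q) g' HX HP _ (by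
      rw [PicM.pull_pull, HF.lift_fst]
      exact htriv)
  rw [PicM.pull_of] at hX
  obtain ⟨s, hs⟩ := exists_isGen_top hX
  have : Coh.IsQCoh L := isQCoh_of_isInvertible hL
  let _ : P.Over (Spec (CommRingCat.of R)) := ⟨π⟩
  let _ : X.Over (Spec (CommRingCat.of F)) := ⟨πX⟩
  have HF' : IsPullback g (X ↘ Spec (CommRingCat.of F)) (P ↘ Spec (CommRingCat.of R))
      (Spec.map (CommRingCat.ofHom (algebraMap R F))) := HF
  have : IsAffineHom g := MorphismProperty.IsStableUnderBaseChange.of_isPullback
    (P := @IsAffineHom) HF'.flip inferInstance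
  have : Module.Flat R F := IsLocalization.flat F (nonZeroDivisors R)
  let φ : R →+* Γ(P, ⊤) := Coh.toGlobal (X := P) (A := R) π
  let β : F →+* Γ(X, ⊤) := Coh.toGlobal (X := X) (A := F) πX
  obtain ⟨E, hE⟩ := exists_baseChange_sections g φ β L (appTop_toGlobal g HF')
    (fun U hU => isBCPushout_of_isPullback g HF' hU)
  -- every element of `F ⊗ M` is a fraction
  have hfrac : ∀ z : F ⊗[R] HA φ L (⊤ : P.Opens) 0, ∃ (c : F) (x : HA φ L (⊤ : P.Opens) 0), z = c ⊗ₜ x := by
    intro z
    induction z with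
    | zero => exact ⟨0, 0, by simp⟩
    | tmul c x => exact ⟨c, x, rfl⟩
    | add u v hu hv =>
      obtain ⟨c, x, rfl⟩ := hu
      obtain ⟨c', x', rfl⟩ := hv
      obtain ⟨a, b, rfl⟩ := IsLocalization.exists_mk'_eq (nonZeroDivisors R) c
      obtain ⟨a', b', rfl⟩ := IsLocalization.exists_mk'_eq (nonZeroDivisors R) c'
      refine ⟨IsLocalization.mk' F 1 (b * b'), (a * b' : R) • x + (a' * b : R) • x', ?_⟩
      rw [TensorProduct.tmul_add, ← TensorProduct.smul_tmul, ← TensorProduct.smul_tmul, Algebra.smul_def,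
        Algebra.smul_def, IsLocalization.mul_mk'_eq_mk'_of_mul, IsLocalization.mul_mk'_eq_mk'_of_mul, _root_.mul_one,
        _root_.mul_one, IsLocalization.mk'_cancel, _root_.mul_comm b b', IsLocalization.mk'_cancel]
  obtain ⟨c, x, hcx⟩ := hfrac (E.symm s)
  have hsx : s = β c • (show Γ((Scheme.Modules.pullback g).obj L, ⊤) from pullSec g (secTop φ L x)) := by
    rw [← hE, ← hcx, E.apply_symm_apply]
  have hXne : Nonempty ↥(⊤ : X.Opens) := ⟨⟨Classical.arbitrary X, trivial⟩⟩
  have hc : c ≠ 0 := fun h0 => by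
    rw [h0, map_zero, zero_smul] at hsx
    exact one_ne_zero (α := Γ(X, ⊤)) ((hs ⊤ le_rfl).1 (by simp only [hsx, map_zero, smul_zero]))
  let m : Γ(L, ⊤) := secTop φ L x
  have hgen : IsGen ((Scheme.Modules.pullback g).obj L) (g ⁻¹ᵁ ⊤) (pullSec g m) := by
    obtain ⟨w, hw⟩ := ((isUnit_iff_ne_zero.2 hc).map β).exists_left_inv
    have h1 := hs.smul_unit ((isUnit_iff_ne_zero.2 hc).map β).unit⁻¹
    have h2 : (((isUnit_iff_ne_zero.2 hc).map β).unit⁻¹ : Γ(X, ⊤)ˣ).val • s =
        (show Γ((Scheme.Modules.pullback g).obj L, ⊤) from pullSec g m) := by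
      rw [hsx, ← mul_smul, IsUnit.val_inv_mul, one_smul]
    rw [h2] at h1
    exact h1
  have hglocus : ∀ p : X, g p ∈ glocus L m := by
    have : ⊤ ≤ glocus ((Scheme.Modules.pullback g).obj L) (pullSec g m) :=
      (le_glocus_iff _ _).2 (by rw [resM_self]; exact hgen)
    intro p
    have := this (x := p) trivial
    rwa [glocus_pullSec g hL] at this
  -- on each affine piece
  have hpiece : ∀ y : P, ∃ (U : P.Opens) (h : R), h ≠ 0 ∧ y ∈ U ∧ U ⊓ P.basicOpen (baseFun π h) ≤ glocus L m := by
    intro y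
    obtain ⟨V, hyV, e, he⟩ := exists_isGen hL y
    obtain ⟨U, hU, hyU, hUV⟩ := exists_isAffineOpen_mem_and_subset (x := y) (U := V) hyV
    have he' := he.restrict hUV
    let d := he'.coef le_rfl (resM L le_top m)
    have hd : d • resM L hUV e = resM L le_top m := by
      have := he'.coef_spec le_rfl (resM L le_top m)
      rwa [resM_self] at this
    have hDd : P.basicOpen d ≤ glocus L m := by
      refine (le_glocus_iff _ _).2 ?_
      have h1 := (he'.restrict (P.basicOpen_le d)).smul_unit
        (RingedSpace.isUnit_res_basicOpen P.toRingedSpace d).unit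
      rw [IsUnit.unit_spec] at h1
      convert h1 using 1
      rw [← resM_resM L (le_top : U ≤ ⊤) (P.basicOpen_le d), ← hd, resM_smul]
      rfl
    let ρ : R →+* Γ(P, U) := (P.presheaf.map (homOfLE (le_top (a := U))).op).hom.comp φ
    by_contra hcon
    push Not at hcon
    have hdisj : Disjoint ((Ideal.span {d} : Ideal Γ(P, U)) : Set Γ(P, U))
        ((nonZeroDivisors R).map ρ.toMonoidHom : Submonoid Γ(P, U)) := by
      rw [Set.disjoint_right]
      rintro _ ⟨h, hh, rfl⟩ hmem
      refine hcon U h (nonZeroDivisors.ne_zero hh) hyU ?_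
      refine le_trans ?_ hDd
      obtain ⟨w, hw⟩ := Ideal.mem_span_singleton'.1 hmem
      rw [← P.basicOpen_res (baseFun π h) (homOfLE (le_top (a := U))).op]
      rw [show P.presheaf.map (homOfLE (le_top (a := U))).op (baseFun π h) = ρ h from rfl]
      rw [show ρ.toMonoidHom h = ρ h from rfl] at hw
      rw [← hw, P.basicOpen_mul]
      exact inf_le_right
    obtain ⟨p, hp, hdp, hdis⟩ := Ideal.exists_le_prime_disjoint _ _ hdisj
    let z : P := hU.fromSpec ⟨p, hp⟩
    have hzU : z ∈ U := by rw [← SetLike.mem_coe, ← hU.range_fromSpec]; exact Set.mem_range_self _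
    have hgenpt : π z = (⊥ : PrimeSpectrum R) := by
      refine PrimeSpectrum.ext (eq_bot_iff.2 fun h hh => ?_)
      by_contra hne
      have hmem : ρ h ∈ p := by
        by_contra hnp
        have hz : z ∈ P.basicOpen (ρ h) := by
          have : (⟨p, hp⟩ : PrimeSpectrum Γ(P, U)) ∈ hU.fromSpec ⁻¹ᵁ P.basicOpen (ρ h) := by
            rw [hU.fromSpec_preimage_basicOpen]
            exact hnp
          exact this
        rw [show ρ h = P.presheaf.map (homOfLE (le_top (a := U))).op (baseFun π h) from rfl, P.basicOpen_res] at hz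
        exact ((mem_basicOpen_baseFun π h z).1 hz.2) hh
      exact Set.disjoint_left.1 hdis hmem ⟨h, mem_nonZeroDivisors_of_ne_zero hne, rfl⟩
    obtain ⟨w, hw⟩ : z ∈ Set.range g := by
      rw [show g = pullback.fst π hF from rfl, Scheme.Pullback.range_fst]
      refine ⟨(⊥ : PrimeSpectrum F), ?_⟩
      rw [hgenpt]
      refine PrimeSpectrum.ext ?_
      show Ideal.comap (algebraMap R F) ⊥ = ⊥
      exact Ideal.comap_bot_of_injective _ (IsFractionRing.injective R F)
    have hzg : z ∈ glocus L m ⊓ U := ⟨hw ▸ hglocus w, hzU⟩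
    have hzd : z ∈ P.basicOpen d := by
      have hgT := ((le_glocus_iff m (glocus L m ⊓ U)).1 inf_le_left)
      have hu := (he'.restrict (inf_le_right : glocus L m ⊓ U ≤ U)).isUnit_coef hgT
      have hd' : (he'.restrict (inf_le_right : glocus L m ⊓ U ≤ U)).coef le_rfl (resM L le_top m) =
          P.presheaf.map (homOfLE (inf_le_right : glocus L m ⊓ U ≤ U)).op d :=
        IsGen.coef_eq _ _ (by rw [resM_self, ← resM_smul, hd, resM_resM])
      rw [hd'] at hu
      have := (P.basicOpen_of_isUnit hu).ge hzg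
      rw [P.basicOpen_res] at this
      exact this.2
    have : (⟨p, hp⟩ : PrimeSpectrum Γ(P, U)) ∈ hU.fromSpec ⁻¹ᵁ P.basicOpen d := hzd
    rw [hU.fromSpec_preimage_basicOpen] at this
    exact this (hdp (Ideal.mem_span_singleton_self d))
  choose U h hh hyU hle using hpiece
  obtain ⟨s', hs'⟩ := isCompact_univ.elim_finite_subcover (fun y => (U y : Set P)) (fun y => (U y).isOpen)
    (fun y _ => Set.mem_iUnion.2 ⟨y, hyU y⟩)
  refine ⟨∏ y ∈ s', h y, Finset.prod_ne_zero_iff.2 fun y _ => hh y,
    resM L le_top m, (le_glocus_iff _ _).1 fun z hz => ?_⟩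
  obtain ⟨y, hy, hzy⟩ := Set.mem_iUnion₂.1 (hs' (Set.mem_univ z))
  refine hle y ⟨hzy, (mem_basicOpen_baseFun π _ z).2 fun hmem => ?_⟩
  exact (mem_basicOpen_baseFun π _ z).1 hz (Ideal.mem_of_dvd _ (Finset.dvd_prod_of_mem h hy) hmem)

end Groth.Agent.CubeLib
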